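import Mathlib

/-!
# Solvable joins
-/

namespace Cfsg.Agent.FGS77

variable {G : Type*} [Group G]

/-- An extension of solvable groups along a normalized subgroup is solvable. -/
theorem isSolvable_sup_of_normalizes {R A : Subgroup G} (hR : Group.IsSolvable R)
    (hA : Group.IsSolvable A) (hn : A ≤ Subgroup.normalizer (R : Set G)) :
    Group.IsSolvable ↥(R ⊔ A) := by
  set L := R ⊔ A
  have hL : L ≤ Subgroup.normalizer (R : Set G) := sup_le Subgroup.le_normalizer hn
  haveI : (R.subgroupOf L).Normal :=
    (Subgroup.normal_subgroupOf_iff_le_normalizer (le_sup_left : R ≤ L)).mpr hL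
  refine (Group.isSolvable_iff_subgroup_quotient (R.subgroupOf L)).mpr ⟨?_, ?_⟩
  · exact Group.isSolvable_of_isSolvable_injective
      (Subgroup.subgroupOfEquivOfLe (le_sup_left : R ≤ L)).injective
      (f := (Subgroup.subgroupOfEquivOfLe (le_sup_left : R ≤ L)).toMonoidHom)
  · refine Group.isSolvable_of_surjective
      (f := (QuotientGroup.mk' (R.subgroupOf L)).comp (Subgroup.inclusion (le_sup_right : A ≤ L))) ?_
    intro q
    induction q using QuotientGroup.induction_on with
    | H x =>
      obtain ⟨x, hx⟩ := x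
      have hx' : x ∈ ((R ⊔ A : Subgroup G) : Set G) := hx
      rw [Subgroup.coe_mul_of_right_le_normalizer_left R A hn] at hx'
      obtain ⟨r, hr, a, ha, rfl⟩ := Set.mem_mul.mp hx'
      refine ⟨⟨a, ha⟩, QuotientGroup.eq.mpr ?_⟩
      rw [Subgroup.mem_subgroupOf]
      simpa [mul_assoc] using (Subgroup.mem_normalizer_iff'.mp (hn ha) (a⁻¹ * r)).mpr (by simpa using hr)

end Cfsg.Agent.FGS77
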