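import Cfsg.Agent.FGS77.Basic
import Cfsg.Agent.Lib.Thompson.Cores
import Cfsg.Agent.Lib.Solvable.Basic
import Cfsg.Agent.Lib.PGroup.Basic
import Cfsg.Agent.S0016

/-!
# Solvable ambivalent groups with one class of involutions
-/

set_option autoImplicit false

namespace Cfsg.Agent.FGS77

variable {G : Type*} [Group G] [Finite G]

theorem eq_one_of_real_of_odd (hamb : ∀ x : G, IsConj x x⁻¹) (hodd : ¬ 2 ∣ Nat.card G) (x : G) :
    x = 1 := by
  classical
  haveI : Fact (Nat.Prime 2) := ⟨Nat.prime_two⟩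
  obtain ⟨S⟩ := (inferInstance : Nonempty (Sylow 2 G))
  have hS : (S : Subgroup G) = ⊥ := by
    rw [Subgroup.eq_bot_iff_forall]
    intro s hs
    obtain ⟨k, hk⟩ := IsPGroup.iff_orderOf.mp S.isPGroup' ⟨s, hs⟩
    rcases Nat.eq_zero_or_pos k with rfl | h
    · rw [pow_zero, orderOf_eq_one_iff] at hk
      exact congrArg Subtype.val hk
    · have h1 : orderOf s = 2 ^ k := by rw [← hk, ← Subgroup.orderOf_coe]
      exact absurd (((dvd_pow_self 2 h.ne').trans (dvd_of_eq h1.symm)).trans (orderOf_dvd_natCard s)) hodd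
  have hc : x ∈ Subgroup.centralizer ((S : Subgroup G) : Set G) := by
    rw [hS, Subgroup.mem_centralizer_iff]
    intro a ha
    rw [Subgroup.coe_bot, Set.mem_singleton_iff] at ha
    simp [ha]
  have h2 := sq_eq_one_of_real_of_centralizes_sylow S (hamb x) hc
  by_contra hx
  exact hodd ((orderOf_eq_prime h2 hx) ▸ orderOf_dvd_natCard x)

theorem ambivalent_quotient (hamb : ∀ x : G, IsConj x x⁻¹) (N : Subgroup G) [N.Normal] (x : G ⧸ N) :
    IsConj x x⁻¹ := by
  obtain ⟨g, rfl⟩ := QuotientGroup.mk'_surjective N x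
  rw [← map_inv]
  exact (QuotientGroup.mk' N).map_isConj (hamb g)

/-- A solvable ambivalent group with `O = 1` and one class of involutions has at most one involution. -/
theorem involution_unique [Group.IsSolvable G] (hamb : ∀ x : G, IsConj x x⁻¹)
    (hone : ∀ s t : G, orderOf s = 2 → orderOf t = 2 → IsConj s t) (hO : Cfsg.pPrimeCore 2 G = ⊥)
    {s t : G} (hs : orderOf s = 2) (ht : orderOf t = 2) : s = t := by
  classical
  haveI : Fact (Nat.Prime 2) := ⟨Nat.prime_two⟩
  haveI : Nontrivial G := nontrivial_of_ne s 1 fun h => by rw [h, orderOf_one] at hs; norm_num at hs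
  obtain ⟨M, p, hMn, hMne, hmin, hp, hMp, hMc, hMexp, d, hd, hMcard⟩ :=
    Solvable.exists_minimal_normal_elementary G
  haveI := hMn
  -- `M` is a `2`-group
  have hp2 : p = 2 := by
    by_contra hne
    refine hMne (le_bot_iff.mp (hO ▸ Thompson.le_pPrimeCore hMn ?_))
    rw [hMcard]
    exact Nat.Coprime.pow_left d ((Nat.coprime_primes hp Nat.prime_two).mpr hne)
  subst hp2
  have hMinv : ∀ x : G, orderOf x = 2 → x ∈ M := by
    intro x hx
    obtain ⟨m, hm, hm1⟩ := (Subgroup.bot_or_exists_ne_one M).resolve_left hMne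
    obtain ⟨c, rfl⟩ := isConj_iff.mp (hone m x (orderOf_eq_prime (hMexp m hm) hm1) hx)
    exact hMn.conj_mem m hm c
  set C := Subgroup.centralizer (M : Set G) with hC
  suffices hcen : C = ⊤ by
    obtain ⟨c, rfl⟩ := isConj_iff.mp (hone s t hs ht)
    have hcC : c ∈ C := hcen ▸ Subgroup.mem_top c
    rw [← Subgroup.mem_centralizer_iff.mp hcC s (hMinv s hs), mul_inv_cancel_right]
  by_contra hne
  haveI : Nontrivial (G ⧸ C) := QuotientGroup.nontrivial_iff.mpr hne
  obtain ⟨F, r, hFn, hFne, -, hr, hFr, -, -, -⟩ := Solvable.exists_minimal_normal_elementary (G ⧸ C)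
  haveI := hFn
  haveI : Fact r.Prime := ⟨hr⟩
  set K := F.comap (QuotientGroup.mk' C) with hK
  haveI : K.Normal := hFn.comap _
  have hCK : C ≤ K := fun x hx => by
    rw [hK, Subgroup.mem_comap, QuotientGroup.mk'_apply, (QuotientGroup.eq_one_iff x).mpr hx]
    exact F.one_mem
  have hKnC : ¬ K ≤ C := fun h => hFne (by
    rw [Subgroup.eq_bot_iff_forall]
    intro x hx
    obtain ⟨g, rfl⟩ := QuotientGroup.mk'_surjective C x
    exact (QuotientGroup.eq_one_iff g).mpr (h hx))
  obtain ⟨R0⟩ := (inferInstance : Nonempty (Sylow r K))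
  set R := (R0 : Subgroup K).map K.subtype with hR
  have hRK : R ≤ K := Subgroup.map_subtype_le _
  have hfrat := Sylow.normalizer_sup_eq_top R0
  rw [← hR] at hfrat
  have hRC : C ⊔ R = K := by
    refine le_antisymm (sup_le hCK hRK) fun x hx => ?_
    -- `K / C` is an `r`-group, so it is covered by `R`
    have h1 := Sylow.normalizer_sup_eq_top R0
    have hidx : Nat.Coprime ((R0 : Subgroup K).index) (Nat.card F) := by
      obtain ⟨a, ha⟩ := IsPGroup.iff_card.mp hFr
      rw [ha]
      exact Nat.Coprime.pow_right a ((hr.coprime_iff_not_dvd.mpr R0.not_dvd_index).symm)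
    set f : K →* F := ((QuotientGroup.mk' C).comp K.subtype).codRestrict F (fun y => y.2) with hf
    have hfsurj : Function.Surjective f := by
      rintro ⟨y, hy⟩
      obtain ⟨g, rfl⟩ := QuotientGroup.mk'_surjective C y
      exact ⟨⟨g, hy⟩, rfl⟩
    have hmaptop : (R0 : Subgroup K).map f = ⊤ := by
      rw [← Subgroup.index_eq_one]
      exact Nat.eq_one_of_dvd_coprimes hidx (Subgroup.index_map_dvd _ hfsurj)
        (Subgroup.index_dvd_card _)
    obtain ⟨y, hy, hyx⟩ := (hmaptop ▸ Subgroup.mem_top (f ⟨x, hx⟩) : f ⟨x, hx⟩ ∈ (R0 : Subgroup K).map f)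
    have h2 : (y : G)⁻¹ * x ∈ C := QuotientGroup.eq.mp (congrArg Subtype.val hyx)
    have e : x = (y : G) * ((y : G)⁻¹ * x) := (mul_inv_cancel_left _ _).symm
    rw [e]
    exact mul_mem (Subgroup.mem_sup_right ⟨y, hy, rfl⟩) (Subgroup.mem_sup_left h2)
  -- the fixed points of `K` on `M`
  have hfix : M ⊓ Subgroup.centralizer (K : Set G) = ⊥ := by
    rcases hmin (M ⊓ Subgroup.centralizer (K : Set G)) inferInstance inf_le_left with h | h
    · exact h
    · exfalso
      refine hKnC fun k hk => ?_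
      rw [hC, Subgroup.mem_centralizer_iff]
      intro m hm
      exact (Subgroup.mem_centralizer_iff.mp ((h.ge hm).2) k hk).symm
  have hfixR : ∀ m ∈ M, (∀ y ∈ R, y * m = m * y) → m = 1 := by
    intro m hm hmR
    refine Subgroup.mem_bot.mp (hfix ▸ ⟨hm, ?_⟩)
    have hmC : (C ⊔ R : Subgroup G) ≤ Subgroup.centralizer ({m} : Set G) := sup_le
      (fun c hc => Subgroup.mem_centralizer_singleton_iff.mpr
        (Subgroup.mem_centralizer_iff.mp hc m hm).symm)
      (fun y hy => Subgroup.mem_centralizer_singleton_iff.mpr (hmR y hy))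
    refine Subgroup.mem_centralizer_iff.mpr ?_
    intro k hk
    exact Subgroup.mem_centralizer_singleton_iff.mp (hmC (hRC ▸ hk))
  have hr2 : r ≠ 2 := by
    rintro rfl
    have hRp : IsPGroup 2 R := R0.isPGroup'.map _
    have hsup : IsPGroup 2 (R ⊔ M : Subgroup G) := hRp.to_sup_of_normal_right hMp
    have hne' : M.subgroupOf (R ⊔ M) ≠ ⊥ := by
      rw [Ne, Subgroup.subgroupOf_eq_bot, disjoint_iff, inf_eq_left.mpr le_sup_right]
      exact hMne
    obtain ⟨⟨m, hmsup⟩, ⟨hmM, hmZ⟩, hm1⟩ :=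
      (Subgroup.bot_or_exists_ne_one _).resolve_left (PGroup.inf_center_ne_bot hsup hne')
    refine hm1 (Subtype.ext (hfixR m hmM fun y hy => ?_))
    exact congrArg Subtype.val (Subgroup.mem_center_iff.mp hmZ ⟨y, Subgroup.mem_sup_left hy⟩)
  -- the normalizer of `R` has odd order
  have hRM : R ⊓ M = ⊥ := IsPGroup.disjoint_of_ne r 2 hr2 _ _ (R0.isPGroup'.map _) hMp |>.eq_bot
  have hodd : ¬ 2 ∣ Nat.card (Subgroup.normalizer (R : Set G)) := by
    intro h
    obtain ⟨⟨x, hxN⟩, hx⟩ := exists_prime_orderOf_dvd_card' 2 h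
    have hx' : orderOf x = 2 := by rw [← hx, ← Subgroup.orderOf_coe]
    have hxM := hMinv x hx'
    have hx1 : x ≠ 1 := fun h => by rw [h, orderOf_one] at hx'; norm_num at hx'
    refine hx1 (hfixR x hxM fun y hy => ?_)
    have h1 : x * y * x⁻¹ * y⁻¹ ∈ R ⊓ M := by
      refine ⟨R.mul_mem ((Subgroup.mem_normalizer_iff.mp hxN y).mp hy) (R.inv_mem hy), ?_⟩
      rw [SetLike.mem_coe, mul_assoc x y, mul_assoc x]
      exact M.mul_mem hxM (hMn.conj_mem _ (M.inv_mem hxM) y)
    rw [hRM, Subgroup.mem_bot, mul_inv_eq_one, mul_inv_eq_iff_eq_mul] at h1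
    exact h1.symm
  -- `G / K` is odd, hence trivial
  have hKtop : K = ⊤ := by
    rw [Subgroup.eq_top_iff']
    intro g
    refine (QuotientGroup.eq_one_iff g).mp
      (eq_one_of_real_of_odd (ambivalent_quotient hamb K) (fun h => hodd (h.trans ?_)) _)
    have hsurj : Function.Surjective ((QuotientGroup.mk' K).comp
        (Subgroup.normalizer (R : Set G)).subtype) := by
      intro a
      obtain ⟨g, rfl⟩ := QuotientGroup.mk'_surjective K a
      have hg : g ∈ Subgroup.normalizer (R : Set G) ⊔ K := hfrat ▸ Subgroup.mem_top g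
      rw [← SetLike.mem_coe, Subgroup.mul_normal _ K] at hg
      obtain ⟨n, hn, k, hk, rfl⟩ := hg
      refine ⟨⟨n, hn⟩, ?_⟩
      simp [(QuotientGroup.eq_one_iff k).mpr hk]
    exact Subgroup.card_dvd_of_surjective _ hsurj
  have hFtop : ∀ x : G ⧸ C, x ∈ F := fun x => by
    obtain ⟨g, rfl⟩ := QuotientGroup.mk'_surjective C x
    exact (show g ∈ K from hKtop ▸ Subgroup.mem_top g)
  have hodd' : ¬ 2 ∣ Nat.card (G ⧸ C) := by
    intro h
    obtain ⟨x, hx⟩ := exists_prime_orderOf_dvd_card' (G := G ⧸ C) 2 h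
    obtain ⟨k, hk⟩ := IsPGroup.iff_orderOf.mp hFr ⟨x, hFtop x⟩
    rw [← Subgroup.orderOf_coe, hx] at hk
    exact hr2 ((Nat.prime_dvd_prime_iff_eq Nat.prime_two hr).mp
      (Nat.prime_two.dvd_of_dvd_pow (dvd_of_eq hk))).symm
  exact hFne ((Subgroup.eq_bot_iff_forall _).mpr fun x _ =>
    eq_one_of_real_of_odd (ambivalent_quotient hamb C) hodd' x)

/-- Involutions lift along a quotient by a subgroup of odd order. -/
theorem exists_involution_lift (N : Subgroup G) [N.Normal] (hN : (Nat.card N).Coprime 2)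
    {a : G ⧸ N} (ha : orderOf a = 2) : ∃ g : G, orderOf g = 2 ∧ QuotientGroup.mk' N g = a := by
  obtain ⟨g, rfl⟩ := QuotientGroup.mk'_surjective N a
  set m := Nat.card N
  have hgm : (g ^ m) ^ 2 = 1 := by
    have h : g ^ 2 ∈ N := by
      rw [← QuotientGroup.eq_one_iff, QuotientGroup.mk_pow]
      rw [← ha]; exact pow_orderOf_eq_one _
    rw [← pow_mul, mul_comm, pow_mul]
    exact congrArg Subtype.val (pow_card_eq_one' (x := (⟨g ^ 2, h⟩ : N)))
  have himg : QuotientGroup.mk' N (g ^ m) = QuotientGroup.mk' N g := by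
    obtain ⟨k, hk⟩ := Nat.coprime_two_right.mp hN
    rw [map_pow, show m = 2 * k + 1 from hk, pow_succ, pow_mul]
    conv_lhs => rw [← ha, pow_orderOf_eq_one]
    rw [one_pow, one_mul]
  refine ⟨g ^ m, orderOf_eq_prime hgm fun h => ?_, himg⟩
  rw [h, map_one] at himg
  rw [← himg, orderOf_one] at ha
  norm_num at ha

theorem card_eq_two_of_isCyclic_sylow (hamb : ∀ x : G, IsConj x x⁻¹) (heven : 2 ∣ Nat.card G)
    [Fact (Nat.Prime 2)] (S : Sylow 2 G) (hS : IsCyclic (S : Subgroup G)) : Nat.card S = 2 := by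
  classical
  have hmin : (Nat.card G).minFac = 2 := (Nat.minFac_eq_two_iff _).mpr heven
  have hcomp := IsCyclic.normalizer_le_centralizer hmin hS
  obtain ⟨g, hg⟩ := hS.exists_generator
  set f := MonoidHom.transferSylow S hcomp
  have hc : Subgroup.IsComplement' f.ker (S : Subgroup G) := MonoidHom.ker_transferSylow_isComplement' S hcomp
  have hg2 : (g : G) ^ 2 = 1 := by
    obtain ⟨c, hc'⟩ := isConj_iff.mp (hamb g)
    have h := congrArg f hc'
    have hcomm : ∀ a b : (S : Subgroup G), a * b = b * a := fun a b =>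
      (IsCyclic.isMulCommutative (α := (S : Subgroup G))).is_comm.comm a b
    rw [map_mul, map_mul, map_inv, hcomm (f c), mul_inv_cancel_right, map_inv,
      eq_inv_iff_mul_eq_one, ← map_mul, ← pow_two, ← MonoidHom.mem_ker] at h
    exact Subgroup.mem_bot.mp (hc.disjoint.le_bot ⟨h, (S : Subgroup G).pow_mem g.2 2⟩)
  have hcard : Nat.card (S : Subgroup G) = orderOf g := by
    rw [← Nat.card_zpowers, (Subgroup.eq_top_iff' _).mpr hg, Subgroup.card_top]
  have h1 : orderOf g ∣ 2 := orderOf_dvd_of_pow_eq_one (Subtype.ext hg2)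
  refine le_antisymm (hcard.le.trans (Nat.le_of_dvd two_pos h1)) ?_
  obtain ⟨k, hk⟩ := IsPGroup.iff_card.mp S.isPGroup'
  rw [hk]
  rcases Nat.eq_zero_or_pos k with rfl | hk'
  · exact absurd (S.dvd_card_of_dvd_card heven) (by rw [hk]; norm_num)
  · exact Nat.le_self_pow hk'.ne' 2

/-- The Sylow `2`-subgroup has order `2` or is generalized quaternion. -/
theorem sylow_two_or_quaternion [Group.IsSolvable G] (hamb : ∀ x : G, IsConj x x⁻¹)
    (heven : 2 ∣ Nat.card G) (hone : ∀ s t : G, orderOf s = 2 → orderOf t = 2 → IsConj s t)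
    [Fact (Nat.Prime 2)] (S : Sylow 2 G) :
    Nat.card S = 2 ∨ ∃ n : ℕ, Nonempty ((S : Subgroup G) ≃* QuaternionGroup (2 ^ (n + 1))) := by
  classical
  set O := Cfsg.pPrimeCore 2 G with hO
  have hOc : (Nat.card O).Coprime 2 := Thompson.card_pPrimeCore_coprime
  set φ := QuotientGroup.mk' O
  have hmeet : ∀ s ∈ (S : Subgroup G), s ∈ O → s = 1 := fun s hs hs' =>
    Subgroup.mem_bot.mp (Thompson.inf_eq_bot_of_isPGroup_of_coprime S.isPGroup' hOc ▸ ⟨hs, hs'⟩)
  have hone' : ∀ a b : G ⧸ O, orderOf a = 2 → orderOf b = 2 → IsConj a b := by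
    intro a b ha hb
    obtain ⟨g, hg, rfl⟩ := exists_involution_lift O hOc ha
    obtain ⟨h, hh, rfl⟩ := exists_involution_lift O hOc hb
    exact φ.map_isConj (hone g h hg hh)
  have huniq : ∀ s t : (S : Subgroup G), orderOf s = 2 → orderOf t = 2 → s = t := by
    intro s t hs ht
    have key : ∀ u : (S : Subgroup G), orderOf u = 2 → orderOf (φ u) = 2 := fun u hu => by
      refine orderOf_eq_prime ?_ fun h => ?_
      · have h1 : u ^ 2 = 1 := (congrArg (u ^ ·) hu.symm).trans (pow_orderOf_eq_one u)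
        rw [← map_pow, show (u : G) ^ 2 = ((u ^ 2 : (S : Subgroup G)) : G) from rfl, h1,
          Subgroup.coe_one, map_one]
      · have := hmeet u u.2 ((QuotientGroup.eq_one_iff _).mp h)
        rw [show u = 1 from Subtype.ext this, orderOf_one] at hu
        norm_num at hu
    have h := involution_unique (ambivalent_quotient hamb O) hone' Thompson.pPrimeCore_quotient_pPrimeCore
      (key s hs) (key t ht)
    have h2 := QuotientGroup.eq.mp h
    exact Subtype.ext (inv_mul_eq_one.mp (hmeet _ (mul_mem (inv_mem s.2) t.2) h2))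
  rcases Cfsg.Agent.S0016.result 2 S.isPGroup' (fun A B hA hB => by
    haveI := isCyclic_of_prime_card hA
    obtain ⟨a, ha⟩ := exists_prime_orderOf_dvd_card' (G := A) 2 (by rw [hA])
    obtain ⟨b, hb⟩ := exists_prime_orderOf_dvd_card' (G := B) 2 (by rw [hB])
    rw [← Subgroup.orderOf_coe] at ha hb
    have hA' : Subgroup.zpowers (a : (S : Subgroup G)) = A :=
      Subgroup.eq_of_le_of_card_ge (Subgroup.zpowers_le.mpr a.2) (by rw [hA, Nat.card_zpowers, ha])
    have hB' : Subgroup.zpowers (b : (S : Subgroup G)) = B :=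
      Subgroup.eq_of_le_of_card_ge (Subgroup.zpowers_le.mpr b.2) (by rw [hB, Nat.card_zpowers, hb])
    rw [← hA', ← hB', huniq _ _ ha hb]) with h | ⟨-, n, ⟨e⟩⟩
  · exact Or.inl (card_eq_two_of_isCyclic_sylow hamb heven S h)
  · rcases n with _ | n
    · rw [pow_zero] at e
      haveI : IsCyclic (QuaternionGroup 1) := QuaternionGroup.quaternionGroup_one_isCyclic
      exact Or.inl (card_eq_two_of_isCyclic_sylow hamb heven S (e.isCyclic.mpr inferInstance))
    · exact Or.inr ⟨n, ⟨e⟩⟩

/-- When the Sylow `2`-subgroup has order `2`, the odd core is an inverted abelian complement. -/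
theorem oddCore_of_card_two (hamb : ∀ x : G, IsConj x x⁻¹) [Fact (Nat.Prime 2)] (S : Sylow 2 G)
    (hS : Nat.card S = 2) :
    (S : Subgroup G).IsComplement' (Cfsg.pPrimeCore 2 G) ∧ Cfsg.pPrimeCore 2 G = commutator G ∧
      ∀ t : G, t ∈ (S : Subgroup G) → t ≠ 1 → ∀ x : G, x ∈ Cfsg.pPrimeCore 2 G →
        t * x * t⁻¹ = x⁻¹ := by
  classical
  have heven : 2 ∣ Nat.card G := by rw [← hS]; exact Subgroup.card_subgroup_dvd_card _
  have hmin : (Nat.card G).minFac = 2 := (Nat.minFac_eq_two_iff _).mpr heven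
  have hcyc : IsCyclic (S : Subgroup G) := isCyclic_of_prime_card hS
  have hcomp := IsCyclic.normalizer_le_centralizer hmin hcyc
  set K := (MonoidHom.transferSylow S hcomp).ker
  have hc : Subgroup.IsComplement' K (S : Subgroup G) := MonoidHom.ker_transferSylow_isComplement' S hcomp
  set O := Cfsg.pPrimeCore 2 G
  have hOc : (Nat.card O).Coprime 2 := Thompson.card_pPrimeCore_coprime
  have hKO : K = O := by
    have hKle : K ≤ O := Thompson.le_pPrimeCore inferInstance
      (Nat.coprime_comm.mp (Nat.prime_two.coprime_iff_not_dvd.mpr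
        (MonoidHom.not_dvd_card_ker_transferSylow S hcomp)))
    refine Subgroup.eq_of_le_of_card_ge hKle (Nat.le_of_dvd Nat.card_pos ?_)
    refine (Nat.Coprime.dvd_of_dvd_mul_right hOc ?_)
    rw [← hS, hc.card_mul]
    exact O.card_subgroup_dvd_card
  have hKidx : K.index = 2 := hS ▸ hc.symm.index_eq_card
  have hquot : ∀ x : G, x ^ 2 ∈ commutator G := by
    intro x
    obtain ⟨c, hc⟩ := isConj_iff.mp (hamb x)
    rw [commutator_def]
    have h := Subgroup.commutator_mem_commutator (Subgroup.mem_top c) (Subgroup.mem_top x)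
    rw [commutatorElement_def, hc] at h
    have h' := Subgroup.inv_mem _ h
    simpa [pow_two] using h'
  refine ⟨hKO ▸ hc.symm, ?_, ?_⟩
  · apply le_antisymm
    · intro x hx
      obtain ⟨k, hk⟩ := Nat.coprime_two_right.mp hOc
      have h1 : x ^ Nat.card O = 1 := congrArg Subtype.val (pow_card_eq_one' (x := (⟨x, hx⟩ : O)))
      rw [hk, pow_succ, pow_mul] at h1
      rw [eq_inv_of_mul_eq_one_right h1]
      exact Subgroup.inv_mem _ (Subgroup.pow_mem _ (hquot x) k)
    · rw [← hKO]
      intro x hx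
      have hcomm : Subgroup.map (MonoidHom.transferSylow S hcomp) (commutator G) ≤ ⊥ := by
        rw [Subgroup.map_le_iff_le_comap, commutator_def, Subgroup.commutator_le]
        intro a _ b _
        rw [Subgroup.mem_comap, Subgroup.mem_bot, map_commutatorElement,
          commutatorElement_eq_one_iff_mul_comm]
        exact (IsCyclic.isMulCommutative (α := (S : Subgroup G))).is_comm.comm _ _
      exact Subgroup.mem_bot.mp (hcomm ⟨x, hx, rfl⟩)
  · intro t ht ht1 x hx
    haveI hOn : O.Normal := inferInstance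
    haveI hOf : Finite O := inferInstance
    have ht2 : t ^ 2 = 1 := by
      have := congrArg Subtype.val (pow_card_eq_one' (x := (⟨t, ht⟩ : (S : Subgroup G))))
      rwa [hS] at this
    have hSz : (S : Subgroup G) = Subgroup.zpowers t := by
      refine (Subgroup.eq_of_le_of_card_ge (Subgroup.zpowers_le.mpr ht) ?_).symm
      rw [Nat.card_zpowers, orderOf_eq_prime ht2 ht1]
      exact le_of_eq hS
    let τ : O →* O :=
      { toFun := fun y => ⟨t * y * t⁻¹, hOn.conj_mem y y.2 t⟩
        map_one' := Subtype.ext (by simp)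
        map_mul' := fun a b => Subtype.ext (by simp [mul_assoc]) }
    have hfpf : MonoidHom.FixedPointFree τ := by
      intro y hy
      have h : t * (y : G) * t⁻¹ = y := congrArg Subtype.val hy
      have hcen : (y : G) ∈ Subgroup.centralizer ((S : Subgroup G) : Set G) := by
        rw [hSz, Subgroup.mem_centralizer_iff]
        rintro _ ⟨i, rfl⟩
        exact ((show Commute t (y : G) from mul_inv_eq_iff_eq_mul.mp h).zpow_left i).eq
      have h2 := sq_eq_one_of_real_of_centralizes_sylow S (hamb y) hcen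
      by_contra hy1
      have ho : orderOf y = 2 := by
        rw [← Subgroup.orderOf_coe]
        exact orderOf_eq_prime h2 fun h' => hy1 (Subtype.ext h')
      exact Nat.prime_two.coprime_iff_not_dvd.mp hOc.symm (ho ▸ orderOf_dvd_natCard y)
    have hinvol : (τ : O → O)^[2] = _root_.id := by
      funext y
      apply Subtype.ext
      show t * (t * (y : G) * t⁻¹) * t⁻¹ = y
      rw [pow_two] at ht2
      calc t * (t * (y : G) * t⁻¹) * t⁻¹ = (t * t) * y * (t * t)⁻¹ := by group
        _ = y := by rw [ht2]; group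
    exact congrArg Subtype.val (congrFun (hfpf.coe_eq_inv_of_sq_eq_one hinvol) ⟨x, hx⟩)

end Cfsg.Agent.FGS77
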