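import Cfsg.Agent.PLocalB.PConstrained

/-!
# Arithmetic of `p`-lengths (S3790, S3791)
-/

set_option autoImplicit false

open Subgroup
open scoped commutatorElement

namespace Cfsg.Agent.FGS77.PLengthArith

universe u

variable {G : Type u} [Group G] [Finite G] {p : ℕ} [hp : Fact p.Prime]

theorem le_upper_add {n m : ℕ} (h : n ≤ m) :
    (Cfsg.upperPSeries p G n).1 ≤ (Cfsg.upperPSeries p G m).1 := by
  induction h with
  | refl => exact le_rfl
  | step _ ih => exact ih.trans (PLocalB.upperPSeries_le_succ _)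

theorem relIndex_comap_mk (W : Subgroup G) [W.Normal] (C : Subgroup (G ⧸ W)) :
    W.relIndex (C.comap (QuotientGroup.mk' W)) = Nat.card C := by
  have h : W = (⊥ : Subgroup (G ⧸ W)).comap (QuotientGroup.mk' W) := by
    rw [MonoidHom.comap_bot, QuotientGroup.ker_mk']
  nth_rewrite 1 [h]
  rw [relIndex_comap, map_comap_eq_self_of_surjective (QuotientGroup.mk'_surjective W),
    relIndex_bot_left]

theorem upper_step_even {n : ℕ} (hn : Even n) :
    ((Cfsg.upperPSeries p G n).1.relIndex (Cfsg.upperPSeries p G (n + 1)).1).Coprime p := by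
  set W := (Cfsg.upperPSeries p G n).1
  have : (Cfsg.upperPSeries p G (n + 1)).1 =
      (Cfsg.pPrimeCore p (G ⧸ W)).comap (QuotientGroup.mk' W) := by
    rw [Cfsg.upperPSeries, if_pos hn]
  rw [this, relIndex_comap_mk]
  exact Thompson.card_pPrimeCore_coprime

theorem upper_step_odd {n : ℕ} (hn : ¬ Even n) :
    ∃ m, (Cfsg.upperPSeries p G n).1.relIndex (Cfsg.upperPSeries p G (n + 1)).1 = p ^ m := by
  set W := (Cfsg.upperPSeries p G n).1
  have : (Cfsg.upperPSeries p G (n + 1)).1 =
      (Cfsg.pCore p (G ⧸ W)).comap (QuotientGroup.mk' W) := by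
    rw [Cfsg.upperPSeries, if_neg hn]
  rw [this, relIndex_comap_mk]
  exact IsPGroup.iff_card.mp Thompson.isPGroup_pCore

/-- A normal `p'`-step is absorbed by the upper series. -/
theorem absorb_coprime {N M : Subgroup G} [hM : M.Normal] (hc : (N.relIndex M).Coprime p) {i : ℕ}
    (hN : N ≤ (Cfsg.upperPSeries p G (2 * i + 1)).1) :
    M ≤ (Cfsg.upperPSeries p G (2 * i + 1)).1 := by
  set U := (Cfsg.upperPSeries p G (2 * i + 1)).1
  have hn : (M.map (QuotientGroup.mk' U)).Normal := hM.map _ (QuotientGroup.mk'_surjective U)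
  have h1 : (Nat.card (M.map (QuotientGroup.mk' U))).Coprime p := by
    rw [← relIndex_ker, QuotientGroup.ker_mk']
    exact Nat.Coprime.coprime_dvd_left (relIndex_dvd_of_le_left M hN) hc
  have h2 := Thompson.le_pPrimeCore hn h1
  rw [PLocalB.pPrimeCore_quotient_upperPSeries, le_bot_iff, Subgroup.map_eq_bot_iff,
    QuotientGroup.ker_mk'] at h2
  exact h2

/-- A normal `p`-step advances the upper series by one round. -/
theorem absorb_pow {N M : Subgroup G} [hM : M.Normal] (hc : ∃ m, N.relIndex M = p ^ m) {i : ℕ}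
    (hN : N ≤ (Cfsg.upperPSeries p G (2 * i + 1)).1) :
    M ≤ (Cfsg.upperPSeries p G (2 * i + 2)).1 := by
  set U := (Cfsg.upperPSeries p G (2 * i + 1)).1
  have hn : (M.map (QuotientGroup.mk' U)).Normal := hM.map _ (QuotientGroup.mk'_surjective U)
  have h1 : IsPGroup p (M.map (QuotientGroup.mk' U)) := by
    obtain ⟨m, hm⟩ := hc
    obtain ⟨j, -, hj⟩ := (Nat.dvd_prime_pow hp.out).mp (hm ▸ relIndex_dvd_of_le_left M hN)
    exact IsPGroup.of_card (n := j) (by rw [← relIndex_ker, QuotientGroup.ker_mk', hj])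
  have h2 : M.map (QuotientGroup.mk' U) ≤ Cfsg.pCore p (G ⧸ U) := Thompson.le_pCore hn h1
  rw [show 2 * i + 2 = 2 * i + 1 + 1 from rfl, Cfsg.upperPSeries, if_neg (by simp)]
  exact map_le_iff_le_comap.mp h2

/-- The sandwich of a normal series between two normal subgroups. -/
theorem sandwich_dvd {W W' M N : Subgroup G} [W.Normal] [W'.Normal] [M.Normal] [N.Normal]
    (hW : W ≤ W') (hMN : M ≤ N) :
    ((W ⊓ N) ⊔ M).relIndex ((W' ⊓ N) ⊔ M) ∣ W.relIndex W' ∧
    ((W ⊓ N) ⊔ M).relIndex ((W' ⊓ N) ⊔ M) ∣ M.relIndex N := by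
  set A := (W ⊓ N) ⊔ M
  constructor
  · have h1 : (W' ⊓ N) ⊔ M = (W' ⊓ N) ⊔ A := le_antisymm (sup_le_sup_left le_sup_right _)
      (sup_le le_sup_left (sup_le ((inf_le_inf_right N hW).trans le_sup_left) le_sup_right))
    have h3 : (W ⊓ N).relIndex (W' ⊓ N) = W.relIndex (W' ⊓ N) := by
      rw [← inf_relIndex_right W (W' ⊓ N), ← inf_relIndex_right (W ⊓ N) (W' ⊓ N)]
      congr 1
      rw [inf_assoc, inf_eq_right.mpr (inf_le_right : W' ⊓ N ≤ N)]
    rw [h1, relIndex_sup_right]
    refine (relIndex_dvd_of_le_left (W' ⊓ N) (le_sup_left : W ⊓ N ≤ A)).trans ?_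
    rw [h3]
    have hn : (W.subgroupOf W').Normal := inferInstance
    have h4 : W.relIndex (W' ⊓ N) = (W.subgroupOf W').relIndex ((W' ⊓ N).subgroupOf W') :=
      (relIndex_subgroupOf inf_le_left).symm
    rw [h4]
    exact relIndex_dvd_index_of_normal _ _
  · have h1 : M ≤ A := le_sup_right
    have h2 : A ≤ (W' ⊓ N) ⊔ M := sup_le_sup_right (inf_le_inf_right N hW) M
    have h3 : (W' ⊓ N) ⊔ M ≤ N := sup_le inf_le_right hMN
    exact (Dvd.intro_left _ (relIndex_mul_relIndex M A _ h1 h2)).trans
      (Dvd.intro _ (relIndex_mul_relIndex M _ N (h1.trans h2) h3))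

/-- The main induction for the product bound. -/
theorem product_bound : ∀ (m : ℕ) (q : Fin m → ℕ), (∀ j, (q j).Prime) → (∀ j, q j ≠ p) →
    ∀ l : Fin m → ℕ, (∀ j, Cfsg.PLengthLE (q j) (l j) G) →
    ∀ (M N : Subgroup G) [M.Normal] [N.Normal], M ≤ N →
      (∀ s : ℕ, s.Prime → s ∣ M.relIndex N → s = p ∨ ∃ j, q j = s) →
      ∀ i, M ≤ (Cfsg.upperPSeries p G (2 * i + 1)).1 →
        N ≤ (Cfsg.upperPSeries p G (2 * (i + ∏ j, (1 + l j)) + 1)).1 := by
  intro m
  induction m with
  | zero =>
    intro q _ _ l _ M N _ _ hMN hs i hM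
    have hpow : ∃ k, M.relIndex N = p ^ k := by
      refine ⟨_, Nat.eq_prime_pow_of_unique_prime_dvd ?_ fun {s} hs' hsd =>
        (hs s hs' hsd).resolve_right fun ⟨j, _⟩ => j.elim0⟩
      exact Subgroup.index_ne_zero_of_finite
    refine (absorb_pow hpow hM).trans (le_upper_add ?_)
    simp
  | succ m ih =>
    intro q hq hqp l hl M N _ _ hMN hs i hM
    have := Fact.mk (hq (Fin.last m))
    set Q := q (Fin.last m)
    set W := fun t => (Cfsg.upperPSeries Q G t).1 with hW
    set A := fun t => (W t ⊓ N) ⊔ M with hA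
    set P' := ∏ j : Fin m, (1 + l j.castSucc)
    have hAn : ∀ t, (A t).Normal := fun t => inferInstance
    have hmono : ∀ t, A t ≤ A (t + 1) := fun t =>
      sup_le_sup_right (inf_le_inf_right N (PLocalB.upperPSeries_le_succ t)) M
    have hdvd : ∀ t, (A t).relIndex (A (t + 1)) ∣ (W t).relIndex (W (t + 1)) ∧
        (A t).relIndex (A (t + 1)) ∣ M.relIndex N := fun t =>
      sandwich_dvd (PLocalB.upperPSeries_le_succ t) hMN
    have heven : ∀ t, Even t → ∀ k, A t ≤ (Cfsg.upperPSeries p G (2 * k + 1)).1 →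
        A (t + 1) ≤ (Cfsg.upperPSeries p G (2 * (k + P') + 1)).1 := by
      intro t ht k hk
      refine ih (fun j => q j.castSucc) (fun j => hq _) (fun j => hqp _) (fun j => l j.castSucc)
        (fun j => hl _) (A t) (A (t + 1)) (hmono t) (fun s hs' hsd => ?_) k hk
      rcases hs s hs' (hsd.trans (hdvd t).2) with h | ⟨j, hj⟩
      · exact Or.inl h
      · refine Or.inr ?_
        induction j using Fin.lastCases with
        | last =>
          exfalso
          have h1 := (upper_step_even (p := Q) (G := G) ht).coprime_dvd_left (hsd.trans (hdvd t).1)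
          exact hs'.ne_one ((Nat.coprime_self s).mp (by rwa [show Q = s from hj] at h1))
        | cast j => exact ⟨j, hj⟩
    have hodd : ∀ t, ¬ Even t → ∀ k, A t ≤ (Cfsg.upperPSeries p G (2 * k + 1)).1 →
        A (t + 1) ≤ (Cfsg.upperPSeries p G (2 * k + 1)).1 := by
      intro t ht k hk
      refine absorb_coprime ?_ hk
      obtain ⟨e, he⟩ := upper_step_odd (p := Q) (G := G) ht
      exact Nat.Coprime.coprime_dvd_left (he ▸ (hdvd t).1)
        (Nat.Coprime.pow_left _ ((Nat.coprime_primes (hq _) hp.out).mpr (hqp _)))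
    have main : ∀ c, A (2 * c + 1) ≤ (Cfsg.upperPSeries p G (2 * (i + (c + 1) * P') + 1)).1 := by
      intro c
      induction c with
      | zero =>
        rw [zero_add, one_mul]
        refine heven 0 Even.zero i ?_
        exact sup_le (inf_le_left.trans (by simp [hW, Cfsg.upperPSeries])) hM
      | succ c ihc =>
        have := heven (2 * c + 1 + 1) (by simp [parity_simps]) _ (hodd _ (by simp) _ ihc)
        rwa [show i + (c + 1 + 1) * P' = i + (c + 1) * P' + P' by ring]
    have htop : A (2 * l (Fin.last m) + 1) = N := by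
      have : W (2 * l (Fin.last m) + 1) = ⊤ := hl (Fin.last m)
      simp only [hA, this, top_inf_eq]
      exact sup_eq_left.mpr hMN
    have := main (l (Fin.last m))
    rw [htop] at this
    refine this.trans (le_upper_add (le_of_eq ?_))
    rw [Fin.prod_univ_castSucc]
    ring

omit [Finite G] hp in
theorem relIndex_map_dvd {H : Type u} [Group H] (W W' : Subgroup G) [W.Normal] (hW : W ≤ W')
    (f : G →* H) : (W.map f).relIndex (W'.map f) ∣ W.relIndex W' := by
  rw [relIndex_map_map, show W' ⊔ f.ker = W' ⊔ (W ⊔ f.ker) by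
    rw [← sup_assoc, sup_eq_left.mpr hW], relIndex_sup_right]
  exact relIndex_dvd_of_le_left _ le_sup_left

/-- Images of the upper series. -/
theorem map_upper_le {H : Type u} [Group H] [Finite H] (f : G →* H) (hf : Function.Surjective f)
    (i : ℕ) : ∀ k, (Cfsg.upperPSeries p G (2 * i + k)).1.map f ≤ ⊥ → ∀ j,
      (Even k → (Cfsg.upperPSeries p G (2 * i + k + (2 * j + 1))).1.map f ≤
        (Cfsg.upperPSeries p H (2 * j + 1)).1) := by
  intro k h0 j hk
  induction j with
  | zero =>
    have hn : ((Cfsg.upperPSeries p G (2 * i + k + 1)).1.map f).Normal := Normal.map inferInstance f hf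
    refine absorb_coprime (N := ⊥) ?_ bot_le (M := (Cfsg.upperPSeries p G (2 * i + k + 1)).1.map f)
    rw [le_bot_iff] at h0
    rw [← h0]
    exact (upper_step_even (by simp [parity_simps, hk])).coprime_dvd_left
      (relIndex_map_dvd _ _ (PLocalB.upperPSeries_le_succ _) f)
  | succ j ih =>
    have h1 : (Cfsg.upperPSeries p G (2 * i + k + (2 * j + 1) + 1)).1.map f ≤
        (Cfsg.upperPSeries p H (2 * j + 2)).1 := by
      have hn : ((Cfsg.upperPSeries p G (2 * i + k + (2 * j + 1) + 1)).1.map f).Normal :=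
        Normal.map inferInstance f hf
      refine absorb_pow ?_ ih
      obtain ⟨e, he⟩ := upper_step_odd (p := p) (G := G) (n := 2 * i + k + (2 * j + 1))
        (by simp [parity_simps, hk])
      obtain ⟨e', -, he'⟩ := (Nat.dvd_prime_pow hp.out).mp
        (he ▸ relIndex_map_dvd (Cfsg.upperPSeries p G (2 * i + k + (2 * j + 1))).1 _ (PLocalB.upperPSeries_le_succ _) f)
      exact ⟨e', he'⟩
    have hn : ((Cfsg.upperPSeries p G (2 * i + k + (2 * (j + 1) + 1))).1.map f).Normal :=
      Normal.map inferInstance f hf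
    refine absorb_coprime ?_ (h1.trans (le_upper_add (by omega)))
    rw [show 2 * i + k + (2 * (j + 1) + 1) = 2 * i + k + (2 * j + 1) + 1 + 1 by ring]
    exact (upper_step_even (by simp [parity_simps, hk])).coprime_dvd_left
      (relIndex_map_dvd _ _ (PLocalB.upperPSeries_le_succ _) f)

theorem plength_quotient {H : Type u} [Group H] [Finite H] (f : G →* H) (hf : Function.Surjective f)
    {l : ℕ} (h : Cfsg.PLengthLE p l G) : Cfsg.PLengthLE p l H := by
  have := map_upper_le (p := p) f hf 0 0 (by simp [Cfsg.upperPSeries]) l Even.zero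
  rw [show 2 * 0 + 0 + (2 * l + 1) = 2 * l + 1 by ring, show (Cfsg.upperPSeries p G (2 * l + 1)).1 = ⊤ from h,
    map_top_of_surjective f hf] at this
  exact top_le_iff.mp this

theorem upper_one_le : (Cfsg.upperPSeries p G 1).1 ≤ Cfsg.pPrimeCore p G := by
  have h := upper_step_even (p := p) (G := G) (n := 0) Even.zero
  rw [show (Cfsg.upperPSeries p G 0).1 = ⊥ by simp [Cfsg.upperPSeries], relIndex_bot_left] at h
  exact Thompson.le_pPrimeCore inferInstance h

theorem plength_quotient_pCore (hO : Cfsg.pPrimeCore p G = ⊥) {l : ℕ}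
    (h : Cfsg.PLengthLE p (l + 1) G) : Cfsg.PLengthLE p l (G ⧸ Cfsg.pCore p G) := by
  set f := QuotientGroup.mk' (Cfsg.pCore p G)
  have hf := QuotientGroup.mk'_surjective (Cfsg.pCore p G)
  have h1 : (Cfsg.upperPSeries p G 1).1 = ⊥ := by
    have := upper_one_le (p := p) (G := G)
    rw [hO] at this
    exact le_bot_iff.mp this
  have h2 : (Cfsg.upperPSeries p G 2).1 ≤ Cfsg.pCore p G := by
    obtain ⟨e, he⟩ := upper_step_odd (p := p) (G := G) (n := 1) (by decide)
    rw [h1, relIndex_bot_left] at he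
    exact Thompson.le_pCore inferInstance (IsPGroup.of_card he)
  have := map_upper_le (p := p) f hf 1 0 (by
    rw [le_bot_iff, Subgroup.map_eq_bot_iff, QuotientGroup.ker_mk']; exact h2) l Even.zero
  rw [show 2 * 1 + 0 + (2 * l + 1) = 2 * (l + 1) + 1 by ring,
    show (Cfsg.upperPSeries p G (2 * (l + 1) + 1)).1 = ⊤ from h, map_top_of_surjective f hf] at this
  exact top_le_iff.mp this

/-- Iterating the derived series through a normal subgroup. -/
theorem derivedSeries_add_le {O : Subgroup G} {s : ℕ} (hs : derivedSeries G s ≤ O) :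
    ∀ k, derivedSeries G (s + k) ≤ (derivedSeries O k).map O.subtype := by
  intro k
  induction k with
  | zero => rw [add_zero, derivedSeries_zero, ← MonoidHom.range_eq_map, range_subtype]; exact hs
  | succ k ih =>
    rw [← add_assoc, derivedSeries_succ, derivedSeries_succ, map_commutator]
    exact commutator_mono ih ih

omit [Finite G] in
theorem derivedSeries_le_of_quotient {N : Subgroup G} [N.Normal] {s : ℕ}
    (h : derivedSeries (G ⧸ N) s = ⊥) : derivedSeries G s ≤ N := by
  have := map_derivedSeries_le_derivedSeries (QuotientGroup.mk' N) s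
  rwa [h, le_bot_iff, Subgroup.map_eq_bot_iff, QuotientGroup.ker_mk'] at this

theorem derived_bound_aux : ∀ (n : ℕ) {G : Type u} [Group G] [Finite G] (r : ℕ) (q : Fin r → ℕ),
    (∀ i, (q i).Prime) → (∀ s : ℕ, s.Prime → s ∣ Nat.card G → ∃ i, q i = s) →
    ∀ d l : Fin r → ℕ,
    (∀ i, ∀ S : Sylow (q i) G, derivedSeries (S : Subgroup G) (d i) = ⊥) →
    (∀ i, Cfsg.PLengthLE (q i) (l i) G) → Nat.card G + ∑ i, l i ≤ n →
      derivedSeries G (∑ i, d i * l i) = ⊥ := by
  intro n
  induction n with
  | zero => intro G _ _ r q _ _ d l _ _ hn; exact absurd hn (by have := Nat.card_pos (α := G); omega)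
  | succ n ih =>
    intro G _ _ r q hq hcov d l hd hl hn
    have hsyl : ∀ (N : Subgroup G) [N.Normal] (i : Fin r), ∀ S : Sylow (q i) (G ⧸ N),
        derivedSeries (S : Subgroup (G ⧸ N)) (d i) = ⊥ := by
      intro N _ i S
      have := Fact.mk (hq i)
      obtain ⟨S₀⟩ : Nonempty (Sylow (q i) G) := inferInstance
      obtain ⟨g, hg⟩ := MulAction.exists_smul_eq (G ⧸ N)
        (S₀.mapSurjective (QuotientGroup.mk'_surjective N)) S
      let f : (S₀ : Subgroup G) →* (S : Subgroup (G ⧸ N)) :=
        (((MulAut.conj g).toMonoidHom.comp (QuotientGroup.mk' N)).comp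
          (S₀ : Subgroup G).subtype).codRestrict _ fun x => by
          rw [← hg, Sylow.coe_subgroup_smul]
          exact smul_mem_pointwise_smul _ (MulAut.conj g) _ ⟨x, x.2, rfl⟩
      have hfs : Function.Surjective f := by
        intro y
        have hy : (y : G ⧸ N) ∈ ((g • S₀.mapSurjective (QuotientGroup.mk'_surjective N) :
            Sylow (q i) (G ⧸ N)) : Subgroup (G ⧸ N)) := by rw [hg]; exact y.2
        rw [Sylow.coe_subgroup_smul] at hy
        obtain ⟨z, ⟨x, hx, rfl⟩, hxy⟩ := hy
        exact ⟨⟨x, hx⟩, Subtype.ext hxy⟩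
      rw [← map_derivedSeries_eq hfs, hd i S₀, Subgroup.map_bot]
    have hcovQ : ∀ (N : Subgroup G) [N.Normal], ∀ s : ℕ, s.Prime → s ∣ Nat.card (G ⧸ N) →
        ∃ i, q i = s := fun N _ s hs h =>
      hcov s hs (h.trans (Dvd.intro _ (card_eq_card_quotient_mul_card_subgroup N).symm))
    by_cases hall : ∀ i, Cfsg.pPrimeCore (q i) G ≠ ⊥
    · have hle : ∀ i, derivedSeries G (∑ i, d i * l i) ≤ Cfsg.pPrimeCore (q i) G := fun i => by
        refine derivedSeries_le_of_quotient (ih r q hq (hcovQ _) d l (hsyl _) (fun j => ?_) ?_)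
        · have := Fact.mk (hq j)
          exact plength_quotient _ (QuotientGroup.mk'_surjective _) (hl j)
        · have h1 := card_eq_card_quotient_mul_card_subgroup (Cfsg.pPrimeCore (q i) G)
          have h2 : 2 ≤ Nat.card (Cfsg.pPrimeCore (q i) G) := (one_lt_card_iff_ne_bot _).mpr (hall i)
          have h3 := Nat.mul_le_mul_left (Nat.card (G ⧸ Cfsg.pPrimeCore (q i) G)) h2
          have h4 : 0 < Nat.card (G ⧸ Cfsg.pPrimeCore (q i) G) := Nat.card_pos
          omega
      rw [eq_bot_iff]
      intro x hx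
      rw [mem_bot, ← orderOf_eq_one_iff]
      by_contra hne
      obtain ⟨s, hs, hsd⟩ := Nat.exists_prime_and_dvd hne
      obtain ⟨i, rfl⟩ := hcov s hs (hsd.trans (orderOf_dvd_natCard x))
      have := Fact.mk (hq i)
      exact Thompson.not_dvd_card_pPrimeCore (hsd.trans (orderOf_dvd_natCard _ (hle i hx)))
    push Not at hall
    obtain ⟨i, hi⟩ := hall
    have := Fact.mk (hq i)
    obtain ⟨li, hli⟩ | hli := (em (∃ k, l i = k + 1))
    · set O := Cfsg.pCore (q i) G
      let l' := Function.update l i li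
      have hsum : ∑ j, l j = (∑ j, l' j) + 1 := by
        rw [← Finset.add_sum_erase _ _ (Finset.mem_univ i), ← Finset.add_sum_erase _ l' (Finset.mem_univ i),
          Finset.sum_congr rfl (fun j hj => show l' j = l j from
            Function.update_of_ne (Finset.ne_of_mem_erase hj) _ _), hli]
        simp [l']
        ring
      have hdsum : ∑ j, d j * l j = (∑ j, d j * l' j) + d i := by
        rw [← Finset.add_sum_erase _ _ (Finset.mem_univ i),
          ← Finset.add_sum_erase _ (fun j => d j * l' j) (Finset.mem_univ i),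
          Finset.sum_congr rfl (fun j hj => show d j * l' j = d j * l j by
            simp [l', Function.update_of_ne (Finset.ne_of_mem_erase hj)]), hli]
        simp [l']
        ring
      have h1 : derivedSeries G (∑ j, d j * l' j) ≤ O := by
        refine derivedSeries_le_of_quotient (ih r q hq (hcovQ _) d l' (hsyl _) (fun j => ?_) ?_)
        · by_cases hj : j = i
          · subst hj
            have hu : l' j = li := Function.update_self _ _ _
            rw [hu]
            exact plength_quotient_pCore hi (hli ▸ hl j)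
          · have := Fact.mk (hq j)
            have hu : l' j = l j := Function.update_of_ne hj _ _
            rw [hu]
            exact plength_quotient _ (QuotientGroup.mk'_surjective _) (hl j)
        · have h2 : Nat.card (G ⧸ O) ≤ Nat.card G :=
            Nat.card_le_card_of_surjective _ (QuotientGroup.mk'_surjective O)
          omega
      rw [hdsum, eq_bot_iff]
      refine (derivedSeries_add_le h1 (d i)).trans ?_
      obtain ⟨S⟩ : Nonempty (Sylow (q i) G) := inferInstance
      have hOS : O ≤ (S : Subgroup G) := Thompson.pCore_le_sylow S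
      rintro _ ⟨x, hx, rfl⟩
      have := map_derivedSeries_le_derivedSeries (inclusion hOS) (d i) ⟨x, hx, rfl⟩
      rw [hd i S, mem_bot] at this
      exact mem_bot.mpr (congrArg Subtype.val this)
    · have h0 : l i = 0 := by
        by_contra h
        exact hli ⟨l i - 1, by omega⟩
      have h1 : (Cfsg.upperPSeries (q i) G 1).1 = ⊤ := by simpa [h0, Cfsg.PLengthLE] using hl i
      have h2 : (⊤ : Subgroup G) ≤ ⊥ := by
        rw [← h1, ← hi]; exact upper_one_le
      exact le_bot_iff.mp (le_top.trans h2)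

end Cfsg.Agent.FGS77.PLengthArith
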