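import Cfsg.Agent.FGS77.PrimeOrder
import Cfsg.Agent.Lib.CharCore.Burnside

/-!
# Nonsolvable groups with four automorphism orbits: reduction to a simple group
-/

set_option autoImplicit false

universe u

namespace Cfsg.Agent.FGS77

open scoped IsMulCommutative

theorem isSolvable_of_primes_subset_pair {G : Type u} [Group G] [Finite G] {p q : ℕ} (hp : p.Prime)
    (hq : q.Prime) (h : ∀ r : ℕ, r.Prime → r ∣ Nat.card G → r = p ∨ r = q) : Group.IsSolvable G := by
  set n := Nat.card G with hn
  have hn0 : n ≠ 0 := Nat.card_pos.ne'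
  rcases eq_or_ne p q with rfl | hne
  · refine CharCore.isSolvable_of_card_eq_prime_pow_mul hp hp _ G (n.factorization p) 0 rfl ?_
    rw [pow_zero, mul_one]
    refine Nat.eq_of_factorization_eq hn0 (pow_ne_zero _ hp.ne_zero) fun r => ?_
    rw [Nat.Prime.factorization_pow hp, Finsupp.single_apply]
    by_cases hr : p = r
    · subst hr; simp [hn]
    · rw [if_neg hr, Nat.factorization_eq_zero_iff]
      by_contra hh
      push Not at hh
      exact hr (by rcases h r hh.1 hh.2.1 with h' | h' <;> exact h'.symm)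
  · refine CharCore.isSolvable_of_card_eq_prime_pow_mul hp hq _ G (n.factorization p)
      (n.factorization q) rfl ?_
    refine Nat.eq_of_factorization_eq hn0 (mul_ne_zero (pow_ne_zero _ hp.ne_zero) (pow_ne_zero _ hq.ne_zero))
      fun r => ?_
    rw [Nat.factorization_mul (pow_ne_zero _ hp.ne_zero) (pow_ne_zero _ hq.ne_zero),
      Nat.Prime.factorization_pow hp, Nat.Prime.factorization_pow hq, Finsupp.add_apply,
      Finsupp.single_apply, Finsupp.single_apply]
    by_cases hr : p = r
    · subst hr; rw [if_pos rfl, if_neg hne.symm, add_zero]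
    · by_cases hr' : q = r
      · subst hr'; rw [if_neg hr, if_pos rfl, zero_add]
      · rw [if_neg hr, if_neg hr', add_zero, Nat.factorization_eq_zero_iff]
        by_contra hh
        push Not at hh
        rcases h r hh.1 hh.2.1 with h' | h'
        · exact hr h'.symm
        · exact hr' h'.symm

theorem isSolvable_of_primeFactors_card_le_two {G : Type u} [Group G] [Finite G] {T : Finset ℕ}
    (hT : ∀ r : ℕ, r.Prime → r ∣ Nat.card G → r ∈ T) (hTp : ∀ r ∈ T, r.Prime) (h2 : T.card ≤ 2) :
    Group.IsSolvable G := by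
  by_cases hc : T.card = 2
  · obtain ⟨p, q, -, rfl⟩ := Finset.card_eq_two.mp hc
    exact isSolvable_of_primes_subset_pair (hTp p (by simp)) (hTp q (by simp))
      fun r hr hr' => by simpa using hT r hr hr'
  · by_cases h1 : T.card = 1
    · obtain ⟨p, rfl⟩ := Finset.card_eq_one.mp h1
      exact isSolvable_of_primes_subset_pair (hTp p (by simp)) (hTp p (by simp))
        fun r hr hr' => Or.inl (by simpa using hT r hr hr')
    · have : T = ∅ := Finset.card_eq_zero.mp (by omega)
      subst this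
      exact isSolvable_of_primes_subset_pair Nat.prime_two Nat.prime_two
        fun r hr hr' => absurd (hT r hr hr') (by simp)

/-- The situation reached from four automorphism orbits. -/
structure FourOrbits (G : Type*) [Group G] [Finite G] (T : Finset ℕ) : Prop where
  primeOrders : PrimeOrders G
  trans : ∀ x y : G, orderOf x = orderOf y → ∃ φ : MulAut G, φ x = y
  card_T : T.card = 3
  prime_T : ∀ s ∈ T, s.Prime
  dvd_T : ∀ s ∈ T, s ∣ Nat.card G
  mem_T : ∀ x : G, x ≠ 1 → orderOf x ∈ T

variable {G : Type u} [Group G] [Finite G]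

theorem exists_fourOrbits (hns : ¬ Group.IsSolvable G)
    (h4 : Nat.card (MulAction.orbitRel.Quotient (MulAut G) G) = 4) :
    ∃ T, FourOrbits G T := by
  classical
  set P := (Nat.card G).primeFactors with hP
  have h3 : 3 ≤ P.card := by
    by_contra hc
    exact hns (isSolvable_of_primeFactors_card_le_two (T := P)
      (fun r hr hr' => Nat.mem_primeFactors.mpr ⟨hr, hr', Nat.card_pos.ne'⟩)
      (fun r hr => Nat.prime_of_mem_primeFactors hr) (by omega))
  let f : MulAction.orbitRel.Quotient (MulAut G) G → ℕ :=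
    Quotient.lift (fun g : G => orderOf g) fun a b hab => by
      obtain ⟨φ, rfl⟩ := MulAction.orbitRel_apply.mp hab
      exact φ.orderOf_eq b
  haveI : Finite (MulAction.orbitRel.Quotient (MulAut G) G) := Quotient.finite _
  letI : Fintype (MulAction.orbitRel.Quotient (MulAut G) G) := Fintype.ofFinite _
  set R : Finset ℕ := Finset.univ.image f with hR
  have hsub : insert 1 P ⊆ R := by
    intro r hr
    rw [hR, Finset.mem_image]
    rcases Finset.mem_insert.mp hr with rfl | hr
    · exact ⟨Quotient.mk'' 1, Finset.mem_univ _, orderOf_one⟩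
    · haveI : Fact r.Prime := ⟨Nat.prime_of_mem_primeFactors hr⟩
      obtain ⟨g, hg⟩ := exists_prime_orderOf_dvd_card' r (Nat.dvd_of_mem_primeFactors hr)
      exact ⟨Quotient.mk'' g, Finset.mem_univ _, hg⟩
  have hins : (insert 1 P).card = P.card + 1 :=
    Finset.card_insert_of_notMem fun h => Nat.not_prime_one (Nat.prime_of_mem_primeFactors h)
  have hle : R.card ≤ 4 := by
    refine Finset.card_image_le.trans ?_
    rw [Finset.card_univ, ← Nat.card_eq_fintype_card, h4]
  have hle2 := Finset.card_le_card hsub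
  have hReq : insert 1 P = R := Finset.eq_of_subset_of_card_le hsub (by omega)
  have hinj : Function.Injective f := by
    intro a b hab
    have := (Finset.card_image_iff.mp (show R.card = (Finset.univ : Finset _).card by
      rw [Finset.card_univ, ← Nat.card_eq_fintype_card, h4]; omega))
    exact this (Finset.mem_coe.mpr (Finset.mem_univ a)) (Finset.mem_coe.mpr (Finset.mem_univ b)) hab
  have hmem : ∀ x : G, x ≠ 1 → orderOf x ∈ P := by
    intro x hx
    have h1 : f (Quotient.mk'' x) ∈ R := Finset.mem_image_of_mem _ (Finset.mem_univ _)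
    rw [← hReq, Finset.mem_insert] at h1
    rcases h1 with h1 | h1
    · exact absurd (orderOf_eq_one_iff.mp h1) hx
    · exact h1
  refine ⟨P, fun g hg => Nat.prime_of_mem_primeFactors (hmem g hg), fun x y hxy => ?_, by omega,
    fun s hs => Nat.prime_of_mem_primeFactors hs, fun s hs => Nat.dvd_of_mem_primeFactors hs, hmem⟩
  have : (Quotient.mk'' y : MulAction.orbitRel.Quotient (MulAut G) G) = Quotient.mk'' x :=
    hinj hxy.symm
  obtain ⟨φ, hφ⟩ := MulAction.orbitRel_apply.mp (Quotient.exact' this)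
  exact ⟨φ, hφ⟩

variable {T : Finset ℕ}

/-- A proper nontrivial characteristic subgroup makes the group solvable. -/
theorem FourOrbits.isSolvable_of_invariant (hG : FourOrbits G T) {N : Subgroup G} (hbot : N ≠ ⊥)
    (htop : N ≠ ⊤) (hinv : ∀ φ : MulAut G, ∀ x ∈ N, φ x ∈ N) : Group.IsSolvable G := by
  classical
  haveI : N.Normal := ⟨fun n hn g => hinv (MulAut.conj g) n hn⟩
  set A : Finset ℕ := T.filter fun s => ∃ x ∈ N, orderOf x = s with hA
  have hinA : ∀ x ∈ N, x ≠ 1 → orderOf x ∈ A := fun x hx hx1 =>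
    Finset.mem_filter.mpr ⟨hG.mem_T x hx1, x, hx, rfl⟩
  have hout : ∀ x, x ∉ N → orderOf x ∈ T \ A := by
    intro x hx
    have hx1 : x ≠ 1 := fun h => hx (h ▸ N.one_mem)
    refine Finset.mem_sdiff.mpr ⟨hG.mem_T x hx1, fun h => hx ?_⟩
    obtain ⟨-, y, hy, hyo⟩ := Finset.mem_filter.mp h
    obtain ⟨φ, rfl⟩ := hG.trans y x hyo
    exact hinv φ y hy
  obtain ⟨n0, hn0, hn01⟩ := (Subgroup.bot_or_exists_ne_one N).resolve_left hbot
  obtain ⟨g0, hg0⟩ : ∃ g, g ∉ N := by
    by_contra h
    push Not at h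
    exact htop ((Subgroup.eq_top_iff' N).mpr h)
  have hA1 : 1 ≤ A.card := Finset.card_pos.mpr ⟨_, hinA n0 hn0 hn01⟩
  have hB1 : 1 ≤ (T \ A).card := Finset.card_pos.mpr ⟨_, hout g0 hg0⟩
  have hsum : (T \ A).card + A.card = 3 := by
    rw [Finset.card_sdiff_add_card_eq_card (Finset.filter_subset _ _), hG.card_T]
  haveI hsN : Group.IsSolvable N := by
    refine isSolvable_of_primeFactors_card_le_two (T := A) (fun r hr hd => ?_)
      (fun r hr => hG.prime_T r (Finset.mem_filter.mp hr).1) (by omega)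
    haveI : Fact r.Prime := ⟨hr⟩
    obtain ⟨x, hx⟩ := exists_prime_orderOf_dvd_card' r hd
    rw [← hx, ← Subgroup.orderOf_coe]
    exact hinA x x.2 fun h => by
      rw [← Subgroup.orderOf_coe, h, orderOf_one] at hx
      exact hr.ne_one hx.symm
  haveI hsQ : Group.IsSolvable (G ⧸ N) := by
    refine isSolvable_of_primeFactors_card_le_two (T := T \ A) (fun r hr hd => ?_)
      (fun r hr => hG.prime_T r (Finset.mem_sdiff.mp hr).1) (by omega)
    haveI : Fact r.Prime := ⟨hr⟩
    obtain ⟨x, hx⟩ := exists_prime_orderOf_dvd_card' r hd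
    obtain ⟨g, rfl⟩ := QuotientGroup.mk_surjective x
    have hg : g ∉ N := fun h => by
      rw [(QuotientGroup.eq_one_iff g).mpr h, orderOf_one] at hx
      exact hr.ne_one hx.symm
    have hd' : r ∣ orderOf g := hx ▸ orderOf_map_dvd (QuotientGroup.mk' N) g
    rw [(Nat.prime_dvd_prime_iff_eq hr (hG.primeOrders g fun h => hg (h ▸ N.one_mem))).mp hd']
    exact hout g hg
  exact Group.isSolvable_of_ker_le_range N.subtype (QuotientGroup.mk' N)
    (by rw [QuotientGroup.ker_mk', Subgroup.range_subtype])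

theorem FourOrbits.isSimpleGroup (hG : FourOrbits G T) (hns : ¬ Group.IsSolvable G) :
    IsSimpleGroup G := by
  classical
  haveI : Nontrivial G := by
    by_contra h
    rw [not_nontrivial_iff_subsingleton] at h
    exact hns inferInstance
  by_contra hsimple
  have hex : ∃ N : Subgroup G, N.Normal ∧ N ≠ ⊥ ∧ N ≠ ⊤ := by
    by_contra h
    push Not at h
    exact hsimple ⟨fun H hH => or_iff_not_imp_left.mpr (h H hH)⟩
  obtain ⟨M, hMmem, hMmin⟩ := Set.Finite.exists_minimalFor (fun N : Subgroup G => Nat.card N)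
    {N : Subgroup G | N.Normal ∧ N ≠ ⊥ ∧ N ≠ ⊤} (Set.toFinite _) hex
  obtain ⟨hMn, hMbot, hMtop⟩ := hMmem
  obtain ⟨φ, m, hm, hφm⟩ : ∃ (φ : MulAut G) (m : G), m ∈ M ∧ φ m ∉ M := by
    by_contra h
    push Not at h
    exact hns (hG.isSolvable_of_invariant hMbot hMtop h)
  set M' := M.map φ.toMonoidHom with hM'
  haveI : M'.Normal := hMn.map _ φ.surjective
  haveI := hMn
  have hcard : Nat.card M' = Nat.card M := Subgroup.card_map_of_injective φ.injective
  have hint : M ⊓ M' = ⊥ := by
    by_contra hI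
    have hlt : M ⊓ M' ≠ M := fun h => by
      refine hφm ?_
      have hle : M ≤ M' := inf_eq_left.mp h
      rw [Subgroup.eq_of_le_of_card_ge hle hcard.le]
      exact ⟨m, hm, rfl⟩
    have h2 : Nat.card (M ⊓ M' : Subgroup G) < Nat.card M := by
      refine lt_of_le_of_ne (Subgroup.card_le_of_le inf_le_left) fun h => hlt ?_
      exact Subgroup.eq_of_le_of_card_ge inf_le_left h.ge
    have h3 := hMmin (j := M ⊓ M') ⟨inferInstance, hI, fun h => hMtop (top_le_iff.mp (h ▸ inf_le_left))⟩ h2.le
    exact absurd h3 (not_le.mpr h2)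
  obtain ⟨x0, hx0, hx01⟩ := (Subgroup.bot_or_exists_ne_one M).resolve_left hMbot
  set s := orderOf x0 with hs
  haveI hsf : Fact s.Prime := ⟨hG.primeOrders x0 hx01⟩
  have hord : ∀ a ∈ M, a ≠ 1 → ∀ b ∈ M', b ≠ 1 → orderOf a = orderOf b := fun a ha ha1 b hb hb1 =>
    hG.primeOrders.orderOf_eq_of_commute ha1 hb1
      (Subgroup.commute_of_normal_of_disjoint _ _ hMn inferInstance (disjoint_iff.mpr hint) a b ha hb)
  have hMs : IsPGroup s M := by
    intro ⟨a, ha⟩
    refine ⟨1, Subtype.ext ?_⟩
    show a ^ s ^ 1 = 1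
    rw [pow_one]
    rcases eq_or_ne a 1 with rfl | ha1
    · exact one_pow _
    have hb1 : φ x0 ≠ 1 := fun h => hx01 (φ.injective (h.trans (map_one φ).symm))
    have h := hord a ha ha1 _ ⟨x0, hx0, rfl⟩ hb1
    rw [show orderOf (φ.toMonoidHom x0) = s from φ.orderOf_eq x0] at h
    rw [← h, pow_orderOf_eq_one]
  obtain ⟨P⟩ : Nonempty (Sylow s G) := inferInstance
  have hle : ∀ ψ : MulAut G, M.map ψ.toMonoidHom ≤ (P : Subgroup G) := fun ψ => by
    haveI : (M.map ψ.toMonoidHom).Normal := hMn.map _ ψ.surjective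
    exact (hMs.map _).le_sylow_of_normal P
  set N : Subgroup G := ⨆ ψ : MulAut G, M.map ψ.toMonoidHom with hN
  have hNP : N ≤ (P : Subgroup G) := iSup_le hle
  have hNinv : ∀ ψ : MulAut G, ∀ x ∈ N, ψ x ∈ N := by
    intro ψ x hx
    have : N.map ψ.toMonoidHom ≤ N := by
      rw [hN, Subgroup.map_iSup]
      refine iSup_le fun χ => le_iSup_of_le (ψ * χ) (le_of_eq ?_)
      rw [Subgroup.map_map]
      rfl
    exact this ⟨x, hx, rfl⟩
  refine hns (hG.isSolvable_of_invariant (N := N) ?_ ?_ hNinv)
  · intro h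
    exact hx01 ((Subgroup.eq_bot_iff_forall _).mp h _ (le_iSup (fun ψ : MulAut G => M.map ψ.toMonoidHom) 1 ⟨x0, hx0, rfl⟩))
  · intro h
    obtain ⟨r, hr, hrs⟩ := Finset.exists_mem_ne (by rw [hG.card_T]; norm_num : 1 < T.card) s
    haveI : Fact r.Prime := ⟨hG.prime_T r hr⟩
    obtain ⟨g, hg⟩ := exists_prime_orderOf_dvd_card' r (hG.dvd_T r hr)
    have hg1 : g ≠ 1 := fun h' => (hG.prime_T r hr).ne_one (by rw [← hg, h', orderOf_one])
    exact hrs (hg ▸ hG.primeOrders.orderOf_of_mem hsf.out P.isPGroup' (hNP (h ▸ Subgroup.mem_top g)) hg1)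

end Cfsg.Agent.FGS77
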