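import Mathlib

/-!
# Basic tools for the `finite_group_structure` statements of seat 77
-/

namespace Cfsg.Agent.FGS77

open scoped commutatorElement

variable {G : Type*} [Group G]

/-- If `g` inverts `x`, then `g ^ n` inverts `x` for odd `n` and centralizes it for even `n`. -/
theorem pow_inverts {g x : G} (h : g * x * g⁻¹ = x⁻¹) (n : ℕ) :
    g ^ n * x * (g ^ n)⁻¹ = if Even n then x else x⁻¹ := by
  induction n with
  | zero => simp
  | succ n ih =>
    have hx : g * x⁻¹ * g⁻¹ = x := by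
      have := congrArg (fun t => t⁻¹) h
      simpa [mul_assoc] using this
    have e : g ^ (n + 1) * x * (g ^ (n + 1))⁻¹ = g * (g ^ n * x * (g ^ n)⁻¹) * g⁻¹ := by
      rw [pow_succ']; group
    rw [e, ih]
    by_cases hn : Even n <;> simp [hn, Nat.even_add_one, h, hx]

theorem odd_pow_inverts {g x : G} (h : g * x * g⁻¹ = x⁻¹) {n : ℕ} (hn : Odd n) :
    g ^ n * x * (g ^ n)⁻¹ = x⁻¹ := by
  rw [pow_inverts h n, if_neg (Nat.not_even_iff_odd.mpr hn)]

/-- The `p`-part of a finite order element is a power of it with exponent prime to `p`. -/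
theorem exists_pow_pPart [Finite G] (p : ℕ) [hp : Fact p.Prime] (g : G) :
    ∃ m k : ℕ, ¬ p ∣ m ∧ orderOf (g ^ m) = p ^ k := by
  refine ⟨ordCompl[p] (orderOf g), (orderOf g).factorization p,
    Nat.not_dvd_ordCompl hp.out (orderOf_pos g).ne', ?_⟩
  rw [orderOf_pow_of_dvd (Nat.ordCompl_pos p (orderOf_pos g).ne').ne' (Nat.ordCompl_dvd _ _)]
  exact Nat.div_div_self (Nat.ordProj_dvd _ _) (orderOf_pos g).ne'

theorem isPGroup_zpowers_of_orderOf {p k : ℕ} [Fact p.Prime] {g : G} (h : orderOf g = p ^ k) :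
    IsPGroup p (Subgroup.zpowers g) :=
  IsPGroup.of_card (by rw [Nat.card_zpowers, h])

/-- A `p`-element normalizing a Sylow `p`-subgroup lies in it. -/
theorem mem_sylow_of_normalizes {p k : ℕ} [Fact p.Prime] [Finite G] (S : Sylow p G) {g : G}
    (h : orderOf g = p ^ k) (hn : g ∈ Subgroup.normalizer ((S : Subgroup G) : Set G)) :
    g ∈ (S : Subgroup G) := by
  have h2 := (isPGroup_zpowers_of_orderOf h).inf_normalizer_sylow S
  exact (h2.le ⟨Subgroup.mem_zpowers g, hn⟩).2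

/-- A real element centralizing a Sylow 2-subgroup has order at most two. -/
theorem sq_eq_one_of_real_of_centralizes_sylow [Finite G] [Fact (Nat.Prime 2)] (S : Sylow 2 G)
    {x : G} (hr : IsConj x x⁻¹) (hx : x ∈ Subgroup.centralizer ((S : Subgroup G) : Set G)) :
    x ^ 2 = 1 := by
  classical
  obtain ⟨g, hg⟩ := isConj_iff.mp hr
  set C := Subgroup.centralizer ({x} : Set G) with hC
  have hmemC : ∀ {a : G}, a ∈ C ↔ a * x = x * a := by
    intro a
    rw [hC, Subgroup.mem_centralizer_iff]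
    simp [eq_comm]
  have hSC : (S : Subgroup G) ≤ C := fun s hs => hmemC.mpr (Subgroup.mem_centralizer_iff.mp hx s hs)
  have hgn : ∀ a : G, a ∈ C → g * a * g⁻¹ ∈ C := by
    intro a ha
    rw [hmemC] at ha ⊢
    have h1 : g * x⁻¹ * g⁻¹ = x := by
      have := congrArg (fun t => t⁻¹) hg
      simpa [mul_assoc] using this
    have h2 : a * x⁻¹ = x⁻¹ * a :=
      eq_inv_mul_iff_mul_eq.mpr (by rw [← mul_assoc, ← ha, mul_assoc, mul_inv_cancel, mul_one])
    conv_lhs => rw [← h1]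
    conv_rhs => rw [← h1]
    simp only [mul_assoc, inv_mul_cancel_left]
    rw [← mul_assoc a x⁻¹, h2, mul_assoc]
  have hgS : ((g • S : Sylow 2 G) : Subgroup G) ≤ C := by
    intro a ha
    rw [Sylow.coe_subgroup_smul, Subgroup.mem_pointwise_smul_iff_inv_smul_mem] at ha
    simp at ha
    have := hgn _ (hSC ha)
    simpa [mul_assoc] using this
  obtain ⟨c, hc⟩ : ∃ c : C, c • S.subtype hSC = (g • S).subtype hgS :=
    MulAction.exists_smul_eq C (S.subtype hSC) ((g • S).subtype hgS)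
  rw [Sylow.smul_subtype] at hc
  have hcS : ((c : G) • S) = g • S := Sylow.subtype_injective hc
  have hn : ((c : G)⁻¹ * g) • S = S := by rw [mul_smul, ← hcS, inv_smul_smul]
  have hnm := (Sylow.smul_eq_iff_mem_normalizer).mp hn
  have hinv : ((c : G)⁻¹ * g) * x * ((c : G)⁻¹ * g)⁻¹ = x⁻¹ := by
    have hcx : (c : G) * x = x * c := hmemC.mp c.2
    have h3 : (c : G)⁻¹ * x⁻¹ * c = x⁻¹ := by
      rw [← mul_inv_rev, ← hcx, mul_inv_rev, mul_assoc, inv_mul_cancel, mul_one]
    calc _ = (c : G)⁻¹ * (g * x * g⁻¹) * c := by group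
      _ = x⁻¹ := by rw [hg, h3]
  obtain ⟨m, k, hm, hord⟩ := exists_pow_pPart 2 ((c : G)⁻¹ * g)
  have hmem := mem_sylow_of_normalizes S hord (Subgroup.pow_mem _ hnm m)
  have h1 := odd_pow_inverts hinv (n := m) (Nat.odd_iff.mpr (by omega))
  have h2 := Subgroup.mem_centralizer_iff.mp hx _ hmem
  rw [h2, mul_assoc, mul_inv_cancel, mul_one] at h1
  rw [pow_two]
  exact eq_inv_iff_mul_eq_one.mp h1

/-- A subgroup containing all commutators and all `p`-th powers contains the Frattini subgroup. -/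
theorem frattini_le_of_comm_pow {p : ℕ} [hp : Fact p.Prime] [Finite G] {K : Subgroup G}
    (hc : ∀ x y : G, ⁅x, y⁆ ∈ K) (hpow : ∀ x : G, x ^ p ∈ K) : frattini G ≤ K := by
  intro x hx
  by_contra hxK
  obtain ⟨M, hM⟩ := (Set.toFinite {H : Subgroup G | K ≤ H ∧ x ∉ H}).exists_maximal ⟨K, le_rfl, hxK⟩
  have hMn : M.Normal := ⟨fun a ha g => by
    rw [show g * a * g⁻¹ = ⁅g, a⁆ * a by group]
    exact M.mul_mem (hM.1.1 (hc g a)) ha⟩
  have hsup : M ⊔ Subgroup.zpowers x = ⊤ := by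
    rw [eq_top_iff]
    intro y _
    by_cases hy : y ∈ M
    · exact (le_sup_left : M ≤ M ⊔ Subgroup.zpowers x) hy
    have hxN : x ∈ M ⊔ Subgroup.zpowers y := by
      by_contra h
      exact hy (hM.2 ⟨hM.1.1.trans le_sup_left, h⟩ le_sup_left
        ((le_sup_right : Subgroup.zpowers y ≤ M ⊔ Subgroup.zpowers y) (Subgroup.mem_zpowers y)))
    obtain ⟨m, hm, w, hw, rfl⟩ := Subgroup.mem_sup_of_normal_left.mp hxN
    obtain ⟨j, rfl⟩ := Subgroup.mem_zpowers_iff.mp hw
    have hyp : y ^ (p : ℤ) ∈ M := by rw [zpow_natCast]; exact hM.1.1 (hpow y)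
    have hj : ¬ (p : ℤ) ∣ j := by
      rintro ⟨i, rfl⟩
      exact hM.1.2 (M.mul_mem hm (by rw [zpow_mul]; exact M.zpow_mem hyp i))
    obtain ⟨a, b, hab⟩ := ((Nat.prime_iff_prime_int.mp hp.out).coprime_iff_not_dvd).mpr hj
    have hyj : y ^ j ∈ M ⊔ Subgroup.zpowers (m * y ^ j) := by
      have h := Subgroup.mul_mem (M ⊔ Subgroup.zpowers (m * y ^ j))
        ((le_sup_left : M ≤ _) (M.inv_mem hm))
        ((le_sup_right : Subgroup.zpowers (m * y ^ j) ≤ _) (Subgroup.mem_zpowers _))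
      simpa using h
    have e : y = (y ^ (p : ℤ)) ^ a * (y ^ j) ^ b := by
      rw [← zpow_mul, ← zpow_mul, ← zpow_add, mul_comm (p : ℤ) a, mul_comm j b, hab, zpow_one]
    have h3 := Subgroup.mul_mem (M ⊔ Subgroup.zpowers (m * y ^ j))
      ((le_sup_left : M ≤ _) (M.zpow_mem hyp a)) (Subgroup.zpow_mem _ hyj b)
    rwa [← e] at h3
  refine hM.1.2 (frattini_le_coatom ⟨fun h => hM.1.2 (by rw [h]; exact Subgroup.mem_top x), fun N hN => ?_⟩ hx)
  have hxN : x ∈ N := by
    by_contra hxN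
    exact hN.not_ge (hM.2 ⟨hM.1.1.trans hN.le, hxN⟩ hN.le)
  rw [eq_top_iff, ← hsup]
  exact sup_le hN.le (by rwa [Subgroup.zpowers_le])

end Cfsg.Agent.FGS77
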