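import Cfsg.Agent.FGS77.CycModule

/-!
# Multiplicative form of the results of `CycModule`
-/

set_option autoImplicit false

namespace Cfsg.Agent.FGS77

variable {p q : ℕ} [Fact p.Prime] [Fact q.Prime] {W : Type*} [CommGroup W] [Finite W]

/-- The `ZMod p`-module of a commutative group of exponent `p`. -/
@[reducible] noncomputable def elemModule (hexp : ∀ w : W, w ^ p = 1) : Module (ZMod p) (Additive W) :=
  AddCommGroup.zmodModule fun u => Additive.toMul.injective (by simpa using hexp u.toMul)

variable (hexp : ∀ w : W, w ^ p = 1)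

/-- A group automorphism as a linear equivalence. -/
noncomputable def toLin (σ : MulAut W) :
    letI := elemModule hexp; Additive W ≃ₗ[ZMod p] Additive W :=
  letI := elemModule hexp
  (MulEquiv.toAdditive σ).toLinearEquiv fun c u =>
    ZMod.map_smul (MulEquiv.toAdditive σ).toAddMonoidHom c u

theorem toLin_apply (σ : MulAut W) (u : Additive W) :
    (letI := elemModule hexp; toLin hexp σ u) = Additive.ofMul (σ u.toMul) := rfl

theorem toLin_pow_apply (f : MulAut W) (i : ℕ) (u : Additive W) :
    letI := elemModule hexp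
    ((toLin hexp f).toLinearMap ^ i) u = Additive.ofMul ((f ^ i) u.toMul) := by
  letI := elemModule hexp
  induction i with
  | zero => rfl
  | succ i ih =>
    rw [pow_succ' (toLin hexp f).toLinearMap, Module.End.mul_apply, ih, pow_succ', MulAut.mul_apply]
    rfl

include hexp

/-- Multiplicative form of `orderOf_prime_of_semilinear`. -/
theorem orderOf_prime_of_semilinear_mul [Nontrivial W] (hpq : p ≠ q) (f : MulAut W) (hf : f ^ q = 1)
    (hfix : ∀ w, f w = w → w = 1)
    (hsemi : ∀ v w : W, v ≠ 1 → w ≠ 1 → ∃ (σ : MulAut W) (i j : ℕ), σ v = w ∧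
      σ * f = f ^ i * σ ∧ σ⁻¹ * f = f ^ j * σ⁻¹)
    (hpow : ∀ i : ℕ, ¬ q ∣ i → ∃ σ : MulAut W, σ * f = f ^ i * σ) :
    orderOf (p : ZMod q) = q - 1 := by
  letI := elemModule hexp
  refine orderOf_prime_of_semilinear hpq (toLin hexp f).toLinearMap ?_ ?_ ?_ ?_
  · refine LinearMap.ext fun u => ?_
    rw [toLin_pow_apply, hf]
    rfl
  · intro u hu
    apply Additive.toMul.injective
    exact hfix _ (congrArg Additive.toMul hu)
  · intro v w hv hw
    obtain ⟨σ, i, j, hσ, hi, hj⟩ := hsemi v.toMul w.toMul hv hw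
    refine ⟨toLin hexp σ, i, j, ?_, fun u => ?_, fun u => ?_⟩
    · rw [toLin_apply, hσ]; rfl
    · rw [toLin_pow_apply]
      exact congrArg Additive.ofMul (congrArg (fun s : MulAut W => s u.toMul) hi)
    · rw [toLin_pow_apply]
      exact congrArg Additive.ofMul (congrArg (fun s : MulAut W => s u.toMul) hj)
  · intro i hi
    obtain ⟨σ, hσ⟩ := hpow i hi
    refine ⟨toLin hexp σ, fun u => ?_⟩
    rw [toLin_pow_apply]
    exact congrArg Additive.ofMul (congrArg (fun s : MulAut W => s u.toMul) hσ)

/-- Multiplicative form of `exists_semilinear`. -/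
theorem exists_semilinear_mul (hpq : p ≠ q) (hord : orderOf (p : ZMod q) = q - 1)
    (f : MulAut W) (hf : f ^ q = 1) (hfix : ∀ w, f w = w → w = 1)
    {v w : W} (hv : v ≠ 1) (hw : w ≠ 1) {i : ℕ} (hi : ¬ q ∣ i) :
    ∃ σ : MulAut W, σ v = w ∧ σ * f = f ^ i * σ := by
  letI := elemModule hexp
  obtain ⟨e, he, hcomm⟩ := exists_semilinear hpq hord (toLin hexp f).toLinearMap
    (LinearMap.ext fun u => by rw [toLin_pow_apply, hf]; rfl)
    (fun u hu => Additive.toMul.injective (hfix _ (congrArg Additive.toMul hu)))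
    (v := Additive.ofMul v) (w := Additive.ofMul w) hv hw hi
  refine ⟨MulEquiv.toAdditive.symm e, congrArg Additive.toMul he, MulEquiv.ext fun u => ?_⟩
  have h := hcomm (Additive.ofMul u)
  rw [toLin_pow_apply] at h
  exact congrArg Additive.toMul h

end Cfsg.Agent.FGS77
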