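import Mathlib

/-!
# Modules of a cyclic group of prime order whose semilinear normalizer is transitive

Linear algebra for the groups with three automorphism orbits: `T` is an endomorphism of a finite
vector space over `ZMod p` with `T ^ q = 1` and no fixed points.
-/

set_option autoImplicit false

namespace Cfsg.Agent.FGS77

open Polynomial

variable {p : ℕ} [Fact p.Prime] {V : Type*} [AddCommGroup V] [Module (ZMod p) V]

local notation "F" => ZMod p

theorem equiv_aeval {T : Module.End F V} {σ : V ≃ₗ[F] V} {i : ℕ}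
    (h : ∀ u, σ (T u) = (T ^ i) (σ u)) (g : F[X]) (u : V) :
    σ (aeval T g u) = aeval (T ^ i) g (σ u) := by
  induction g using Polynomial.induction_on generalizing u with
  | C a => simp [Module.algebraMap_end_apply]
  | add a b ha hb => simp [map_add, ha, hb]
  | monomial n a ih =>
    rw [pow_succ X n, ← mul_assoc, map_mul _ _ X, map_mul _ _ X, aeval_X, aeval_X,
      Module.End.mul_apply, Module.End.mul_apply, ih, h]

theorem aeval_comp_pow (T : Module.End F V) (g : F[X]) (i : ℕ) :
    aeval T (g.comp (X ^ i)) = aeval (T ^ i) g := by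
  induction g using Polynomial.induction_on with
  | C a => simp
  | add a b ha hb => simp [add_comp, ha, hb]
  | monomial n a ih =>
    simp only [mul_comp, C_comp, pow_comp, X_comp, map_mul, aeval_C, map_pow, aeval_X] at ih ⊢

variable [Finite V]

/-- If the semilinear maps for `T` are transitive on nonzero vectors, then every polynomial in `T`
is zero or injective. -/
theorem eq_zero_or_injective (T : Module.End F V)
    (htr : ∀ v w : V, v ≠ 0 → w ≠ 0 → ∃ (σ : V ≃ₗ[F] V) (i j : ℕ), σ v = w ∧
      (∀ u, σ (T u) = (T ^ i) (σ u)) ∧ ∀ u, σ.symm (T u) = (T ^ j) (σ.symm u))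
    (h : F[X]) : aeval T h = 0 ∨ ∀ v, aeval T h v = 0 → v = 0 := by
  classical
  rcases subsingleton_or_nontrivial V with hs | hs
  · exact Or.inl (LinearMap.ext fun v => Subsingleton.elim _ _)
  haveI : Module.Finite F V := Module.Finite.of_finite
  have hint : IsIntegral F T := Algebra.IsIntegral.isIntegral T
  obtain ⟨f, hf, hfm⟩ := WfDvdMonoid.exists_irreducible_factor (minpoly.not_isUnit F T)
    (minpoly.ne_zero hint)
  obtain ⟨c, hc⟩ := hfm
  have hcne : aeval T c ≠ 0 := by
    intro h0
    obtain ⟨d, hd⟩ := minpoly.dvd F T h0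
    have hc0 : c ≠ 0 := fun hz => minpoly.ne_zero hint (by rw [hc, hz, mul_zero])
    have h1 : f * d = 1 := by
      refine mul_left_cancel₀ hc0 ?_
      rw [mul_one]
      calc c * (f * d) = (f * c) * d := by ring
        _ = c := by rw [← hc, ← hd]
    exact hf.not_isUnit (IsUnit.of_mul_eq_one _ h1)
  obtain ⟨u₀, hu₀⟩ : ∃ u, aeval T c u ≠ 0 := by
    by_contra hh
    push Not at hh
    exact hcne (LinearMap.ext hh)
  set w := aeval T c u₀ with hw
  have hfw : aeval T f w = 0 := by
    rw [hw, ← Module.End.mul_apply, ← map_mul, ← hc, minpoly.aeval, LinearMap.zero_apply]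
  have hpure : ∀ g : F[X], aeval T g w = 0 ∨ ∃ a, aeval T (a * g) w = w := by
    intro g
    by_cases hg : f ∣ g
    · obtain ⟨d, rfl⟩ := hg
      left
      rw [mul_comm, map_mul, Module.End.mul_apply, hfw, map_zero]
    · obtain ⟨a, b, hab⟩ := (hf.coprime_iff_not_dvd).mpr hg
      right
      refine ⟨b, ?_⟩
      have h1 := congrArg (fun P => aeval T P w) hab
      simp only [map_add, map_one, Module.End.one_apply, LinearMap.add_apply] at h1
      rwa [map_mul (aeval T) a f, Module.End.mul_apply, hfw, map_zero, zero_add] at h1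
  have hall : ∀ v : V, v ≠ 0 → ∀ g : F[X], aeval T g v = 0 ∨ ∃ a, aeval T (a * g) v = v := by
    intro v hv g
    obtain ⟨σ, i, j, rfl, hi, hj⟩ := htr w v hu₀ hv
    have hback : σ.symm (aeval T g (σ w)) = aeval T (g.comp (X ^ j)) w := by
      rw [equiv_aeval hj, LinearEquiv.symm_apply_apply, aeval_comp_pow]
    rcases hpure (g.comp (X ^ j)) with h0 | ⟨a, ha⟩
    · left
      rw [h0] at hback
      simpa using congrArg σ hback
    · right
      refine ⟨a.comp (X ^ i), ?_⟩
      rw [map_mul, Module.End.mul_apply] at ha ⊢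
      rw [aeval_comp_pow, ← LinearEquiv.apply_symm_apply σ (aeval T g (σ w)), hback,
        ← equiv_aeval hi, ha]
  refine or_iff_not_imp_left.mpr fun hne v hv => ?_
  by_contra hv0
  obtain ⟨u, hu⟩ : ∃ u, aeval T h u ≠ 0 := by
    by_contra hh
    push Not at hh
    exact hne (LinearMap.ext hh)
  have hu0 : u ≠ 0 := fun h0 => hu (by rw [h0, map_zero])
  have huv : v + u ≠ 0 := fun h0 => hu (by
    have := congrArg (aeval T h) h0
    rwa [map_add, hv, zero_add, map_zero] at this)
  obtain ⟨a, ha⟩ := (hall u hu0 h).resolve_left hu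
  obtain ⟨b, hb⟩ := (hall (v + u) huv h).resolve_left (by rw [map_add, hv, zero_add]; exact hu)
  rw [map_mul, Module.End.mul_apply] at ha hb
  rw [map_add, hv, zero_add] at hb
  have hv_eq : v = aeval T ((b - a) * h) u := by
    rw [map_mul, Module.End.mul_apply, map_sub, LinearMap.sub_apply, ha, hb, add_sub_cancel_right]
  obtain ⟨d, hd⟩ := (hall u hu0 ((b - a) * h)).resolve_left (by rw [← hv_eq]; exact hv0)
  apply hu
  have e : aeval T h u = aeval T d (aeval T h v) := by
    conv_lhs => rw [← hd]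
    rw [hv_eq]
    simp only [← Module.End.mul_apply, ← map_mul]
    ring_nf
  rw [e, hv, map_zero]

/-- `Φ_q(T) = 0`. -/
theorem aeval_cyclotomic_eq_zero {q : ℕ} [Fact q.Prime] (T : Module.End F V) (hT : T ^ q = 1)
    (hfix : ∀ v, T v = v → v = 0) : aeval T (cyclotomic q F) = 0 := by
  refine LinearMap.ext fun v => hfix _ ?_
  rw [← sub_eq_zero]
  have h1 : aeval T ((X - 1) * cyclotomic q F) = 0 := by
    rw [mul_comm, cyclotomic_prime_mul_X_sub_one, map_sub, map_pow, aeval_X, hT, map_one, sub_self]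
  have h2 := congrArg (fun S : Module.End F V => S v) h1
  simpa [map_sub, Module.End.mul_apply] using h2

/-- If in addition every power `T ^ i` is conjugate to `T`, then `p` is a primitive root mod `q`. -/
theorem orderOf_prime_of_semilinear [Nontrivial V] {q : ℕ} [hq : Fact q.Prime] (hpq : p ≠ q)
    (T : Module.End F V) (hT : T ^ q = 1) (hfix : ∀ v, T v = v → v = 0)
    (htr : ∀ v w : V, v ≠ 0 → w ≠ 0 → ∃ (σ : V ≃ₗ[F] V) (i j : ℕ), σ v = w ∧
      (∀ u, σ (T u) = (T ^ i) (σ u)) ∧ ∀ u, σ.symm (T u) = (T ^ j) (σ.symm u))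
    (hpow : ∀ i : ℕ, ¬ q ∣ i → ∃ σ : V ≃ₗ[F] V, ∀ u, σ (T u) = (T ^ i) (σ u)) :
    orderOf (p : ZMod q) = q - 1 := by
  classical
  haveI : Module.Finite F V := Module.Finite.of_finite
  have hint : IsIntegral F T := Algebra.IsIntegral.isIntegral T
  set m := minpoly F T with hm
  have hirr : Irreducible m := by
    refine ⟨minpoly.not_isUnit F T, fun a b hab => ?_⟩
    by_contra hcon
    push Not at hcon
    have hne : ∀ c d : F[X], m = c * d → ¬ IsUnit d → aeval T c ≠ 0 := fun c d hcd hd h0 => by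
      obtain ⟨e, he⟩ := minpoly.dvd F T h0
      have hc0 : c ≠ 0 := fun hz => minpoly.ne_zero hint (by rw [← hm, hcd, hz, zero_mul])
      refine hd (IsUnit.of_mul_eq_one e (mul_left_cancel₀ hc0 ?_))
      rw [mul_one, ← mul_assoc, ← hcd, ← he]
    have ha := hne a b hab hcon.2
    have hb := hne b a (by rw [hab, mul_comm]) hcon.1
    obtain ⟨v, hv⟩ : ∃ v, aeval T b v ≠ 0 := by
      by_contra hh
      push Not at hh
      exact hb (LinearMap.ext hh)
    refine hv ((eq_zero_or_injective T htr a).resolve_left ha _ ?_)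
    rw [← Module.End.mul_apply, ← map_mul, ← hab, minpoly.aeval, LinearMap.zero_apply]
  have hdvd : m ∣ cyclotomic q F := minpoly.dvd F T (aeval_cyclotomic_eq_zero T hT hfix)
  have hco : p.Coprime q := (Nat.coprime_primes Fact.out hq.out).mpr hpq
  have hdeg : m.natDegree = orderOf (p : ZMod q) := by
    rw [natDegree_of_dvd_cyclotomic_of_irreducible (p := p) (f := 1) (by simp) hco hdvd hirr,
      ← orderOf_units, ZMod.coe_unitOfCoprime, pow_one]
  haveI : Fact (Irreducible m) := ⟨hirr⟩
  set ζ := AdjoinRoot.root m with hζ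
  have hz1 : aeval ζ m = 0 := by rw [hζ, AdjoinRoot.aeval_eq, AdjoinRoot.mk_self]
  have hζq : ζ ^ q = 1 := by
    obtain ⟨d, hd⟩ := hdvd
    have := congrArg (fun P => aeval ζ P) (cyclotomic_prime_mul_X_sub_one F q)
    simp only [hd, map_mul, map_sub, map_pow, aeval_X, map_one, hz1, zero_mul] at this
    exact sub_eq_zero.mp this.symm
  have hζ1 : ζ ≠ 1 := by
    intro h1
    have h2 : m ∣ X - 1 := by
      rw [← AdjoinRoot.mk_eq_zero, map_sub, AdjoinRoot.mk_X, map_one, ← hζ, h1, sub_self]
    obtain ⟨d, hd⟩ := h2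
    obtain ⟨v, hv⟩ := exists_ne (0 : V)
    refine hv (hfix v (sub_eq_zero.mp ?_))
    have h3 : aeval T (X - 1 : F[X]) = 0 := by rw [hd, map_mul, hm, minpoly.aeval, zero_mul]
    have h4 := congrArg (fun S : Module.End F V => S v) h3
    simpa using h4
  have hord : orderOf ζ = q := orderOf_eq_prime hζq hζ1
  have hroots : ∀ i ∈ Finset.Ico 1 q,
      ζ ^ i ∈ (m.map (algebraMap F (AdjoinRoot m))).roots.toFinset := by
    intro i hi
    rw [Finset.mem_Ico] at hi
    obtain ⟨σ, hσ⟩ := hpow i (fun hd => absurd (Nat.le_of_dvd (by omega) hd) (by omega))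
    have h0 : aeval T (m.comp (X ^ i)) = 0 := LinearMap.ext fun u => by
      rw [aeval_comp_pow, ← LinearEquiv.apply_symm_apply σ u, ← equiv_aeval hσ, hm, minpoly.aeval]
      simp
    obtain ⟨d, hd⟩ := minpoly.dvd F T h0
    rw [Multiset.mem_toFinset, mem_roots', IsRoot.def, eval_map, ← aeval_def]
    refine ⟨(Polynomial.map_ne_zero_iff (algebraMap F (AdjoinRoot m)).injective).mpr hirr.ne_zero, ?_⟩
    have := congrArg (fun P => aeval ζ P) hd
    simp only [aeval_comp, map_pow, aeval_X, map_mul] at this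
    rw [← hm, hz1, zero_mul] at this
    exact this
  have hle : q - 1 ≤ m.natDegree := by
    have h1 : ((Finset.Ico 1 q).image fun i => ζ ^ i).card = q - 1 := by
      rw [Finset.card_image_of_injOn, Nat.card_Ico]
      intro a ha b hb hab
      simp only [Finset.coe_Ico, Set.mem_Ico] at ha hb
      have := (orderOf_pos_iff.mp (hord.symm ▸ hq.out.pos)).pow_eq_pow_iff_modEq.mp hab
      rwa [hord, Nat.ModEq, Nat.mod_eq_of_lt ha.2, Nat.mod_eq_of_lt hb.2] at this
    rw [← h1]
    refine (Finset.card_le_card (Finset.image_subset_iff.mpr hroots)).trans ?_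
    refine ((Multiset.toFinset_card_le _).trans (card_roots' _)).trans ?_
    rw [natDegree_map]
  refine le_antisymm ?_ (hdeg ▸ hle)
  have hu : orderOf (ZMod.unitOfCoprime p hco) ∣ q - 1 := by
    rw [← ZMod.card_units q]
    exact orderOf_dvd_card
  rw [← orderOf_units, ZMod.coe_unitOfCoprime] at hu
  exact Nat.le_of_dvd (by have := hq.out.two_le; omega) hu

omit [Finite V] in
theorem exists_scalar_equiv {K : Type*} [Field K] [Module K V] [Module.Finite K V] {v w : V}
    (hv : v ≠ 0) (hw : w ≠ 0) : ∃ L : V ≃ₗ[K] V, L v = w := by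
  obtain ⟨f, hfv, hfw⟩ : ∃ f : Module.Dual K V, f v ≠ 0 ∧ f w ≠ 0 := by
    obtain ⟨f, hf⟩ := Module.Projective.exists_dual_ne_zero K hv
    obtain ⟨g, hg⟩ := Module.Projective.exists_dual_ne_zero K hw
    by_cases h1 : f w = 0
    · by_cases h2 : g v = 0
      · exact ⟨f + g, by simp [h2, hf], by simp [h1, hg]⟩
      · exact ⟨g, h2, hg⟩
    · exact ⟨f, hf, h1⟩
  set e : Module.Dual K V := (f v)⁻¹ • f
  have hev : e v = 1 := by simp [e, hfv]
  have hew : e w ≠ 0 := by simp [e, hfv, hfw]
  let L₀ : V →ₗ[K] V := LinearMap.id + e.smulRight (w - v)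
  have hinj : Function.Injective L₀ := by
    rw [injective_iff_map_eq_zero]
    intro u hu
    simp only [L₀, LinearMap.add_apply, LinearMap.id_apply, LinearMap.smulRight_apply] at hu
    have h1 := congrArg e hu
    simp only [map_add, map_smul, map_sub, hev, map_zero, smul_eq_mul] at h1
    have h2 : e u * e w = 0 := by linear_combination h1
    rw [(mul_eq_zero.mp h2).resolve_right hew] at hu
    simpa using hu
  refine ⟨LinearEquiv.ofBijective L₀ ⟨hinj, LinearMap.surjective_of_injective hinj⟩, ?_⟩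
  show L₀ v = w
  simp [L₀, hev]

/-- Conversely, if `p` is a primitive root mod `q`, the semilinear maps are transitive. -/
theorem exists_semilinear {q : ℕ} [hq : Fact q.Prime] (hpq : p ≠ q)
    (hord : orderOf (p : ZMod q) = q - 1)
    (T : Module.End F V) (hT : T ^ q = 1) (hfix : ∀ v, T v = v → v = 0)
    {v w : V} (hv : v ≠ 0) (hw : w ≠ 0) {i : ℕ} (hi : ¬ q ∣ i) :
    ∃ e : V ≃+ V, e v = w ∧ ∀ u, e (T u) = (T ^ i) (e u) := by
  classical
  have hco : p.Coprime q := (Nat.coprime_primes Fact.out hq.out).mpr hpq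
  have hpq' : ¬ p ∣ q := fun h => hpq ((Nat.prime_dvd_prime_iff_eq Fact.out hq.out).mp h)
  have hirr : Irreducible (cyclotomic q F) := by
    refine ZMod.irreducible_of_dvd_cyclotomic_of_natDegree hpq' dvd_rfl ?_
    rw [natDegree_cyclotomic, Nat.totient_prime hq.out, ← orderOf_units, ZMod.coe_unitOfCoprime, hord]
  haveI := Fact.mk hirr
  let φ : AdjoinRoot (cyclotomic q F) →+* Module.End F V :=
    Ideal.Quotient.lift _ (aeval T).toRingHom (fun a ha => by
      obtain ⟨b, rfl⟩ := Ideal.mem_span_singleton.mp ha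
      show aeval T (cyclotomic q F * b) = 0
      rw [map_mul, aeval_cyclotomic_eq_zero T hT hfix, zero_mul])
  letI : Module (AdjoinRoot (cyclotomic q F)) V := Module.compHom V φ
  have hroot : ∀ u : V, AdjoinRoot.root (cyclotomic q F) • u = T u := fun u => by
    show φ (AdjoinRoot.root (cyclotomic q F)) u = T u
    show aeval T X u = T u
    rw [aeval_X]
  haveI : Module.Finite (AdjoinRoot (cyclotomic q F)) V := Module.Finite.of_finite
  haveI : Finite (AdjoinRoot (cyclotomic q F)) := by
    haveI := (cyclotomic.monic q F).finite_adjoinRoot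
    exact Module.finite_of_finite F
  set K := AdjoinRoot (cyclotomic q F)
  set ζ : K := AdjoinRoot.root (cyclotomic q F) with hζ
  have hz : aeval ζ (cyclotomic q F) = 0 := by rw [hζ, AdjoinRoot.aeval_eq, AdjoinRoot.mk_self]
  have hζq : ζ ^ q = 1 := by
    have := congrArg (fun P => aeval ζ P) (cyclotomic_prime_mul_X_sub_one F q)
    simp only [map_mul, map_sub, map_pow, aeval_X, map_one, hz, zero_mul] at this
    exact sub_eq_zero.mp this.symm
  have hqK : (q : K) ≠ 0 := by
    rw [← map_natCast (algebraMap F K), _root_.map_ne_zero, Ne, ZMod.natCast_eq_zero_iff]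
    exact hpq'
  have hζ1 : ζ ≠ 1 := by
    intro h1
    apply hqK
    have e2 := hz.symm.trans (congrArg (aeval ζ) (cyclotomic_prime F q))
    rw [map_sum] at e2
    simp only [map_pow, aeval_X, h1, one_pow, Finset.sum_const, Finset.card_range, nsmul_eq_mul,
      mul_one] at e2
    exact e2.symm
  have hζi : aeval (ζ ^ i) (cyclotomic q F) = 0 := by
    have h1 : ζ ^ i ≠ 1 := fun h => hi ((orderOf_eq_prime hζq hζ1) ▸ orderOf_dvd_of_pow_eq_one h)
    have := congrArg (fun P => aeval (ζ ^ i) P) (cyclotomic_prime_mul_X_sub_one F q)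
    simp only [map_mul, map_sub, map_pow, aeval_X, map_one] at this
    rw [← pow_mul, mul_comm i q, pow_mul, hζq, one_pow, sub_self] at this
    exact (mul_eq_zero.mp this).resolve_right (sub_ne_zero.mpr h1)
  let s : K →+* K := Ideal.Quotient.lift _ (aeval (ζ ^ i)).toRingHom (fun a ha => by
    obtain ⟨b, rfl⟩ := Ideal.mem_span_singleton.mp ha
    show aeval (ζ ^ i) (cyclotomic q F * b) = 0
    rw [map_mul, hζi, zero_mul])
  have hs : s ζ = ζ ^ i := by
    show aeval (ζ ^ i) X = ζ ^ i
    rw [aeval_X]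
  let se : K ≃+* K := RingEquiv.ofBijective s (Finite.injective_iff_bijective.mp s.injective)
  let b := Module.finBasis K V
  let ψ : V ≃+ V :=
    (b.equivFun.toAddEquiv.trans (AddEquiv.piCongrRight fun _ => se.toAddEquiv)).trans
      b.equivFun.symm.toAddEquiv
  have hψ : ∀ (c : K) (u : V), ψ (c • u) = s c • ψ u := by
    intro c u
    show b.equivFun.symm (fun k => se (b.equivFun (c • u) k)) =
      s c • b.equivFun.symm (fun k => se (b.equivFun u k))
    rw [← map_smul b.equivFun.symm]
    congr 1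
    funext k
    simp [map_mul, se]
  have hψv : ψ v ≠ 0 := by simpa using hv
  obtain ⟨L, hL⟩ := exists_scalar_equiv (K := K) hψv hw
  refine ⟨ψ.trans L.toAddEquiv, hL, fun u => ?_⟩
  show L (ψ (T u)) = (T ^ i) (L (ψ u))
  rw [← hroot, hψ, hs, map_smul]
  have hpowroot : ∀ n : ℕ, ∀ u : V, ζ ^ n • u = (T ^ n) u := by
    intro n
    induction n with
    | zero => intro u; simp
    | succ n ih => intro u; rw [pow_succ, mul_smul, hζ, hroot, ← hζ, ih, pow_succ, Module.End.mul_apply]
  exact hpowroot i _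

end Cfsg.Agent.FGS77
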