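import Mathlib.Data.Nat.Prime.Basic
import Mathlib.Tactic.Ring
import Mathlib.Tactic.Linarith
import Mathlib.Tactic.NormNum.Prime
import Mathlib.Tactic.Zify
import Mathlib.Tactic.IntervalCases
import Mathlib.Tactic.Positivity

/-!
# Arithmetic for four automorphism orbits
-/

set_option autoImplicit false

namespace Cfsg.Agent.FGS77

/-- Three Sylow counts with odd data are impossible. -/
theorem arith_odd {n np nq nr Np Nq Nr ap aq ar ep eq er : ℕ}
    (hn : n = 1 + (Np + Nq + Nr)) (hNp : Np + np = np * ap) (hNq : Nq + nq = nq * aq)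
    (hNr : Nr + nr = nr * ar) (h1 : np * (ap * ep) = n) (h2 : nq * (aq * eq) = n)
    (h3 : nr * (ar * er) = n) (hep : 3 ≤ ep) (heq : 3 ≤ eq) (her : 3 ≤ er)
    (hp : 1 ≤ np) (hq : 1 ≤ nq) (hr : 1 ≤ nr) : False := by
  have e1 : 3 * (np * ap) ≤ n := by
    calc 3 * (np * ap) ≤ ep * (np * ap) := Nat.mul_le_mul_right _ hep
      _ = n := by rw [← h1]; ring
  have e2 : 3 * (nq * aq) ≤ n := by
    calc 3 * (nq * aq) ≤ eq * (nq * aq) := Nat.mul_le_mul_right _ heq
      _ = n := by rw [← h2]; ring
  have e3 : 3 * (nr * ar) ≤ n := by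
    calc 3 * (nr * ar) ≤ er * (nr * ar) := Nat.mul_le_mul_right _ her
      _ = n := by rw [← h3]; ring
  omega

/-- The involution count forces the orders `60` or `504`. -/
theorem arith_two {q r m k j I X Y : ℕ} (hq : q.Prime) (hr : r.Prime)
    (hq2 : q ≠ 2) (hr2 : r ≠ 2)
    (hk : k ≠ 0) (hj : j ≠ 0) (ha : 2 ^ m = q + 1) (hI : I = q ^ k * r ^ j)
    (hsum : I * I = I + I * (q - 1) + X + Y)
    (hX : X = 0 ∨ 2 * X + (q + 1) * I = (q + 1) * I * q ^ k)
    (hY : Y = 0 ∨ 2 * Y + (q + 1) * I = (q + 1) * I * r ^ j) :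
    ((q + 1) * I = 60) ∨
      (q = 7 ∧ q ^ k = 7 ∧ r ^ j = 9 ∧ m = 3 ∧ X ≠ 0) := by
  have hq3 : 3 ≤ q := by have := hq.two_le; omega
  have hr3 : 3 ≤ r := by have := hr.two_le; omega
  set b := q ^ k with hb
  set c := r ^ j with hc
  have hqb : q ≤ b := Nat.le_self_pow hk q
  have hc3 : 3 ≤ c := hr3.trans (Nat.le_self_pow hj r)
  have hIpos : 0 < I := hI ▸ Nat.mul_pos (by omega) (by omega)
  have hII : I * I + I * 0 = I + I * (q - 1) + X + Y := by omega
  have hq1 : I + I * (q - 1) = I * q := by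
    obtain ⟨q', rfl⟩ : ∃ q', q = q' + 1 := ⟨q - 1, by omega⟩
    simp [Nat.mul_succ, Nat.add_comm]
  rw [hq1] at hsum
  rcases hX with hX | hX <;> rcases hY with hY | hY
  · exfalso
    subst hX hY
    have : I = q := Nat.eq_of_mul_eq_mul_left hIpos (by omega)
    rw [hI] at this
    have := Nat.mul_le_mul hqb hc3
    omega
  · exfalso
    subst hX
    have h2 : I * (2 * I + (q + 1)) = I * (2 * q + (q + 1) * c) := by linarith [hY, hsum]
    have h3 := Nat.eq_of_mul_eq_mul_left hIpos h2
    rw [hI] at h3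
    have hle : q * c ≤ b * c := Nat.mul_le_mul_right c hqb
    obtain ⟨q', rfl⟩ : ∃ q', q = q' + 3 := ⟨q - 3, by omega⟩
    obtain ⟨c', hc'⟩ : ∃ c', c = c' + 3 := ⟨c - 3, by omega⟩
    rw [hc'] at hle h3
    linarith [Nat.zero_le (q' * c')]
  · exfalso
    subst hY
    have h2 : I * (2 * I + (q + 1)) = I * (2 * q + (q + 1) * b) := by linarith [hX, hsum]
    have h3 := Nat.eq_of_mul_eq_mul_left hIpos h2
    rw [hI] at h3
    rcases le_or_gt (2 * c) (q + 1) with h4 | h4
    · linarith [Nat.mul_le_mul_left b h4]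
    · linarith [Nat.mul_le_mul_left b (show q + 1 + 1 ≤ 2 * c from h4)]
  · have h2 : I * (2 * I + 2 * (q + 1)) = I * (2 * q + (q + 1) * (b + c)) := by linarith [hX, hY, hsum]
    have h3 := Nat.eq_of_mul_eq_mul_left hIpos h2
    rw [hI] at h3
    have h4 : 2 * (b * c) + 2 = (q + 1) * (b + c) := by linarith
    obtain ⟨b', hb'⟩ : q ∣ b := hb ▸ dvd_pow_self q hk
    have hmod : c % q = 2 := by
      have e : q * (2 * b' * c) + 2 = q * (b' * q + b' + c) + c := by rw [hb'] at h4; linarith [h4]
      have e' := congrArg (· % q) e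
      simp only [Nat.mul_add_mod] at e'
      rw [Nat.mod_eq_of_lt (show 2 < q by omega)] at e'
      exact e'.symm
    have hcq : q + 2 ≤ c := by
      have := Nat.div_add_mod c q
      rw [hmod] at this
      rcases Nat.eq_zero_or_pos (c / q) with h0 | h0
      · rw [h0] at this; omega
      · have := Nat.mul_le_mul_left q h0
        omega
    have hk1 : k = 1 := by
      by_contra hk1
      have hb2 : q * q ≤ b := by
        rw [hb, show q * q = q ^ 2 by ring]
        exact Nat.pow_le_pow_right (by omega) (by omega)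
      have h5 : q * q * c ≤ b * c := Nat.mul_le_mul_right c hb2
      have h6 : b * (q + 2) ≤ b * c := Nat.mul_le_mul_left b hcq
      have h7 : (q + 1) * c ≤ q * q * c :=
        Nat.mul_le_mul_right c (by have := Nat.mul_le_mul_right q hq3; omega)
      have h8 : 0 < b := by omega
      linarith
    have hbq : b = q := by rw [hb, hk1, pow_one]
    have hcq' : c = q + 2 := by
      obtain ⟨q', hq'⟩ : ∃ q', q = q' + 2 := ⟨q - 2, by omega⟩
      rw [hbq, hq'] at h4
      rw [hq']
      have : (q' + 1) * c = (q' + 1) * (q' + 4) := by linarith [h4]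
      exact Nat.eq_of_mul_eq_mul_left (by omega) this
    by_cases hq' : q = 3
    · left
      rw [hI, hbq, hcq', hq']
    · right
      have hq3' : q % 3 ≠ 0 := fun h => hq' ((hq.eq_one_or_self_of_dvd 3 (Nat.dvd_of_mod_eq_zero h)).resolve_left (by norm_num)).symm
      have hq1' : (q + 1) % 3 ≠ 0 := fun h => by
        have h' : 3 ∣ 2 ^ m := ha ▸ Nat.dvd_of_mod_eq_zero h
        exact absurd (Nat.prime_three.dvd_of_dvd_pow h') (by norm_num)
      have h3c : 3 ∣ c := by
        apply Nat.dvd_of_mod_eq_zero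
        rw [hcq']
        omega
      have hr' : r = 3 := ((Nat.prime_dvd_prime_iff_eq Nat.prime_three hr).mp
        (Nat.prime_three.dvd_of_dvd_pow (hc ▸ h3c))).symm
      have hm3 : 3 ≤ m := by
        by_contra h
        interval_cases m <;> omega
      have h8 : (q + 1) % 8 = 0 := by
        rw [← ha, show m = 3 + (m - 3) by omega, pow_add]
        simp [Nat.mul_mod]
      have hc3j : c = 3 ^ j := by rw [hc, hr']
      have hc8 : 3 ^ j % 8 = 1 := by rw [← hc3j, hcq']; omega
      have hj2 : j % 2 = 0 := by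
        rcases Nat.mod_two_eq_zero_or_one j with h | h
        · exact h
        · exfalso
          rw [← Nat.div_add_mod j 2, h, pow_succ, pow_mul] at hc8
          simp [Nat.mul_mod, Nat.pow_mod] at hc8
      obtain ⟨i, rfl⟩ : ∃ i, j = 2 * i := ⟨j / 2, by omega⟩
      have hi1 : 1 ≤ 3 ^ i := Nat.one_le_pow _ _ (by norm_num)
      obtain ⟨u, hu⟩ : ∃ u, 3 ^ i = u + 1 := ⟨3 ^ i - 1, by omega⟩
      have h9 : u * (u + 2) = 2 ^ m := by
        have : c = (u + 1) * (u + 1) := by rw [hc3j, two_mul, pow_add, hu]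
        linarith
      obtain ⟨s, -, hs⟩ := (Nat.dvd_prime_pow Nat.prime_two).mp (Dvd.intro _ h9 : u ∣ 2 ^ m)
      obtain ⟨t, -, ht⟩ := (Nat.dvd_prime_pow Nat.prime_two).mp (Dvd.intro_left _ h9 : u + 2 ∣ 2 ^ m)
      have hu0 : u ≠ 0 := fun h => by rw [h, zero_mul] at h9; exact absurd h9.symm (by positivity)
      have hu2 : u = 2 := by
        rcases s with _ | _ | s
        · exfalso
          rw [hs, pow_zero] at ht
          have := congrArg (· % 2) ht
          rcases t with _ | t
          · omega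
          · simp [pow_succ, Nat.mul_mod] at this
        · simpa using hs
        · exfalso
          rcases t with _ | _ | t
          · omega
          · omega
          · rw [hs, pow_succ, pow_succ, pow_succ 2 (t + 1), pow_succ 2 t] at ht
            omega
      subst hu2
      have hm : 2 ^ m = 2 ^ 3 := by rw [← h9]; norm_num
      have hm' : m = 3 := Nat.pow_right_injective (le_refl 2) hm
      rw [hm'] at ha
      refine ⟨by omega, by rw [hbq]; omega, by rw [hcq']; omega, hm', fun h => ?_⟩
      have hb7 : b = q := hbq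
      rw [h, hb7] at hX
      have h10 : (q + 1) * I * 2 ≤ (q + 1) * I * q := Nat.mul_le_mul_left _ (by omega)
      have h11 : 0 < (q + 1) * I := Nat.mul_pos (by omega) hIpos
      omega

end Cfsg.Agent.FGS77
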