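import Cfsg.Agent.FGS77.FourOrbitsLocal
import Cfsg.Agent.FGS77.FourOrbitsArith

/-!
# Involution count in a simple group with four automorphism orbits
-/

set_option autoImplicit false

universe u

namespace Cfsg.Agent.FGS77

open scoped IsMulCommutative

variable {G : Type u} [Group G] [Finite G] {T : Finset ℕ}

theorem PrimeOrders.commute_or_isConj (hG : PrimeOrders G) {x y : G} (hx : orderOf x = 2)
    (hy : orderOf y = 2) : Commute x y ∨ IsConj x y := by
  have hx2 : x * x = 1 := by rw [← pow_two, ← hx, pow_orderOf_eq_one]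
  have hy2 : y * y = 1 := by rw [← pow_two, ← hy, pow_orderOf_eq_one]
  have hxi : x⁻¹ = x := inv_eq_of_mul_eq_one_right hx2
  have hyi : y⁻¹ = y := inv_eq_of_mul_eq_one_right hy2
  rcases eq_or_ne (x * y) 1 with h1 | h1
  · left
    rw [eq_inv_of_mul_eq_one_right h1, hxi]
  have hm := hG _ h1
  rcases hm.eq_two_or_odd with h2 | h2
  · left
    have h3 : (x * y) * (x * y) = 1 := by rw [← pow_two, ← h2, pow_orderOf_eq_one]
    show x * y = y * x
    calc x * y = (x * y)⁻¹ := eq_inv_of_mul_eq_one_left h3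
      _ = y * x := by rw [mul_inv_rev, hxi, hyi]
  · right
    obtain ⟨k, hk⟩ : ∃ k, orderOf (x * y) = 2 * k + 1 := ⟨orderOf (x * y) / 2, by omega⟩
    -- `(xy) ^ (k + 1)` conjugates `y` to `x`
    have hinv : ∀ n : ℕ, y * (x * y) ^ n * y⁻¹ = ((x * y) ^ n)⁻¹ := fun n => by
      rw [← conj_pow, ← inv_pow]
      congr 1
      rw [mul_inv_rev, hxi, hyi, mul_assoc, mul_assoc, hy2, mul_one]
    set w := (x * y) ^ (k + 1) with hw
    have hww : w * w = x * y := by
      rw [hw, ← pow_add, show k + 1 + (k + 1) = orderOf (x * y) + 1 by omega, pow_succ,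
        pow_orderOf_eq_one, one_mul]
    refine (isConj_iff.mpr ⟨w, ?_⟩ : IsConj y x).symm
    have h4 := hinv (k + 1)
    rw [← hw] at h4
    have h5 : y * w⁻¹ = w * y := by
      rw [← h4]
      simp [mul_assoc, hyi, ← mul_assoc y y, hy2]
    calc w * y * w⁻¹ = w * (y * w⁻¹) := mul_assoc _ _ _
      _ = w * (w * y) := by rw [h5]
      _ = x := by rw [← mul_assoc, hww, mul_assoc, hy2, mul_one]

/-- The involutions form one conjugacy class. -/
theorem FourOrbits.isConj_of_two (hG : FourOrbits G T) [IsSimpleGroup G] {x y : G}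
    (hx : orderOf x = 2) (hy : orderOf y = 2) : IsConj x y := by
  classical
  have hx1 : x ≠ 1 := fun h => by rw [h, orderOf_one] at hx; norm_num at hx
  have hy1 : y ≠ 1 := fun h => by rw [h, orderOf_one] at hy; norm_num at hy
  by_contra hne
  have hsub : Group.conjugatesOfSet ({x} : Set G) ⊆ Subgroup.centralizer ({y} : Set G) := by
    intro z hz
    obtain ⟨x', hx', hzc⟩ := Group.mem_conjugatesOfSet_iff.mp hz
    rw [Set.mem_singleton_iff] at hx'
    rw [hx'] at hzc
    obtain ⟨c, rfl⟩ := isConj_iff.mp hzc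
    have hz : orderOf (c * x * c⁻¹) = 2 := by
      rw [show c * x * c⁻¹ = MulAut.conj c x from rfl, MulEquiv.orderOf_eq, hx]
    rcases hG.primeOrders.commute_or_isConj hz hy with h | h
    · exact Subgroup.mem_centralizer_singleton_iff.mpr h
    · exact absurd (IsConj.trans (isConj_iff.mpr ⟨c, rfl⟩) h) hne
  have hle : Subgroup.normalClosure ({x} : Set G) ≤ Subgroup.centralizer ({y} : Set G) :=
    (Subgroup.closure_le _).mpr hsub
  rcases Subgroup.Normal.eq_bot_or_eq_top (H := Subgroup.normalClosure ({x} : Set G)) inferInstance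
    with h | h
  · exact hx1 ((Subgroup.eq_bot_iff_forall _).mp h x (Subgroup.subset_normalClosure rfl))
  · haveI : Fact (Nat.Prime 2) := ⟨Nat.prime_two⟩
    obtain ⟨P, hP⟩ := hG.centralizer_eq_sylow hy
    obtain ⟨r, hr, hr2⟩ := Finset.exists_mem_ne (by rw [hG.card_T]; norm_num : 1 < T.card) 2
    haveI : Fact r.Prime := ⟨hG.prime_T r hr⟩
    obtain ⟨g, hg⟩ := exists_prime_orderOf_dvd_card' r (hG.dvd_T r hr)
    have hg1 : g ≠ 1 := fun h' => (hG.prime_T r hr).ne_one (by rw [← hg, h', orderOf_one])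
    exact hr2 (hg ▸ hG.primeOrders.orderOf_of_mem Nat.prime_two P.isPGroup'
      (hP ▸ hle (h ▸ Subgroup.mem_top g)) hg1)

theorem FourOrbits.card_normalizer_two (hG : FourOrbits G T) [IsSimpleGroup G]
    [Fact (Nat.Prime 2)] (h2 : 2 ∈ T) (P : Sylow 2 G) {e : ℕ}
    (he : Nat.card (Subgroup.normalizer ((P : Subgroup G) : Set G)) = Nat.card (P : Subgroup G) * e) :
    Nat.card (P : Subgroup G) = e + 1 := by
  classical
  obtain ⟨z, hzP, hz1, hzo, hPz⟩ := hG.exists_mem_sylow h2 P
  set M := Subgroup.normalizer ((P : Subgroup G) : Set G) with hM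
  set P' : Subgroup M := (P : Subgroup G).subgroupOf M
  let f : M ⧸ P' → {x : (P : Subgroup G) // x ≠ 1} := Quotient.lift
    (fun g : M => ⟨⟨(g : G) * z * (g : G)⁻¹, (Subgroup.mem_normalizer_iff.mp g.2 z).mp hzP⟩,
      fun h => hz1 (by simpa using congrArg Subtype.val h)⟩)
    (fun a b hab => by
      have hab' : (a : G)⁻¹ * b ∈ (P : Subgroup G) :=
        (QuotientGroup.leftRel_apply (s := P')).mp hab
      rw [hPz, Subgroup.mem_centralizer_singleton_iff] at hab'
      apply Subtype.ext; apply Subtype.ext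
      show (a : G) * z * (a : G)⁻¹ = b * z * (b : G)⁻¹
      calc (a : G) * z * (a : G)⁻¹ = a * (z * ((a : G)⁻¹ * b)) * (b : G)⁻¹ := by group
        _ = a * ((a : G)⁻¹ * b * z) * (b : G)⁻¹ := by rw [hab']
        _ = b * z * (b : G)⁻¹ := by group)
  have hf : Function.Bijective f := by
    constructor
    · intro u v huv
      induction u using Quotient.inductionOn with
      | h a =>
      induction v using Quotient.inductionOn with
      | h b =>
      have h : (a : G) * z * (a : G)⁻¹ = b * z * (b : G)⁻¹ :=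
        congrArg (fun t => ((t : (P : Subgroup G)) : G)) (congrArg Subtype.val huv)
      refine Quotient.sound (QuotientGroup.leftRel_apply.mpr ?_)
      show (a : G)⁻¹ * b ∈ (P : Subgroup G)
      rw [hPz, Subgroup.mem_centralizer_singleton_iff]
      calc (a : G)⁻¹ * b * z = (a : G)⁻¹ * (b * z * (b : G)⁻¹) * b := by group
        _ = (a : G)⁻¹ * (a * z * (a : G)⁻¹) * b := by rw [h]
        _ = z * ((a : G)⁻¹ * b) := by group
    · rintro ⟨⟨x, hx⟩, hx1⟩
      have hx1' : x ≠ 1 := fun h => hx1 (Subtype.ext h)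
      obtain ⟨g, hg⟩ := isConj_iff.mp (hG.isConj_of_two hzo
        (hG.primeOrders.orderOf_of_mem Nat.prime_two P.isPGroup' hx hx1'))
      have hmap : (P : Subgroup G).map (MulAut.conj g).toMonoidHom = P := by
        refine congrArg Sylow.toSubgroup
          (hG.sylow_ti (Sylow.ofCard ((P : Subgroup G).map (MulAut.conj g).toMonoidHom) ?_) P hx1'
            (⟨z, hzP, hg⟩ : x ∈ (P : Subgroup G).map (MulAut.conj g).toMonoidHom) hx)
        rw [Subgroup.card_map_of_injective (f := (MulAut.conj g).toMonoidHom) (MulAut.conj g).injective]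
        exact P.card_eq_multiplicity
      have hgM : g ∈ M := Subgroup.mem_normalizer_iff.mpr fun a => by
        constructor
        · intro ha
          rw [← hmap]
          exact ⟨a, ha, rfl⟩
        · intro ha
          rw [← hmap] at ha
          obtain ⟨b, hb, hba⟩ := ha
          rwa [← (MulAut.conj g).injective (show MulAut.conj g b = MulAut.conj g a from hba)]
      exact ⟨Quotient.mk'' ⟨g, hgM⟩, Subtype.ext (Subtype.ext hg)⟩
  have h1 := Nat.card_eq_of_bijective f hf
  have h3 : Nat.card M = Nat.card (M ⧸ P') * Nat.card (P : Subgroup G) := by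
    rw [Subgroup.card_eq_card_quotient_mul_card_subgroup P',
      Nat.card_congr (Subgroup.subgroupOfEquivOfLe (Subgroup.le_normalizer)).toEquiv]
  have h4 : Nat.card (M ⧸ P') = e :=
    Nat.eq_of_mul_eq_mul_right Nat.card_pos (by rw [← h3, he, mul_comm])
  letI : Fintype (P : Subgroup G) := Fintype.ofFinite _
  rw [h4, Nat.card_eq_fintype_card, Fintype.card_subtype_compl, Fintype.card_subtype_eq] at h1
  rw [Nat.card_eq_fintype_card]
  have := Fintype.card_pos (α := (P : Subgroup G))
  omega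

/-- The number of ways to write `g` as a product of two involutions. -/
noncomputable def pairCount (G : Type u) [Group G] (g : G) : ℕ :=
  Nat.card {x : G // orderOf x = 2 ∧ orderOf (x * g) = 2}

theorem pairCount_apply (φ : MulAut G) (g : G) : pairCount G (φ g) = pairCount G g := by
  refine (Nat.card_congr (Equiv.subtypeEquiv φ.toEquiv fun x => ?_)).symm
  show _ ↔ orderOf (φ x) = 2 ∧ orderOf (φ x * φ g) = 2
  rw [← map_mul, MulEquiv.orderOf_eq, MulEquiv.orderOf_eq]

theorem pairCount_one : pairCount G 1 = Nat.card {x : G // orderOf x = 2} :=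
  Nat.card_congr (Equiv.subtypeEquivRight fun x => by simp)

theorem FourOrbits.pairCount_two (hG : FourOrbits G T) [Fact (Nat.Prime 2)] (P : Sylow 2 G)
    {g : G} (hg : orderOf g = 2) :
    pairCount G g + 2 = Nat.card (P : Subgroup G) := by
  classical
  obtain ⟨Q, hQ⟩ := hG.centralizer_eq_sylow hg
  have hg1 : g ≠ 1 := fun h => by rw [h, orderOf_one] at hg; norm_num at hg
  have hgg : g * g = 1 := by rw [← pow_two, ← hg, pow_orderOf_eq_one]
  have hgi : g⁻¹ = g := inv_eq_of_mul_eq_one_right hgg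
  letI : Fintype G := Fintype.ofFinite G
  have hgC : g ∈ Subgroup.centralizer ({g} : Set G) := Subgroup.mem_centralizer_singleton_iff.mpr rfl
  have hset : (Finset.univ.filter fun x : G => orderOf x = 2 ∧ orderOf (x * g) = 2) =
      ((Finset.univ.filter fun x : G => x ∈ (Q : Subgroup G)).erase 1).erase g := by
    ext x
    simp only [Finset.mem_filter, Finset.mem_univ, true_and, Finset.mem_erase]
    constructor
    · rintro ⟨hx, hxg⟩
      have hxx : x * x = 1 := by rw [← pow_two, ← hx, pow_orderOf_eq_one]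
      refine ⟨fun h => ?_, fun h => ?_, ?_⟩
      · rw [h, hgg, orderOf_one] at hxg; norm_num at hxg
      · rw [h, orderOf_one] at hx; norm_num at hx
      · rw [hQ, Subgroup.mem_centralizer_singleton_iff]
        have h3 : (x * g) * (x * g) = 1 := by rw [← pow_two, ← hxg, pow_orderOf_eq_one]
        calc x * g = (x * g)⁻¹ := eq_inv_of_mul_eq_one_left h3
          _ = g * x := by rw [mul_inv_rev, hgi, inv_eq_of_mul_eq_one_right hxx]
    · rintro ⟨hxg, hx1, hxQ⟩
      refine ⟨hG.primeOrders.orderOf_of_mem Nat.prime_two Q.isPGroup' hxQ hx1,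
        hG.primeOrders.orderOf_of_mem Nat.prime_two Q.isPGroup'
          (mul_mem hxQ (hQ ▸ hgC)) fun h => hxg ?_⟩
      rw [eq_inv_of_mul_eq_one_left h, hgi]
  rw [pairCount, Nat.card_eq_fintype_card, Fintype.card_subtype, hset,
    Finset.card_erase_of_mem, Finset.card_erase_of_mem]
  · have h2 : (Finset.univ.filter fun x : G => x ∈ (Q : Subgroup G)).card = Nat.card (P : Subgroup G) := by
      rw [← Fintype.card_subtype, ← Nat.card_eq_fintype_card]
      exact Q.card_eq_multiplicity.trans P.card_eq_multiplicity.symm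
    have : 1 < Nat.card (P : Subgroup G) := by
      rw [← h2]
      exact Finset.one_lt_card.mpr ⟨1, by simp, g, Finset.mem_filter.mpr ⟨Finset.mem_univ _, hQ ▸ hgC⟩,
        Ne.symm hg1⟩
    omega
  · simp
  · refine Finset.mem_erase.mpr ⟨hg1, ?_⟩
    exact Finset.mem_filter.mpr ⟨Finset.mem_univ _, hQ ▸ hgC⟩

/-- For an element of odd prime order, either it is not inverted by an involution, or it is inverted
by exactly as many as the order of its centralizer. -/
theorem FourOrbits.pairCount_odd (hG : FourOrbits G T) [IsSimpleGroup G] {s : ℕ} [hsf : Fact s.Prime]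
    (hs2 : s ≠ 2) {g : G} (hg : orderOf g = s) :
    pairCount G g = 0 ∨ (pairCount G g = Nat.card ((default : Sylow s G) : Subgroup G) ∧
      Nat.card (Sylow s G) * (Nat.card ((default : Sylow s G) : Subgroup G) * 2) = Nat.card G) := by
  classical
  by_cases hemp : IsEmpty {x : G // orderOf x = 2 ∧ orderOf (x * g) = 2}
  · left; exact Nat.card_eq_zero.mpr (Or.inl hemp)
  right
  obtain ⟨⟨x0, hx0, hx0g⟩⟩ := not_isEmpty_iff.mp hemp
  obtain ⟨Q, hQ⟩ := hG.centralizer_eq_sylow hg
  have hg1 : g ≠ 1 := fun h => hsf.out.ne_one (by rw [← hg, h, orderOf_one])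
  have hs : s ∈ T := hg ▸ hG.mem_T g hg1
  have hgQ : g ∈ (Q : Subgroup G) := by rw [hQ, Subgroup.mem_centralizer_singleton_iff]
  -- inversion
  have hinv : ∀ x : G, orderOf x = 2 → orderOf (x * g) = 2 → x * g * x = g⁻¹ := fun x hx hxg => by
    have h3 : (x * g) * (x * g) = 1 := by rw [← pow_two, ← hxg, pow_orderOf_eq_one]
    exact eq_inv_of_mul_eq_one_left (by simpa [mul_assoc] using h3)
  have hx0x0 : x0 * x0 = 1 := by rw [← pow_two, ← hx0, pow_orderOf_eq_one]
  have hx0i : x0⁻¹ = x0 := inv_eq_of_mul_eq_one_right hx0x0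
  set M := Subgroup.normalizer ((Q : Subgroup G) : Set G)
  have hx0inv := hinv x0 hx0 hx0g
  have hconj : ∀ c ∈ (Q : Subgroup G), x0 * c * x0⁻¹ ∈ (Q : Subgroup G) := by
    intro c hc
    rw [hQ, Subgroup.mem_centralizer_singleton_iff] at hc ⊢
    have hc' : c * g⁻¹ = g⁻¹ * c := (Commute.inv_right hc : Commute c g⁻¹)
    have hg' : x0 * g⁻¹ * x0⁻¹ = g := by
      have := congrArg Inv.inv hx0inv
      rw [inv_inv, mul_inv_rev, mul_inv_rev, hx0i, ← mul_assoc] at this
      rwa [hx0i]
    calc x0 * c * x0⁻¹ * g = x0 * c * x0⁻¹ * (x0 * g⁻¹ * x0⁻¹) := by rw [hg']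
      _ = x0 * (c * g⁻¹) * x0⁻¹ := by group
      _ = x0 * (g⁻¹ * c) * x0⁻¹ := by rw [hc']
      _ = (x0 * g⁻¹ * x0⁻¹) * (x0 * c * x0⁻¹) := by group
      _ = g * (x0 * c * x0⁻¹) := by rw [hg']
  have hx0M : x0 ∈ M := Subgroup.mem_normalizer_iff.mpr fun c => ⟨hconj c, fun h => by
    have := hconj _ h
    simpa [hx0i, mul_assoc, ← mul_assoc x0 x0, hx0x0] using this⟩
  have hx0Q : x0 ∉ (Q : Subgroup G) := fun h => hs2 (by
    rw [← hx0, hG.primeOrders.orderOf_of_mem hsf.out Q.isPGroup' h
      (fun h' => by rw [h', orderOf_one] at hx0; norm_num at hx0)])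
  obtain ⟨e, -, -, hcard, hord⟩ := hG.exists_normalizer_card hs Q
  have he : e = 2 := (hord x0 hx0M hx0Q).symm.trans hx0
  subst he
  have hQc : Nat.card ((default : Sylow s G) : Subgroup G) = Nat.card (Q : Subgroup G) :=
    (Sylow.card_eq_multiplicity _).trans Q.card_eq_multiplicity.symm
  rw [hQc]
  refine ⟨?_, ?_⟩
  · refine (Nat.card_congr (?_ : (Q : Subgroup G) ≃ {x : G // orderOf x = 2 ∧ orderOf (x * g) = 2})).symm
    have hmem : ∀ c ∈ (Q : Subgroup G), orderOf (x0 * c) = 2 := fun c hc =>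
      hord _ (M.mul_mem hx0M (Subgroup.le_normalizer hc))
        (fun h => hx0Q ((Subgroup.mul_mem_cancel_right _ hc).mp h))
    have hback : ∀ x : G, orderOf x = 2 → orderOf (x * g) = 2 → x0⁻¹ * x ∈ (Q : Subgroup G) := by
      intro x hx hxg
      rw [hQ, Subgroup.mem_centralizer_singleton_iff]
      have hxx : x * x = 1 := by rw [← pow_two, ← hx, pow_orderOf_eq_one]
      have h1 : x * g = g⁻¹ * x := by
        rw [← hinv x hx hxg, mul_assoc (x * g), hxx, mul_one]
      have h2 : x0⁻¹ * g⁻¹ = g * x0⁻¹ := by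
        rw [← hx0inv, hx0i, ← mul_assoc, ← mul_assoc, hx0x0, one_mul]
      calc x0⁻¹ * x * g = x0⁻¹ * (x * g) := mul_assoc _ _ _
        _ = x0⁻¹ * g⁻¹ * x := by rw [h1, mul_assoc]
        _ = g * x0⁻¹ * x := by rw [h2]
        _ = g * (x0⁻¹ * x) := mul_assoc _ _ _
    exact
      { toFun := fun c => ⟨x0 * c, hmem c c.2, by rw [mul_assoc]; exact hmem _ (mul_mem c.2 hgQ)⟩
        invFun := fun x => ⟨x0⁻¹ * x, hback x x.2.1 x.2.2⟩
        left_inv := fun c => Subtype.ext (by simp)
        right_inv := fun x => Subtype.ext (by simp) }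
  · rw [← hcard, Q.card_eq_index_normalizer]; exact Subgroup.index_mul_card _

theorem card_pairs [Fintype G] :
    Nat.card {x : G // orderOf x = 2} * Nat.card {x : G // orderOf x = 2} = ∑ g : G, pairCount G g := by
  rw [← Nat.card_prod]
  unfold pairCount
  rw [← Nat.card_sigma]
  refine Nat.card_congr
    { toFun := fun p => ⟨(p.1 : G) * p.2, p.1, p.1.2, ?_⟩
      invFun := fun y => (⟨y.2, y.2.2.1⟩, ⟨y.2 * y.1, y.2.2.2⟩)
      left_inv := fun p => ?_
      right_inv := fun y => ?_ }
  · have h : (p.1 : G) * p.1 = 1 := by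
      rw [← pow_two]
      calc (p.1 : G) ^ 2 = (p.1 : G) ^ orderOf (p.1 : G) := by rw [p.1.2]
        _ = 1 := pow_orderOf_eq_one _
    rw [← mul_assoc, h, one_mul]
    exact p.2.2
  · have h : (p.1 : G) * p.1 = 1 := by
      rw [← pow_two]
      calc (p.1 : G) ^ 2 = (p.1 : G) ^ orderOf (p.1 : G) := by rw [p.1.2]
        _ = 1 := pow_orderOf_eq_one _
    refine Prod.ext rfl (Subtype.ext ?_)
    show (p.1 : G) * (p.1 * p.2) = p.2
    rw [← mul_assoc, h, one_mul]
  · obtain ⟨g, x, hx, hxg⟩ := y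
    have h : x * x = 1 := by rw [← pow_two, ← hx, pow_orderOf_eq_one]
    have h' : x * (x * g) = g := by rw [← mul_assoc, h, one_mul]
    exact Sigma.subtype_ext h' rfl

/-- A simple group with four automorphism orbits has order `60`, or has the local structure of a
group of order `504`. -/
theorem FourOrbits.card_eq (hG : FourOrbits G T) [IsSimpleGroup G] :
    Nat.card G = 60 ∨ ∃ (M P : Subgroup G) (c x : G), IsPGroup 2 P ∧ M = Subgroup.normalizer (P : Set G) ∧
      Nat.card P = 8 ∧ Nat.card M = 56 ∧ M.index = 9 ∧ c ∈ M ∧ orderOf c = 7 ∧ orderOf x = 2 ∧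
      x * c * x = c⁻¹ ∧ (∀ g : G, g ≠ 1 → orderOf g = 2 ∨ orderOf g = 3 ∨ orderOf g = 7) := by
  classical
  letI : Fintype G := Fintype.ofFinite G
  have hsplit : ∀ F : G → ℕ, ∑ g : G, F g =
      F 1 + ∑ s ∈ T, ∑ g ∈ Finset.univ.filter (fun g : G => orderOf g = s), F g := by
    intro F
    have h1T : 1 ∉ T := fun h => Nat.not_prime_one (hG.prime_T 1 h)
    have hmaps : ∀ g ∈ (Finset.univ : Finset G), orderOf g ∈ insert 1 T := fun g _ => by
      rcases eq_or_ne g 1 with rfl | h
      · simp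
      · exact Finset.mem_insert_of_mem (hG.mem_T g h)
    rw [← Finset.sum_fiberwise_of_maps_to hmaps, Finset.sum_insert h1T]
    congr 1
    rw [show (Finset.univ.filter fun g : G => orderOf g = 1) = {1} by ext; simp, Finset.sum_singleton]
  have hN : ∀ s : ℕ, (Finset.univ.filter fun g : G => orderOf g = s).card =
      Nat.card {x : G // orderOf x = s} := fun s => by
    rw [Nat.card_eq_fintype_card, Fintype.card_subtype]
  have hn1 : Nat.card G = 1 + ∑ s ∈ T, Nat.card {x : G // orderOf x = s} := by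
    have := hsplit fun _ => 1
    rw [Nat.card_eq_fintype_card, Fintype.card_eq_sum_ones, this]
    simp [hN]
  have hdata : ∀ s ∈ T, ∀ [Fact s.Prime], ∃ e ∈ T, e ≠ s ∧
      Nat.card (Sylow s G) * (Nat.card ((default : Sylow s G) : Subgroup G) * e) = Nat.card G ∧
      1 ≤ Nat.card (Sylow s G) := by
    intro s hs _
    obtain ⟨e, heT, hes, hcard, -⟩ := hG.exists_normalizer_card hs default
    exact ⟨e, heT, hes, by rw [← hcard, (default : Sylow s G).card_eq_index_normalizer]; exact Subgroup.index_mul_card _,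
      Nat.card_pos⟩
  have hge3 : ∀ s ∈ T, s ≠ 2 → 3 ≤ s := fun s hs hs2 => by
    have := (hG.prime_T s hs).two_le; omega
  -- `2` is one of the primes
  have h2T : 2 ∈ T := by
    by_contra h2
    obtain ⟨p, q, r, hpq, hpr, hqr, hTeq⟩ := Finset.card_eq_three.mp hG.card_T
    have hp : p ∈ T := by simp [hTeq]
    have hq : q ∈ T := by simp [hTeq]
    have hr : r ∈ T := by simp [hTeq]
    haveI : Fact p.Prime := ⟨hG.prime_T p hp⟩
    haveI : Fact q.Prime := ⟨hG.prime_T q hq⟩
    haveI : Fact r.Prime := ⟨hG.prime_T r hr⟩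
    obtain ⟨ep, hepT, -, h1, hp1⟩ := hdata p hp
    obtain ⟨eq', heqT, -, h2', hq1⟩ := hdata q hq
    obtain ⟨er, herT, -, h3, hr1⟩ := hdata r hr
    have hne : ∀ s ∈ T, s ≠ 2 := fun s hs h => h2 (h ▸ hs)
    refine arith_odd (n := Nat.card G) ?_ (hG.card_orderOf (s := p)) (hG.card_orderOf (s := q))
      (hG.card_orderOf (s := r)) h1 h2' h3 (hge3 _ hepT (hne _ hepT)) (hge3 _ heqT (hne _ heqT))
      (hge3 _ herT (hne _ herT)) hp1 hq1 hr1
    rw [hn1, hTeq, Finset.sum_insert (by simp [hpq, hpr]), Finset.sum_insert (by simp [hqr]),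
      Finset.sum_singleton]
    ring
  haveI h2f : Fact (Nat.Prime 2) := ⟨Nat.prime_two⟩
  set P : Sylow 2 G := default
  obtain ⟨q, hqT, hq2, hqcard, hqord⟩ := hG.exists_normalizer_card h2T P
  have hP : Nat.card (P : Subgroup G) = q + 1 := hG.card_normalizer_two h2T P hqcard
  obtain ⟨r, hTeq, hrq, hr2⟩ : ∃ r, T = {2, q, r} ∧ r ≠ q ∧ r ≠ 2 := by
    have hsub : {2, q} ⊆ T := by
      intro a ha; simp at ha; rcases ha with rfl | rfl <;> assumption
    have hc : (T \ {2, q}).card = 1 := by
      rw [Finset.card_sdiff_of_subset hsub, hG.card_T, Finset.card_pair hq2.symm]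
    obtain ⟨r, hr⟩ := Finset.card_eq_one.mp hc
    have hrmem : r ∈ T \ {2, q} := hr ▸ Finset.mem_singleton_self r
    simp at hrmem
    refine ⟨r, ?_, hrmem.2.2, hrmem.2.1⟩
    have := Finset.union_sdiff_of_subset hsub
    rw [hr] at this
    rw [← this]
    ext a
    simp
  have hrT : r ∈ T := by simp [hTeq]
  haveI hqf : Fact q.Prime := ⟨hG.prime_T q hqT⟩
  haveI hrf : Fact r.Prime := ⟨hG.prime_T r hrT⟩
  have hsum3 : ∀ F : ℕ → ℕ, ∑ s ∈ T, F s = F 2 + F q + F r := fun F => by
    rw [hTeq, Finset.sum_insert (by simp [hq2.symm, hr2.symm]),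
      Finset.sum_insert (by simp [hrq.symm]), Finset.sum_singleton]
    ring
  obtain ⟨m, hm⟩ := IsPGroup.iff_card.mp P.isPGroup'
  have hpow : ∀ s ∈ T, ∀ [Fact s.Prime], ∃ k, k ≠ 0 ∧
      Nat.card ((default : Sylow s G) : Subgroup G) = s ^ k ∧ k = (Nat.card G).factorization s := by
    intro s hs _
    refine ⟨(Nat.card G).factorization s, ?_, Sylow.card_eq_multiplicity _, rfl⟩
    exact (Nat.Prime.factorization_pos_of_dvd Fact.out Nat.card_pos.ne' (hG.dvd_T s hs)).ne'
  obtain ⟨k, hk, hbk, hkf⟩ := hpow q hqT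
  obtain ⟨j, hj, hcj, hjf⟩ := hpow r hrT
  have hcardG : Nat.card G = (q + 1) * (q ^ k * r ^ j) := by
    have h0 : Nat.card G = ∏ s ∈ (Nat.card G).primeFactors, s ^ (Nat.card G).factorization s :=
      (Nat.prod_factorization_pow_eq_self Nat.card_pos.ne').symm
    have hpf : (Nat.card G).primeFactors = T := by
      ext s
      rw [Nat.mem_primeFactors]
      constructor
      · rintro ⟨hs, hd, -⟩
        haveI : Fact s.Prime := ⟨hs⟩
        obtain ⟨g, hg⟩ := exists_prime_orderOf_dvd_card' s hd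
        exact hg ▸ hG.mem_T g fun h => hs.ne_one (by rw [← hg, h, orderOf_one])
      · exact fun hs => ⟨hG.prime_T s hs, hG.dvd_T s hs, Nat.card_pos.ne'⟩
    rw [hpf, hTeq, Finset.prod_insert (by simp [hq2.symm, hr2.symm]),
      Finset.prod_insert (by simp [hrq.symm]), Finset.prod_singleton, ← hkf, ← hjf] at h0
    rw [← Sylow.card_eq_multiplicity P, hP] at h0
    exact h0
  have hn2 : Nat.card (Sylow 2 G) * (Nat.card (P : Subgroup G) * q) = Nat.card G := by
    rw [← hqcard, P.card_eq_index_normalizer]; exact Subgroup.index_mul_card _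
  set I := Nat.card {x : G // orderOf x = 2} with hIdef
  have hI : I = q ^ k * r ^ j := by
    have h := hG.card_orderOf (s := 2)
    rw [← hIdef, hP] at h
    have h' : I = Nat.card (Sylow 2 G) * q := by
      rw [Nat.mul_add, mul_one] at h; omega
    refine Nat.eq_of_mul_eq_mul_left (Nat.succ_pos q) ?_
    show (q + 1) * I = (q + 1) * (q ^ k * r ^ j)
    rw [← hcardG, ← hn2, hP, h']; ring
  have hodd : ∀ s ∈ T, s ≠ 2 → ∀ [Fact s.Prime],
      (∑ g ∈ Finset.univ.filter (fun g : G => orderOf g = s), pairCount G g = 0) ∨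
      (2 * (∑ g ∈ Finset.univ.filter (fun g : G => orderOf g = s), pairCount G g) + Nat.card G =
          Nat.card G * Nat.card ((default : Sylow s G) : Subgroup G) ∧
        ∀ g : G, orderOf g = s → pairCount G g ≠ 0) := by
    intro s hs hs2 _
    obtain ⟨g0, hg0⟩ := exists_prime_orderOf_dvd_card' (G := G) s (hG.dvd_T s hs)
    have hconst : ∀ g, orderOf g = s → pairCount G g = pairCount G g0 := fun g hg => by
      obtain ⟨φ, rfl⟩ := hG.trans g0 g (hg0.trans hg.symm)
      exact pairCount_apply φ g0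
    have hsum : ∑ g ∈ Finset.univ.filter (fun g : G => orderOf g = s), pairCount G g =
        Nat.card {x : G // orderOf x = s} * pairCount G g0 := by
      rw [Finset.sum_congr rfl fun g hg => hconst g (Finset.mem_filter.mp hg).2, Finset.sum_const,
        hN, smul_eq_mul]
    rcases hG.pairCount_odd hs2 hg0 with h | ⟨h, hn⟩
    · left; rw [hsum, h, mul_zero]
    · right
      refine ⟨?_, fun g hg => by rw [hconst g hg, h]; exact Nat.card_pos.ne'⟩
      rw [hsum, h]
      have h1 := hG.card_orderOf (s := s)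
      generalize Nat.card {x : G // orderOf x = s} = N at h1
      generalize Nat.card ((default : Sylow s G) : Subgroup G) = b at h1 hn
      generalize Nat.card (Sylow s G) = ns at h1 hn
      rw [← hn]
      calc 2 * (N * b) + ns * (b * 2) = (N + ns) * b * 2 := by ring
        _ = ns * b * b * 2 := by rw [h1]
        _ = ns * (b * 2) * b := by ring
  set X := ∑ g ∈ Finset.univ.filter (fun g : G => orderOf g = q), pairCount G g with hXdef
  set Y := ∑ g ∈ Finset.univ.filter (fun g : G => orderOf g = r), pairCount G g with hYdef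
  have hsum : I * I = I + I * (q - 1) + X + Y := by
    rw [hIdef, card_pairs, hsplit, hsum3, pairCount_one, ← hXdef, ← hYdef]
    have h2 : ∑ g ∈ Finset.univ.filter (fun g : G => orderOf g = 2), pairCount G g = I * (q - 1) := by
      rw [Finset.sum_congr rfl fun g hg => (show pairCount G g = q - 1 by
        have := hG.pairCount_two P (Finset.mem_filter.mp hg).2
        omega), Finset.sum_const, hN, smul_eq_mul]
    rw [h2]
    ring
  have hX : X = 0 ∨ 2 * X + (q + 1) * I = (q + 1) * I * q ^ k := by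
    rcases hodd q hqT hq2 with h | ⟨h, -⟩
    · exact Or.inl h
    · right; rw [← hbk]; rw [hI, ← hcardG]; exact h
  have hY : Y = 0 ∨ 2 * Y + (q + 1) * I = (q + 1) * I * r ^ j := by
    rcases hodd r hrT hr2 with h | ⟨h, -⟩
    · exact Or.inl h
    · right; rw [← hcj]; rw [hI, ← hcardG]; exact h
  have hm' : 2 ^ m = q + 1 := hm.symm.trans hP
  rcases arith_two hqf.out hrf.out hq2 hr2 hk hj hm' hI hsum hX hY with h60 | ⟨rfl, hb7, hc9, -, hXne⟩
  · left; rw [hcardG, ← hI, h60]
  right
  have hr3 : r = 3 := ((Nat.prime_dvd_prime_iff_eq Nat.prime_three hrf.out).mp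
    (Nat.prime_three.dvd_of_dvd_pow (by rw [hc9]; norm_num : 3 ∣ r ^ j))).symm
  subst hr3
  have h56 : Nat.card (Subgroup.normalizer ((P : Subgroup G) : Set G)) = 56 := by
    rw [hqcard, hP]
  obtain ⟨⟨c, hcM⟩, hc⟩ := exists_prime_orderOf_dvd_card'
    (G := Subgroup.normalizer ((P : Subgroup G) : Set G)) 7 (by rw [h56]; norm_num)
  have hc7 : orderOf c = 7 := by rw [← hc, ← Subgroup.orderOf_coe]
  have hpc : pairCount G c ≠ 0 := by
    rcases hodd 7 hqT hq2 with h | ⟨-, h⟩
    · exact absurd h hXne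
    · exact h c hc7
  obtain ⟨⟨x, hx, hxc⟩⟩ := (Nat.card_ne_zero.mp hpc).1
  refine ⟨_, (P : Subgroup G), c, x, P.isPGroup', rfl, hP, h56, ?_, hcM, hc7, hx, ?_, ?_⟩
  · have h := Subgroup.index_mul_card (Subgroup.normalizer ((P : Subgroup G) : Set G))
    rw [h56, hcardG, hb7, hc9] at h
    omega
  · have h3 : (x * c) * (x * c) = 1 := by rw [← pow_two, ← hxc, pow_orderOf_eq_one]
    exact eq_inv_of_mul_eq_one_left (by simpa [mul_assoc] using h3)
  · intro g hg
    have := hG.mem_T g hg
    rw [hTeq] at this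
    simp at this
    omega

end Cfsg.Agent.FGS77
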