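import Cfsg.Agent.FGS77.FourOrbits

/-!
# Sylow structure of a simple group with four automorphism orbits
-/

set_option autoImplicit false

universe u

namespace Cfsg.Agent.FGS77

open scoped IsMulCommutative

variable {G : Type u} [Group G] [Finite G] {T : Finset ℕ}

theorem PrimeOrders.exists_subgroup_of_elements (hG : PrimeOrders G) {s : ℕ} (hs : s.Prime)
    (V : Subgroup G) [IsMulCommutative V] (hV : V ≠ ⊥) (hVs : IsPGroup s V) (M : Subgroup G)
    (hM : M ≤ Subgroup.normalizer (V : Set G)) :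
    ∃ A : Subgroup G, A ≤ M ∧ IsPGroup s A ∧ (∀ g ∈ M, g ^ s = 1 → g ∈ A) ∧
      ∀ g ∈ M, ∀ h ∈ M, orderOf g ≠ orderOf h → g * h * g⁻¹ * h⁻¹ ∈ A := by
  classical
  have hK : ∀ l : {l : ℕ // l.Prime ∧ l ≠ s}, ∃ K : Subgroup M, K.Normal ∧
      ∀ g : M, g ∈ K ↔ orderOf g ≠ (l : ℕ) := fun l => by
    haveI : Fact (l : ℕ).Prime := ⟨l.2.1⟩
    exact hG.exists_normal_complement hs V hV hVs M hM l.2.2
  choose K hKn hKm using hK
  refine ⟨(⨅ l, K l).map M.subtype, Subgroup.map_subtype_le _, ?_, ?_, ?_⟩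
  · rintro ⟨_, ⟨g, hg, rfl⟩⟩
    refine ⟨1, Subtype.ext ?_⟩
    show (g : G) ^ s ^ 1 = 1
    rw [pow_one]
    rcases eq_or_ne (g : G) 1 with h1 | h1
    · rw [h1, one_pow]
    have hp := hG _ h1
    by_contra hne
    have hls : orderOf (g : G) ≠ s := fun h => hne (by rw [← h, pow_orderOf_eq_one])
    exact (hKm ⟨_, hp, hls⟩ g).mp (Subgroup.mem_iInf.mp hg _) (Subgroup.orderOf_coe g).symm
  · intro g hg hgs
    refine ⟨⟨g, hg⟩, Subgroup.mem_iInf.mpr fun l => (hKm l _).mpr fun h => ?_, rfl⟩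
    have h1 : orderOf g = (l : ℕ) := by rw [← h, ← Subgroup.orderOf_coe]
    have h2 : (l : ℕ) ∣ s := h1 ▸ orderOf_dvd_of_pow_eq_one hgs
    exact l.2.2 ((Nat.prime_dvd_prime_iff_eq l.2.1 hs).mp h2)
  · intro g hg h hh hne
    refine ⟨⟨g, hg⟩ * ⟨h, hh⟩ * ⟨g, hg⟩⁻¹ * ⟨h, hh⟩⁻¹, Subgroup.mem_iInf.mpr fun l => ?_, rfl⟩
    haveI := hKn l
    by_cases hgl : orderOf g = (l : ℕ)
    · have hhK : (⟨h, hh⟩ : M) ∈ K l := (hKm l _).mpr fun h' => hne (by
        rw [hgl, ← h', ← Subgroup.orderOf_coe])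
      exact (K l).mul_mem ((hKn l).conj_mem _ hhK _) ((K l).inv_mem hhK)
    · have hgK : (⟨g, hg⟩ : M) ∈ K l := (hKm l _).mpr fun h' => hgl (by
        rw [← h', ← Subgroup.orderOf_coe])
      have : (⟨h, hh⟩ : M) * (⟨g, hg⟩ : M)⁻¹ * (⟨h, hh⟩ : M)⁻¹ ∈ K l :=
        (hKn l).conj_mem _ ((K l).inv_mem hgK) _
      have h2 := (K l).mul_mem hgK this
      rw [← mul_assoc, ← mul_assoc] at h2
      exact h2

theorem FourOrbits.exists_mem_sylow (hG : FourOrbits G T) {s : ℕ} [Fact s.Prime] (hs : s ∈ T)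
    (P : Sylow s G) : ∃ z ∈ (P : Subgroup G), z ≠ 1 ∧ orderOf z = s ∧
      (P : Subgroup G) = Subgroup.centralizer ({z} : Set G) := by
  have hPne : (P : Subgroup G) ≠ ⊥ := P.ne_bot_of_dvd_card (hG.dvd_T s hs)
  haveI : Nontrivial (P : Subgroup G) := (Subgroup.nontrivial_iff_ne_bot _).mpr hPne
  haveI := P.isPGroup'.center_nontrivial
  obtain ⟨⟨⟨z, hzP⟩, hzc⟩, hz1⟩ := exists_ne (1 : Subgroup.center (P : Subgroup G))
  have hz1' : z ≠ 1 := fun h => hz1 (Subtype.ext (Subtype.ext h))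
  have hzo : orderOf z = s := hG.primeOrders.orderOf_of_mem Fact.out P.isPGroup' hzP hz1'
  refine ⟨z, hzP, hz1', hzo, (P.is_maximal' (hzo ▸ hG.primeOrders.isPGroup_centralizer hz1') ?_).symm⟩
  intro g hg
  rw [Subgroup.mem_centralizer_singleton_iff]
  exact congrArg Subtype.val (Subgroup.mem_center_iff.mp hzc ⟨g, hg⟩)

theorem FourOrbits.centralizer_eq_sylow (hG : FourOrbits G T) {s : ℕ} [Fact s.Prime] {x : G}
    (hx : orderOf x = s) :
    ∃ P : Sylow s G, (P : Subgroup G) = Subgroup.centralizer ({x} : Set G) := by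
  have hx1 : x ≠ 1 := fun h => (Fact.out : s.Prime).ne_one (by rw [← hx, h, orderOf_one])
  have hs : s ∈ T := hx ▸ hG.mem_T x hx1
  obtain ⟨P⟩ : Nonempty (Sylow s G) := inferInstance
  obtain ⟨z, -, hz1, hzo, hPz⟩ := hG.exists_mem_sylow hs P
  obtain ⟨φ, rfl⟩ := hG.trans z x (hzo.trans hx.symm)
  have h1 : (P : Subgroup G).map φ.toMonoidHom = Subgroup.centralizer ({φ z} : Set G) := by
    rw [hPz]
    ext g
    simp only [Subgroup.mem_map, Subgroup.mem_centralizer_singleton_iff]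
    constructor
    · rintro ⟨a, ha, rfl⟩
      show φ a * φ z = φ z * φ a
      rw [← map_mul, ha, map_mul]
    · intro hg
      refine ⟨φ.symm g, φ.injective ?_, φ.apply_symm_apply g⟩
      rw [map_mul, map_mul, φ.apply_symm_apply]
      exact hg
  refine ⟨Sylow.ofCard ((P : Subgroup G).map φ.toMonoidHom) ?_, h1⟩
  rw [Subgroup.card_map_of_injective (f := φ.toMonoidHom) φ.injective]
  exact P.card_eq_multiplicity

theorem FourOrbits.sylow_ti (hG : FourOrbits G T) {s : ℕ} [hsf : Fact s.Prime] (P Q : Sylow s G)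
    {x : G} (hx1 : x ≠ 1) (hxP : x ∈ (P : Subgroup G)) (hxQ : x ∈ (Q : Subgroup G)) : P = Q := by
  classical
  by_contra hPQ
  obtain ⟨⟨A, B⟩, hAB, hmax⟩ := Set.Finite.exists_maximalFor
    (fun PQ : Sylow s G × Sylow s G => Nat.card ((PQ.1 : Subgroup G) ⊓ PQ.2 : Subgroup G))
    {PQ : Sylow s G × Sylow s G | PQ.1 ≠ PQ.2 ∧ ((PQ.1 : Subgroup G) ⊓ PQ.2) ≠ ⊥} (Set.toFinite _)
    ⟨(P, Q), hPQ, fun h => hx1 ((Subgroup.eq_bot_iff_forall _).mp h x ⟨hxP, hxQ⟩)⟩
  obtain ⟨hne, hDbot⟩ := hAB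
  set D : Subgroup G := (A : Subgroup G) ⊓ B with hD
  have hDs : IsPGroup s D := A.isPGroup'.to_le inf_le_left
  set V : Subgroup G := (Subgroup.center D).map D.subtype with hV
  haveI : IsMulCommutative V := by
    refine ⟨⟨?_⟩⟩
    rintro ⟨_, a, ha, rfl⟩ ⟨_, b, hb, rfl⟩
    apply Subtype.ext
    show (a : G) * (b : G) = (b : G) * (a : G)
    exact congrArg Subtype.val (Subgroup.mem_center_iff.mp hb a)
  have hVne : V ≠ ⊥ := by
    haveI : Nontrivial D := (Subgroup.nontrivial_iff_ne_bot _).mpr hDbot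
    haveI := hDs.center_nontrivial
    intro h
    rw [hV, Subgroup.map_eq_bot_iff_of_injective _ D.subtype_injective] at h
    exact (Subgroup.nontrivial_iff_ne_bot _).mp this h
  have hVs : IsPGroup s V := hDs.to_le (Subgroup.map_subtype_le _)
  set M := Subgroup.normalizer (D : Set G) with hM
  have hMV : M ≤ Subgroup.normalizer (V : Set G) := by
    intro g hg
    rw [Subgroup.mem_normalizer_iff]
    have key : ∀ g ∈ M, ∀ v, v ∈ V → g * v * g⁻¹ ∈ V := by
      intro g hg v hv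
      obtain ⟨⟨v, hvD⟩, hvc, rfl⟩ := hv
      refine ⟨⟨g * v * g⁻¹, (Subgroup.mem_normalizer_iff.mp hg v).mp hvD⟩, ?_, rfl⟩
      rw [SetLike.mem_coe, Subgroup.mem_center_iff]
      rintro ⟨d, hd⟩
      have hd' : g⁻¹ * d * g ∈ D := (Subgroup.mem_normalizer_iff.mp hg _).mpr (by simpa [mul_assoc] using hd)
      have h := congrArg Subtype.val (Subgroup.mem_center_iff.mp hvc ⟨_, hd'⟩)
      apply Subtype.ext
      show d * (g * v * g⁻¹) = g * v * g⁻¹ * d
      calc d * (g * v * g⁻¹) = g * (g⁻¹ * d * g * v) * g⁻¹ := by group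
        _ = g * (v * (g⁻¹ * d * g)) * g⁻¹ := by rw [show g⁻¹ * d * g * v = v * (g⁻¹ * d * g) from h]
        _ = g * v * g⁻¹ * d := by group
    exact fun v => ⟨key g hg v, fun hv => by
      simpa [mul_assoc] using key g⁻¹ (M.inv_mem hg) _ hv⟩
  obtain ⟨S, -, hSs, hSmem, -⟩ :=
    hG.primeOrders.exists_subgroup_of_elements hsf.out V hVne hVs M hMV
  obtain ⟨R, hR⟩ := hSs.exists_le_sylow
  have key : ∀ C : Sylow s G, (D < (C : Subgroup G)) → R = C := by
    intro C hC
    haveI : Group.IsNilpotent (C : Subgroup G) := C.isPGroup'.isNilpotent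
    have hlt : (D.subgroupOf (C : Subgroup G)) < ⊤ :=
      lt_top_iff_ne_top.mpr fun h => hC.not_ge (Subgroup.subgroupOf_eq_top.mp h)
    obtain ⟨y, hyn, hyD⟩ := SetLike.exists_of_lt
      (normalizerCondition_of_isNilpotent (G := (C : Subgroup G)) _ hlt)
    have hyM : (y : G) ∈ M := by
      rw [hM, Subgroup.mem_normalizer_iff]
      intro d
      have hyC := y.2
      constructor
      · intro hd
        exact (Subgroup.mem_normalizer_iff.mp hyn ⟨d, hC.le hd⟩).mp hd
      · intro hd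
        have hdC : d ∈ (C : Subgroup G) := by
          have := (C : Subgroup G).mul_mem ((C : Subgroup G).mul_mem ((C : Subgroup G).inv_mem hyC) (hC.le hd)) hyC
          simpa [mul_assoc] using this
        exact (Subgroup.mem_normalizer_iff.mp hyn ⟨d, hdC⟩).mpr hd
    by_contra hne'
    have hle : D ≤ (R : Subgroup G) := fun d hd => hR (hSmem d (Subgroup.le_normalizer hd)
      (hG.primeOrders.pow_eq_one hsf.out hDs hd))
    have hyR : (y : G) ∈ (R : Subgroup G) := hR (hSmem _ hyM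
      (hG.primeOrders.pow_eq_one hsf.out C.isPGroup' y.2))
    have hDlt : D < (R : Subgroup G) ⊓ C :=
      lt_of_le_of_ne (le_inf hle hC.le) fun h => hyD (show (y : G) ∈ D from h ▸ ⟨hyR, y.2⟩)
    have hcard : Nat.card D < Nat.card ((R : Subgroup G) ⊓ C : Subgroup G) := by
      refine lt_of_le_of_ne (Subgroup.card_le_of_le hDlt.le) fun h => hDlt.ne ?_
      exact Subgroup.eq_of_le_of_card_ge hDlt.le h.ge
    have h2 := hmax (j := (R, C)) ⟨hne', fun h => hDbot (le_bot_iff.mp (h ▸ hDlt.le))⟩ hcard.le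
    exact absurd h2 (not_le.mpr hcard)
  have hne' : A ≠ B := hne
  have hA : D < (A : Subgroup G) := lt_of_le_of_ne inf_le_left fun h => by
    have hle : (A : Subgroup G) ≤ B := h ▸ (inf_le_right : D ≤ (B : Subgroup G))
    exact hne' (Sylow.ext (A.is_maximal' B.isPGroup' hle)).symm
  have hB : D < (B : Subgroup G) := lt_of_le_of_ne inf_le_right fun h => by
    have hle : (B : Subgroup G) ≤ A := h ▸ (inf_le_left : D ≤ (A : Subgroup G))
    exact hne' (Sylow.ext (B.is_maximal' A.isPGroup' hle))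
  exact hne' ((key A hA).symm.trans (key B hB))

theorem FourOrbits.centralizer_eq (hG : FourOrbits G T) {s : ℕ} [hsf : Fact s.Prime] (P : Sylow s G)
    {x : G} (hx1 : x ≠ 1) (hxP : x ∈ (P : Subgroup G)) :
    Subgroup.centralizer ({x} : Set G) = P := by
  obtain ⟨Q, hQ⟩ := hG.centralizer_eq_sylow
    (hG.primeOrders.orderOf_of_mem hsf.out P.isPGroup' hxP hx1)
  have hxQ : x ∈ (Q : Subgroup G) := by
    rw [hQ, Subgroup.mem_centralizer_singleton_iff]
  rw [← hQ, hG.sylow_ti P Q hx1 hxP hxQ]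

theorem FourOrbits.isMulCommutative_sylow (hG : FourOrbits G T) {s : ℕ} [Fact s.Prime]
    (P : Sylow s G) : IsMulCommutative (P : Subgroup G) := by
  refine ⟨⟨fun a b => Subtype.ext ?_⟩⟩
  rcases eq_or_ne (b : G) 1 with hb | hb
  · simp [hb]
  · have : (a : G) ∈ Subgroup.centralizer ({(b : G)} : Set G) := by
      rw [hG.centralizer_eq P hb b.2]; exact a.2
    exact Subgroup.mem_centralizer_singleton_iff.mp this

/-- The normalizer of a Sylow subgroup is an extension by a group of prime order. -/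
theorem FourOrbits.exists_normalizer_card (hG : FourOrbits G T) [IsSimpleGroup G] {s : ℕ}
    [hsf : Fact s.Prime] (hs : s ∈ T) (P : Sylow s G) :
    ∃ e ∈ T, e ≠ s ∧
      Nat.card (Subgroup.normalizer ((P : Subgroup G) : Set G)) = Nat.card (P : Subgroup G) * e ∧
      ∀ g ∈ Subgroup.normalizer ((P : Subgroup G) : Set G), g ∉ (P : Subgroup G) → orderOf g = e := by
  classical
  haveI := hG.isMulCommutative_sylow P
  set M := Subgroup.normalizer ((P : Subgroup G) : Set G) with hM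
  have hPne : (P : Subgroup G) ≠ ⊥ := P.ne_bot_of_dvd_card (hG.dvd_T s hs)
  obtain ⟨g0, hg0, hg0P⟩ : ∃ g ∈ M, g ∉ (P : Subgroup G) := by
    by_contra h
    push Not at h
    have hcomp : M ≤ Subgroup.centralizer ((P : Subgroup G) : Set G) :=
      fun g hg => (P : Subgroup G).le_centralizer (h g hg)
    have hc := MonoidHom.ker_transferSylow_isComplement' P hcomp
    rcases Subgroup.Normal.eq_bot_or_eq_top (H := (MonoidHom.transferSylow P hcomp).ker) inferInstance
      with hk | hk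
    · rw [hk, Subgroup.isComplement'_bot_left] at hc
      obtain ⟨r, hr, hrs⟩ := Finset.exists_mem_ne (by rw [hG.card_T]; norm_num : 1 < T.card) s
      haveI : Fact r.Prime := ⟨hG.prime_T r hr⟩
      obtain ⟨g, hg⟩ := exists_prime_orderOf_dvd_card' r (hG.dvd_T r hr)
      have hg1 : g ≠ 1 := fun h' => (hG.prime_T r hr).ne_one (by rw [← hg, h', orderOf_one])
      exact hrs (hg ▸ hG.primeOrders.orderOf_of_mem hsf.out P.isPGroup' (hc ▸ Subgroup.mem_top g) hg1)
    · rw [hk, Subgroup.isComplement'_top_left] at hc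
      exact hPne hc
  obtain ⟨A, -, hAs, hAmem, hAcomm⟩ :=
    hG.primeOrders.exists_subgroup_of_elements hsf.out (P : Subgroup G) hPne P.isPGroup' M le_rfl
  have hAP : A = (P : Subgroup G) := P.is_maximal' hAs fun x hx => hAmem x (Subgroup.le_normalizer hx)
    (hG.primeOrders.pow_eq_one hsf.out P.isPGroup' hx)
  have hne1 : ∀ g ∈ M, g ∉ (P : Subgroup G) → g ≠ 1 := fun g _ hgP h => hgP (h ▸ one_mem _)
  have hnes : ∀ g ∈ M, g ∉ (P : Subgroup G) → orderOf g ≠ s := fun g hg hgP h =>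
    hgP (hAP ▸ hAmem g hg (by rw [← h, pow_orderOf_eq_one]))
  set P' : Subgroup M := (P : Subgroup G).subgroupOf M with hP'
  haveI : P'.Normal := Subgroup.normal_subgroupOf_iff_le_normalizer (Subgroup.le_normalizer) |>.mpr le_rfl
  have hq : ∀ g : M, (g : G) ∉ (P : Subgroup G) →
      orderOf (QuotientGroup.mk' P' g) = orderOf (g : G) := by
    intro g hgP
    have h1 : orderOf (QuotientGroup.mk' P' g) ∣ orderOf (g : G) := by
      rw [Subgroup.orderOf_coe]; exact orderOf_map_dvd _ g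
    rcases (Nat.dvd_prime (hG.primeOrders _ (hne1 g g.2 hgP))).mp h1 with h2 | h2
    · exact absurd ((QuotientGroup.eq_one_iff g).mp (orderOf_eq_one_iff.mp h2)) hgP
    · exact h2
  set e := orderOf g0 with he
  have hep : e.Prime := hG.primeOrders g0 (hne1 g0 hg0 hg0P)
  haveI hef : Fact e.Prime := ⟨hep⟩
  have hord : ∀ g ∈ M, g ∉ (P : Subgroup G) → orderOf g = e := by
    intro g hg hgP
    by_contra hne
    set a := QuotientGroup.mk' P' ⟨g, hg⟩
    set b := QuotientGroup.mk' P' ⟨g0, hg0⟩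
    have hab : Commute a b := by
      have hc : g * g0 * g⁻¹ * g0⁻¹ ∈ (P : Subgroup G) := hAP ▸ hAcomm g hg g0 hg0 hne
      have h1 : a * b * a⁻¹ * b⁻¹ = 1 := by
        simp only [a, b, ← map_mul, ← map_inv]
        exact (QuotientGroup.eq_one_iff _).mpr hc
      exact commutatorElement_eq_one_iff_mul_comm.mp h1
    have ha : orderOf a = orderOf g := hq ⟨g, hg⟩ hgP
    have hb : orderOf b = e := hq ⟨g0, hg0⟩ hg0P
    have hgp := hG.primeOrders g (hne1 g hg hgP)
    have hmul := hab.orderOf_mul_eq_mul_orderOf_of_coprime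
      (by rw [ha, hb]; exact (Nat.coprime_primes hgp hep).mpr hne)
    rw [ha, hb, show a * b = QuotientGroup.mk' P' ⟨g * g0, M.mul_mem hg hg0⟩ from rfl] at hmul
    have hP2 : g * g0 ∉ (P : Subgroup G) := fun h => by
      rw [show QuotientGroup.mk' P' ⟨g * g0, M.mul_mem hg hg0⟩ = 1 from
        (QuotientGroup.eq_one_iff _).mpr h, orderOf_one] at hmul
      exact hep.ne_one (Nat.eq_one_of_mul_eq_one_left hmul.symm)
    rw [hq ⟨_, M.mul_mem hg hg0⟩ hP2] at hmul
    exact Nat.not_prime_mul hgp.ne_one hep.ne_one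
      (hmul ▸ hG.primeOrders _ (hne1 _ (M.mul_mem hg hg0) hP2))
  refine ⟨e, hG.mem_T g0 (hne1 g0 hg0 hg0P), hnes g0 hg0 hg0P, ?_, hord⟩
  have hpg : IsPGroup e (M ⧸ P') := by
    intro a
    refine ⟨1, ?_⟩
    obtain ⟨⟨g, hg⟩, rfl⟩ := QuotientGroup.mk_surjective a
    rw [pow_one]
    by_cases hgP : g ∈ (P : Subgroup G)
    · rw [(QuotientGroup.eq_one_iff (⟨g, hg⟩ : M)).mpr hgP, one_pow]
    · rw [← hord g hg hgP, ← hq ⟨g, hg⟩ hgP]
      exact pow_orderOf_eq_one _
  obtain ⟨k, hk⟩ := IsPGroup.iff_card.mp hpg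
  have hcardP' : Nat.card P' = Nat.card (P : Subgroup G) :=
    Nat.card_congr (Subgroup.subgroupOfEquivOfLe Subgroup.le_normalizer).toEquiv
  have hcard : Nat.card M = Nat.card (P : Subgroup G) * e ^ k := by
    rw [Subgroup.card_eq_card_quotient_mul_card_subgroup P', hk, hcardP', mul_comm]
  have hk0 : k ≠ 0 := by
    intro hk0
    rw [hk0, pow_zero] at hk
    haveI := (Nat.card_eq_one_iff_unique.mp hk).1
    have h1 : QuotientGroup.mk' P' ⟨g0, hg0⟩ = 1 := Subsingleton.elim _ _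
    exact hg0P ((QuotientGroup.eq_one_iff (⟨g0, hg0⟩ : M)).mp h1)
  obtain ⟨W, hW⟩ := Sylow.exists_subgroup_card_pow_prime (G := M) e (n := k) (hcard ▸ Dvd.intro_left _ rfl)
  have hWmap : Nat.card (W.map M.subtype) = e ^ k :=
    (Subgroup.card_map_of_injective M.subtype_injective).trans hW
  have hWne : W.map M.subtype ≠ ⊥ := fun h => by
    rw [h, Subgroup.card_bot] at hWmap
    exact absurd hWmap.symm (Nat.one_lt_pow hk0 hep.one_lt).ne'
  have h1 := hG.primeOrders.card_of_normalizes hsf.out (P : Subgroup G) hPne P.isPGroup'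
    (hnes g0 hg0 hg0P) (IsPGroup.of_card hWmap) (Subgroup.map_subtype_le _) hWne
  rw [hcard, ← hWmap, h1]

/-- Counting the elements of order `s`. -/
theorem FourOrbits.card_orderOf (hG : FourOrbits G T) {s : ℕ} [hsf : Fact s.Prime] :
    Nat.card {x : G // orderOf x = s} + Nat.card (Sylow s G) =
      Nat.card (Sylow s G) * Nat.card ((default : Sylow s G) : Subgroup G) := by
  classical
  have hne1 : ∀ x : G, orderOf x = s → x ≠ 1 := fun x hx h =>
    hsf.out.ne_one (by rw [← hx, h, orderOf_one])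
  let Φ : (Σ P : Sylow s G, {x : (P : Subgroup G) // x ≠ 1}) → {x : G // orderOf x = s} := fun y =>
    ⟨y.2.1, hG.primeOrders.orderOf_of_mem hsf.out y.1.isPGroup' y.2.1.2
      (fun h => y.2.2 (Subtype.ext h))⟩
  have hΦ : Function.Bijective Φ := by
    constructor
    · rintro ⟨P, ⟨x, hx⟩, hx1⟩ ⟨Q, ⟨y, hy⟩, hy1⟩ h
      have hxy : x = y := congrArg Subtype.val h
      subst hxy
      obtain rfl := hG.sylow_ti P Q (fun h => hx1 (Subtype.ext h)) hx hy
      rfl
    · rintro ⟨x, hx⟩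
      obtain ⟨P, hP⟩ := hG.centralizer_eq_sylow hx
      exact ⟨⟨P, ⟨x, hP ▸ Subgroup.mem_centralizer_singleton_iff.mpr rfl⟩,
        fun h => hne1 x hx (congrArg Subtype.val h)⟩, rfl⟩
  letI : Fintype (Sylow s G) := Fintype.ofFinite _
  rw [← Nat.card_eq_of_bijective Φ hΦ, Nat.card_sigma]
  have hP : ∀ P : Sylow s G, Nat.card {x : (P : Subgroup G) // x ≠ 1} + 1 =
      Nat.card ((default : Sylow s G) : Subgroup G) := fun P => by
    letI : Fintype (P : Subgroup G) := Fintype.ofFinite _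
    rw [Nat.card_eq_fintype_card, Fintype.card_subtype_compl, Fintype.card_subtype_eq,
      ← Nat.card_eq_fintype_card,
      (Sylow.card_eq_multiplicity default).trans P.card_eq_multiplicity.symm]
    have := Nat.card_pos (α := (P : Subgroup G))
    omega
  calc (∑ P : Sylow s G, Nat.card {x : (P : Subgroup G) // x ≠ 1}) + Nat.card (Sylow s G)
      = ∑ P : Sylow s G, (Nat.card {x : (P : Subgroup G) // x ≠ 1} + 1) := by
        rw [Finset.sum_add_distrib, Finset.sum_const, Finset.card_univ, smul_eq_mul, mul_one,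
          Nat.card_eq_fintype_card]
    _ = _ := by
        rw [Finset.sum_congr rfl fun P _ => hP P, Finset.sum_const, Finset.card_univ, smul_eq_mul,
          ← Nat.card_eq_fintype_card]

end Cfsg.Agent.FGS77
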