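import Mathlib
import Cfsg.Agent.H40.Dihedral

/-!
# `p`-by-cyclic subgroups: helpers for S4082 and S4083
-/

set_option autoImplicit false

open Subgroup
open scoped commutatorElement

namespace Cfsg.Agent.FGS77

variable {G : Type*} [Group G]

/-- `T` is cyclic (when `T = C`) or dihedral with rotation subgroup `C`. -/
structure DihPair (T C : Subgroup G) : Prop where
  le : C ≤ T
  cyclic : IsCyclic C
  invol : ∀ s ∈ T, s ∉ C → s * s = 1
  prod : ∀ s ∈ T, s ∉ C → ∀ t ∈ T, t ∉ C → s * t ∈ C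

theorem DihPair.inverts {T C : Subgroup G} (h : DihPair T C) {s : G} (hs : s ∈ T) (hsC : s ∉ C)
    {c : G} (hc : c ∈ C) : s * c * s⁻¹ = c⁻¹ := by
  have hsc : s * c ∉ C := fun h' => hsC ((C.mul_mem_cancel_right hc).mp h')
  have h1 := h.invol _ (mul_mem hs (h.le hc)) hsc
  have h2 : s⁻¹ = s := inv_eq_of_mul_eq_one_right (h.invol s hs hsC)
  rw [h2]
  refine eq_inv_of_mul_eq_one_left ?_
  simpa [mul_assoc] using h1

theorem DihPair.mono {T C R : Subgroup G} (h : DihPair T C) (hR : R ≤ T) : DihPair R (C ⊓ R) where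
  le := inf_le_right
  cyclic := by
    have := h.cyclic
    exact (subgroupOfEquivOfLe (inf_le_left : C ⊓ R ≤ C)).isCyclic.mp inferInstance
  invol s hs hsC := h.invol s (hR hs) fun hc => hsC ⟨hc, hs⟩
  prod s hs hsC t ht htC := ⟨h.prod s (hR hs) (fun hc => hsC ⟨hc, hs⟩) t (hR ht)
    (fun hc => htC ⟨hc, ht⟩), mul_mem hs ht⟩

theorem exists_dihPair_of_mulEquiv {T : Subgroup G} {n : ℕ} (hn : n ≠ 0)
    (e : T ≃* DihedralGroup n) : ∃ C : Subgroup G, DihPair T C ∧ Nat.card C = n ∧ C ≠ T := by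
  haveI : NeZero n := ⟨hn⟩
  let x : T := e.symm (DihedralGroup.r 1)
  have hmem : ∀ s : T, (s : G) ∈ zpowers (x : G) ↔ ∃ i, e s = DihedralGroup.r i := by
    intro s
    constructor
    · intro hs
      obtain ⟨k, hk⟩ := mem_zpowers_iff.mp hs
      have : s = x ^ k := Subtype.ext (by rw [coe_zpow]; exact hk.symm)
      refine ⟨(k : ZMod n), ?_⟩
      rw [this, map_zpow, show e x = DihedralGroup.r 1 from e.apply_symm_apply _,
        DihedralGroup.r_one_zpow]
    · rintro ⟨i, hi⟩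
      refine mem_zpowers_iff.mpr ⟨(i.val : ℤ), ?_⟩
      have : s = x ^ i.val := e.injective (by
        rw [map_pow, show e x = DihedralGroup.r 1 from e.apply_symm_apply _,
          DihedralGroup.r_one_pow, ZMod.natCast_zmod_val, hi])
      rw [zpow_natCast, ← coe_pow, ← this]
  refine ⟨zpowers (x : G), ⟨zpowers_le.mpr x.2, inferInstance, ?_, ?_⟩, ?_, ?_⟩
  · intro s hs hsC
    cases he : e ⟨s, hs⟩ with
    | r i => exact absurd ((hmem ⟨s, hs⟩).mpr ⟨i, he⟩) hsC
    | sr i =>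
      have : (⟨s, hs⟩ : T) * ⟨s, hs⟩ = 1 := e.injective (by
        rw [map_mul, map_one, he, DihedralGroup.sr_mul_self])
      exact congrArg Subtype.val this
  · intro s hs hsC t ht htC
    cases he : e ⟨s, hs⟩ with
    | r i => exact absurd ((hmem ⟨s, hs⟩).mpr ⟨i, he⟩) hsC
    | sr i =>
      cases hf : e ⟨t, ht⟩ with
      | r j => exact absurd ((hmem ⟨t, ht⟩).mpr ⟨j, hf⟩) htC
      | sr j =>
        exact (hmem (⟨s, hs⟩ * ⟨t, ht⟩)).mpr ⟨j - i, by
          rw [map_mul, he, hf, DihedralGroup.sr_mul_sr]⟩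
  · rw [Nat.card_zpowers, ← Subgroup.orderOf_mk (x : G) x.2]
    show orderOf x = n
    rw [← e.orderOf_eq, show e x = DihedralGroup.r 1 from e.apply_symm_apply _,
      DihedralGroup.orderOf_r_one]
  · intro h
    obtain ⟨i, hi⟩ := (hmem (e.symm (DihedralGroup.sr 0))).mp
      (h.ge (e.symm (DihedralGroup.sr 0)).2)
    rw [e.apply_symm_apply] at hi
    cases hi

theorem DihPair.mulEquiv [Finite G] {T C : Subgroup G} (h : DihPair T C) (hne : C ≠ T) :
    Nonempty (T ≃* DihedralGroup (Nat.card C)) := by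
  obtain ⟨s, hs, hsC⟩ := SetLike.exists_of_lt (lt_of_le_of_ne h.le hne)
  obtain ⟨⟨x, hx⟩, hgen⟩ := h.cyclic.exists_zpow_surjective
  have hC : zpowers x = C := by
    refine le_antisymm (zpowers_le.mpr hx) fun c hc => ?_
    obtain ⟨k, hk⟩ := hgen ⟨c, hc⟩
    exact mem_zpowers_iff.mpr ⟨k, by simpa using congrArg Subtype.val hk⟩
  have hT : zpowers s ⊔ zpowers x = T := by
    refine le_antisymm (sup_le (zpowers_le.mpr hs) (hC ▸ h.le)) fun t ht => ?_
    by_cases htC : t ∈ C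
    · exact mem_sup_right (hC ▸ htC)
    · have h1 := h.prod s hs hsC t ht htC
      rw [← hC] at h1
      have : t = s⁻¹ * (s * t) := by group
      rw [this]
      exact mul_mem (inv_mem (mem_sup_left (mem_zpowers s))) (mem_sup_right h1)
  obtain ⟨e⟩ := H40.nonempty_mulEquiv_dihedral (n := Nat.card C) (a := s) (x := x)
    (by rw [← hC, Nat.card_zpowers]) (h.invol s hs hsC) (h.inverts hs hsC hx)
    (by rw [hC]; exact hsC)
  exact ⟨(MulEquiv.subgroupCongr hT.symm).trans e⟩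

theorem mem_of_pow_mem_of_coprime {C : Subgroup G} {h : G} {a b : ℕ} (ha : h ^ a ∈ C)
    (hb : h ^ b ∈ C) (hab : Nat.Coprime a b) : h ∈ C := by
  have key : (1 : ℤ) = a * Nat.gcdA a b + b * Nat.gcdB a b := by
    rw [← Nat.gcd_eq_gcd_ab, hab.gcd_eq_one]; rfl
  have : h = (h ^ a) ^ Nat.gcdA a b * (h ^ b) ^ Nat.gcdB a b := by
    rw [← zpow_natCast h a, ← zpow_natCast h b, ← zpow_mul, ← zpow_mul, ← zpow_add, ← key, zpow_one]
  rw [this]
  exact mul_mem (zpow_mem ha _) (zpow_mem hb _)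

variable [Finite G] {p : ℕ} [hp : Fact p.Prime]

/-- A finite group with a normal Sylow `p`-subgroup that is cyclic and central, and cyclic
quotient, is cyclic. -/
theorem isCyclic_of_central_sylow (S : Sylow p G) [(S : Subgroup G).Normal]
    (hSc : IsCyclic (S : Subgroup G)) (hQ : IsCyclic (G ⧸ (S : Subgroup G)))
    (hZ : (S : Subgroup G) ≤ center G) : IsCyclic G := by
  obtain ⟨s, hs⟩ := IsCyclic.exists_ofOrder_eq_natCard (α := (S : Subgroup G))
  obtain ⟨q, hq⟩ := IsCyclic.exists_ofOrder_eq_natCard (α := G ⧸ (S : Subgroup G))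
  obtain ⟨y, rfl⟩ := QuotientGroup.mk_surjective q
  set a := Nat.card (S : Subgroup G)
  set m := Nat.card (G ⧸ (S : Subgroup G))
  have hcop : Nat.Coprime a m := by
    show Nat.Coprime _ (Nat.card (G ⧸ (S : Subgroup G)))
    rw [← index_eq_card]; exact S.card_coprime_index
  have hya : orderOf (((y ^ a : G) : G ⧸ (S : Subgroup G))) = m := by
    rw [QuotientGroup.mk_pow, Nat.Coprime.orderOf_pow (by rw [hq]; exact hcop.symm), hq]
  have hdvd : m ∣ orderOf (y ^ a) := hya ▸ orderOf_map_dvd (QuotientGroup.mk' _) (y ^ a)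
  have hpow : (y ^ a) ^ m = 1 := by
    have hm : y ^ m ∈ (S : Subgroup G) := by
      have := pow_index_mem (S : Subgroup G) y
      rwa [index_eq_card] at this
    have h1 : (⟨y ^ m, hm⟩ : (S : Subgroup G)) ^ a = 1 := pow_card_eq_one'
    rw [← pow_mul, mul_comm, pow_mul]
    exact congrArg Subtype.val h1
  have hoy : orderOf (y ^ a) = m := Nat.dvd_antisymm (orderOf_dvd_of_pow_eq_one hpow) hdvd
  have hs' : orderOf (s : G) = a := by rw [orderOf_coe, hs]
  refine isCyclic_of_orderOf_eq_card ((s : G) * y ^ a) ?_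
  have hc : Commute (s : G) (y ^ a) := (mem_center_iff.mp (hZ s.2) _).symm
  rw [hc.orderOf_mul_eq_mul_orderOf_of_coprime (by rw [hs', hoy]; exact hcop), hs', hoy,
    card_eq_card_quotient_mul_card_subgroup (S : Subgroup G), mul_comm]

/-- If `G/N` is cyclic with `N` a normal `p`-subgroup, the Sylow `p`-subgroup is normal with
cyclic quotient. -/
theorem sylow_normal_of_quotient_cyclic {N : Subgroup G} [N.Normal] (hN : IsPGroup p N)
    (hQ : IsCyclic (G ⧸ N)) :
    (∀ S : Sylow p G, (S : Subgroup G).Normal) ∧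
      ∀ (S : Sylow p G) [(S : Subgroup G).Normal], IsCyclic (G ⧸ (S : Subgroup G)) := by
  have hle : ∀ S : Sylow p G, N ≤ (S : Subgroup G) := fun S => by
    obtain ⟨T, hT⟩ := hN.exists_le_sylow
    obtain ⟨g, rfl⟩ := MulAction.exists_smul_eq G T S
    intro x hx
    rw [Sylow.coe_subgroup_smul, mem_pointwise_smul_iff_inv_smul_mem]
    exact hT (by
      have := Normal.conj_mem (inferInstance : N.Normal) x hx g⁻¹
      simpa [MulAut.smul_def] using this)
  refine ⟨fun S => ?_, fun S _ => ?_⟩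
  · have : IsMulCommutative (G ⧸ N) := inferInstance
    have h1 : ((S : Subgroup G).map (QuotientGroup.mk' N)).Normal := inferInstance
    have h2 := h1.comap (QuotientGroup.mk' N)
    rwa [comap_map_eq, QuotientGroup.ker_mk', sup_eq_left.mpr (hle S)] at h2
  · refine isCyclic_of_surjective (QuotientGroup.map N (S : Subgroup G) (MonoidHom.id G) (hle S))
      fun q => ?_
    obtain ⟨g, rfl⟩ := QuotientGroup.mk_surjective q
    exact ⟨(g : G ⧸ N), rfl⟩

/-- `Q⟨g⟩` for `g` normalising the `p`-subgroup `Q` is a `p`-by-cyclic group. -/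
theorem sup_zpowers_pByCyclic {Q : Subgroup G} (hQ : IsPGroup p Q) {g : G}
    (hg : g ∈ normalizer (Q : Set G)) :
    (∀ S : Sylow p ↥(Q ⊔ zpowers g), (S : Subgroup ↥(Q ⊔ zpowers g)).Normal) ∧
      ∀ (S : Sylow p ↥(Q ⊔ zpowers g)) [(S : Subgroup ↥(Q ⊔ zpowers g)).Normal],
        IsCyclic (↥(Q ⊔ zpowers g) ⧸ (S : Subgroup ↥(Q ⊔ zpowers g))) := by
  set H := Q ⊔ zpowers g
  have hH : H ≤ normalizer (Q : Set G) := sup_le le_normalizer (zpowers_le.mpr hg)
  have : (Q.subgroupOf H).Normal := normal_subgroupOf_of_le_normalizer hH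
  refine sylow_normal_of_quotient_cyclic (N := Q.subgroupOf H)
    (hQ.of_equiv (subgroupOfEquivOfLe le_sup_left).symm) ?_
  let g' : H := ⟨g, mem_sup_right (mem_zpowers g)⟩
  refine ⟨(g' : H ⧸ Q.subgroupOf H), fun q => ?_⟩
  obtain ⟨⟨x, hx⟩, rfl⟩ := QuotientGroup.mk_surjective q
  have hx' : x ∈ ((Q ⊔ zpowers g : Subgroup G) : Set G) := hx
  rw [Subgroup.coe_mul_of_right_le_normalizer_left Q (zpowers g) (zpowers_le.mpr hg)] at hx'
  obtain ⟨q, hq, z, hz, rfl⟩ := hx'
  obtain ⟨k, rfl⟩ := mem_zpowers_iff.mp hz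
  refine ⟨k, ?_⟩
  show ((g' : H ⧸ Q.subgroupOf H)) ^ k = _
  rw [← QuotientGroup.mk_zpow, QuotientGroup.eq, mem_subgroupOf]
  simp only [coe_mul, coe_inv, coe_zpow, g']
  rw [show (g ^ k)⁻¹ * (q * g ^ k) = (g ^ k)⁻¹ * q * (g ^ k)⁻¹⁻¹ by group]
  exact (mem_normalizer_iff.mp (inv_mem (zpow_mem hg k)) q).mp hq

/-- An automorphism of odd order of a cyclic 2-group is trivial; conjugation form. -/
theorem commute_of_odd_normalizing_cyclic {C : Subgroup G} (hC : IsPGroup 2 C) (hc : IsCyclic C)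
    {y : G} (hy : Odd (orderOf y)) (hn : y ∈ normalizer (C : Set G)) {c : G} (hcC : c ∈ C) :
    y * c = c * y := by
  have : Fact (Nat.Prime 2) := ⟨Nat.prime_two⟩
  set φ := C.normalizerMonoidHom ⟨y, hn⟩
  have h1 : orderOf φ ∣ orderOf y := by
    have := orderOf_map_dvd C.normalizerMonoidHom ⟨y, hn⟩
    rwa [Subgroup.orderOf_mk] at this
  have h2 : orderOf φ ∣ Nat.totient (Nat.card C) := by
    rw [← IsCyclic.card_mulAut C]; exact orderOf_dvd_natCard φ
  have h3 : φ = 1 := by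
    rw [← orderOf_eq_one_iff]
    obtain ⟨a, ha⟩ := IsPGroup.iff_card.mp hC
    rw [ha] at h2
    refine Nat.eq_one_of_dvd_coprimes (a := orderOf y) (b := 2 ^ (a - 1)) ?_ h1 ?_
    · exact (Nat.Coprime.pow_left _ (Nat.coprime_two_left.mpr hy)).symm
    · rcases Nat.eq_zero_or_pos a with rfl | hpos
      · simpa using h2
      · rw [Nat.totient_prime_pow Nat.prime_two hpos] at h2
        simpa using h2
  have h4 : φ ⟨c, hcC⟩ = ⟨c, hcC⟩ := by rw [h3]; rfl
  have h5 : y * c * y⁻¹ = c := congrArg Subtype.val h4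
  exact mul_inv_eq_iff_eq_mul.mp h5

end Cfsg.Agent.FGS77
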