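import Cfsg.Agent.FGS77.Unitriangular
import Cfsg.Agent.FGS77.ClassTwoRank
import Cfsg.Agent.H40.PGroupBasic
import Cfsg.Agent.FGS77.PByCyclic

/-!
# Generators of subgroups of `p`-groups, `p` odd (S4057)

`d(G) ≤ rank Ω₁(G)` when `Ω₁(G) ≤ Z(G)`, and the bound `k(k+4)/4`.
-/

set_option autoImplicit false

open Subgroup
open scoped commutatorElement Pointwise

namespace Cfsg.Agent.FGS77.GenBound

universe u

variable {p : ℕ} [hp : Fact p.Prime]

theorem mul_pow_central' {G : Type*} [Group G] (x d : G) (h : ⁅d, x⁆ ∈ center G) (n : ℕ) :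
    (x * d) ^ n = x ^ n * d ^ n * ⁅d, x⁆ ^ (n.choose 2) := by
  have e : x * d = x * d := rfl
  have hz : Commute ⁅d, x⁆⁻¹ d ∧ Commute ⁅d, x⁆⁻¹ x :=
    ⟨(mem_center_iff.mp (inv_mem h) d).symm, (mem_center_iff.mp (inv_mem h) x).symm⟩
  have h1 : d * x = ⁅d, x⁆ * (x * d) := by rw [commutatorElement_def]; group
  have h2 := H40.mul_pow_of_central_commutator (c := x) (x := d) (z := ⁅d, x⁆) h1
    (mem_center_iff.mp h x).symm (mem_center_iff.mp h d).symm n
  rw [h2, ← (show Commute (x ^ n * d ^ n) (⁅d, x⁆ ^ n.choose 2) from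
    (show Commute (x ^ n * d ^ n) ⁅d, x⁆ from mem_center_iff.mp h _).pow_right _).eq]

/-- In a group with central elements of order `p` (`p` odd), `x^(p²) = 1` gives `⁅x, y⁆^p = 1`. -/
theorem comm_pow_eq_one_aux (hp2 : p ≠ 2) : ∀ (n : ℕ) {G : Type u} [Group G] [Finite G],
    Nat.card G ≤ n → IsPGroup p G → (∀ x : G, x ^ p = 1 → x ∈ center G) →
    ∀ x : G, (x ^ p) ^ p = 1 → ∀ y : G, ⁅x, y⁆ ^ p = 1 := by
  intro n
  induction n with
  | zero => intro G _ _ hn; exact absurd hn (by have := Nat.card_pos (α := G); omega)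
  | succ n ih =>
    intro G _ _ hn hG hc x hx y
    by_cases htop : zpowers x = ⊤
    · obtain ⟨i, rfl⟩ := mem_zpowers_iff.mp (htop.ge (mem_top y))
      rw [(((Commute.refl x).zpow_right i)).commutator_eq, one_pow]
    obtain ⟨M, hM, hxM⟩ := (IsCoatomic.eq_top_or_exists_le_coatom (zpowers x)).resolve_left htop
    have hMn := PGroup.normal_of_isCoatom hG hM
    have hxm : x ∈ M := hxM (mem_zpowers x)
    have hlt : Nat.card M < Nat.card G :=
      lt_of_le_of_ne M.card_le_card_group fun e => hM.1 (eq_top_of_card_eq M e)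
    set x' : M := ⟨y * x * y⁻¹, hMn.conj_mem x hxm y⟩
    have hMc : ∀ z : M, z ^ p = 1 → z ∈ center M := fun z hz => mem_center_iff.mpr fun w =>
      Subtype.ext (mem_center_iff.mp (hc z (congrArg Subtype.val hz)) w)
    have hx' : (x' ^ p) ^ p = 1 := Subtype.ext (by
      show ((y * x * y⁻¹) ^ p) ^ p = 1
      rw [conj_pow, conj_pow, hx, mul_one, mul_inv_cancel])
    have h1 : ⁅y * x * y⁻¹, x⁻¹⁆ ^ p = 1 := by
      have := congrArg Subtype.val (ih (G := M) (by omega) (hG.to_subgroup M) hMc x' hx' ⟨x⁻¹, inv_mem hxm⟩)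
      rw [coe_pow, coe_one] at this
      rwa [show ((⁅x', (⟨x⁻¹, inv_mem hxm⟩ : M)⁆ : M) : G) = ⁅y * x * y⁻¹, x⁻¹⁆ from
        map_commutatorElement M.subtype _ _] at this
    have h2 : ⁅x⁻¹, y * x * y⁻¹⁆ ^ p = 1 := by
      rw [← commutatorElement_inv, inv_pow, h1, inv_one]
    have h3 : (y * x * y⁻¹ * x⁻¹) ^ p = 1 := by
      rw [mul_pow_central' _ _ (hc _ h2)]
      obtain ⟨t, ht⟩ := hp.out.dvd_choose_self two_ne_zero (lt_of_le_of_ne hp.out.two_le (Ne.symm hp2))
      rw [ht, pow_mul, h2, one_pow, mul_one, conj_pow, inv_pow,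
        mem_center_iff.mp (hc _ hx) y, mul_inv_cancel_right, mul_inv_cancel]
    rw [← commutatorElement_inv y x, inv_pow, commutatorElement_def, h3, inv_one]

/-- The subgroup of solutions of `x^p = 1`, when central. -/
def omega {G : Type*} [Group G] (p : ℕ) (hc : ∀ x : G, x ^ p = 1 → x ∈ center G) : Subgroup G where
  carrier := {x | x ^ p = 1}
  one_mem' := one_pow p
  mul_mem' := fun {a b} ha hb => by
    show (a * b) ^ p = 1
    rw [Commute.mul_pow (mem_center_iff.mp (hc a ha) b).symm, show a ^ p = 1 from ha,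
      show b ^ p = 1 from hb, one_mul]
  inv_mem' := fun {a} ha => by
    show a⁻¹ ^ p = 1
    rw [inv_pow, show a ^ p = 1 from ha, inv_one]

theorem index_frattini_le_omega_aux (hp2 : p ≠ 2) : ∀ (n : ℕ) {G : Type u} [Group G] [Finite G],
    Nat.card G ≤ n → IsPGroup p G → ∀ hc : (∀ x : G, x ^ p = 1 → x ∈ center G),
    (frattini G).index ≤ Nat.card (omega p hc) := by
  intro n
  induction n with
  | zero => intro G _ _ hn; exact absurd hn (by have := Nat.card_pos (α := G); omega)
  | succ n ih =>
    intro G _ _ hn hG hc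
    set Ω := omega p hc with hΩ
    have hΩc : Ω ≤ center G := fun x hx => hc x hx
    have : Ω.Normal := H40.normal_of_le_center' hΩc
    by_cases hbot : Ω = ⊥
    · have : Subsingleton G := by
        by_contra hns
        rw [not_subsingleton_iff_nontrivial] at hns
        obtain ⟨z, -, -, hz⟩ := H40.exists_central_orderOf_eq hG (⊤ : Subgroup G) top_ne_bot
        have : z ∈ Ω := orderOf_dvd_iff_pow_eq_one.mp (dvd_of_eq hz)
        rw [hbot, mem_bot] at this
        rw [this, orderOf_one] at hz
        exact hp.out.ne_one hz.symm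
      rw [show frattini G = ⊤ from Subsingleton.elim _ _, index_top]
      exact Nat.card_pos
    have hQn : Nat.card (G ⧸ Ω) ≤ n := by
      have h1 := card_eq_card_quotient_mul_card_subgroup Ω
      have h2 : 2 ≤ Nat.card Ω := (one_lt_card_iff_ne_bot Ω).mpr hbot
      have h3 : Nat.card (G ⧸ Ω) * 2 ≤ Nat.card (G ⧸ Ω) * Nat.card Ω := Nat.mul_le_mul_left _ h2
      have h4 : 0 < Nat.card (G ⧸ Ω) := Nat.card_pos
      omega
    have hcomm : ∀ x y : G, (x ^ p) ^ p = 1 → ⁅x, y⁆ ^ p = 1 := fun x y hx =>
      comm_pow_eq_one_aux hp2 _ le_rfl hG hc x hx y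
    have hpp : ∀ q : G ⧸ Ω, q ^ p = 1 → (q.out ^ p) ^ p = 1 := fun q hq => by
      have h : q.out ^ p ∈ Ω := by
        rw [← QuotientGroup.eq_one_iff, QuotientGroup.mk_pow, QuotientGroup.out_eq', hq]
      exact h
    have hcQ : ∀ q : G ⧸ Ω, q ^ p = 1 → q ∈ center (G ⧸ Ω) := fun q hq => mem_center_iff.mpr fun r => by
      rw [← QuotientGroup.out_eq' q, ← QuotientGroup.out_eq' r, ← commutatorElement_eq_one_iff_mul_comm]
      refine ((map_commutatorElement (QuotientGroup.mk' Ω) _ _).symm.trans ?_)
      refine (QuotientGroup.eq_one_iff _).mpr ?_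
      show ⁅r.out, q.out⁆ ^ p = 1
      rw [← commutatorElement_inv, inv_pow, hcomm _ _ (hpp q hq), inv_one]
    have hIH := ih hQn (hG.to_quotient Ω) hcQ
    have hA : Nat.card (omega p hcQ) ≤ Nat.card ↥(Ω ⊓ frattini G) := by
      refine Nat.card_le_card_of_injective (fun q : omega p hcQ =>
        (⟨(q : G ⧸ Ω).out ^ p, hpp _ q.2, PGroup.pow_mem_frattini hG _⟩ : ↥(Ω ⊓ frattini G))) ?_
      intro q r hqr
      have he : (q : G ⧸ Ω).out ^ p = (r : G ⧸ Ω).out ^ p := congrArg Subtype.val hqr
      refine Subtype.ext ?_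
      set a := (q : G ⧸ Ω).out
      set b := (r : G ⧸ Ω).out
      have hb : ((b⁻¹) ^ p) ^ p = 1 := by rw [inv_pow, inv_pow, hpp _ r.2, inv_one]
      have h1 : ⁅b⁻¹, a⁆ ^ p = 1 := hcomm _ _ hb
      have h2 : (a * b⁻¹) ^ p = 1 := by
        rw [mul_pow_central' _ _ (hc _ h1)]
        obtain ⟨t, ht⟩ := hp.out.dvd_choose_self two_ne_zero (lt_of_le_of_ne hp.out.two_le (Ne.symm hp2))
        rw [ht, pow_mul, h1, one_pow, mul_one, inv_pow, he, mul_inv_cancel]
      rw [← QuotientGroup.out_eq' (q : G ⧸ Ω), ← QuotientGroup.out_eq' (r : G ⧸ Ω), QuotientGroup.eq_iff_div_mem, div_eq_mul_inv]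
      exact h2
    have hB : (Ω ⊔ frattini G).index ≤ (frattini (G ⧸ Ω)).index := by
      set π := QuotientGroup.mk' Ω
      have hn' : ((frattini G).map π).Normal := Normal.map inferInstance π (QuotientGroup.mk'_surjective Ω)
      have h1 : frattini (G ⧸ Ω) ≤ (frattini G).map π := by
        refine PGroup.frattini_le_of_quotient (p := p) ?_ fun q => ?_
        · rw [_root_.commutator_def, commutator_le]
          intro a _ b _
          obtain ⟨a, rfl⟩ := QuotientGroup.mk'_surjective Ω a
          obtain ⟨b, rfl⟩ := QuotientGroup.mk'_surjective Ω b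
          exact ⟨⁅a, b⁆, PGroup.comm_mem_frattini hG a b, map_commutatorElement _ _ _⟩
        · obtain ⟨a, rfl⟩ := QuotientGroup.mk'_surjective Ω q
          exact ⟨a ^ p, PGroup.pow_mem_frattini hG a, map_pow _ _ _⟩
      have h2 : (frattini (G ⧸ Ω)).comap π ≤ Ω ⊔ frattini G := by
        refine (comap_mono h1).trans ?_
        rw [comap_map_eq, QuotientGroup.ker_mk', sup_comm]
      rw [← index_comap_of_surjective (frattini (G ⧸ Ω)) (QuotientGroup.mk'_surjective Ω)]
      exact Nat.le_of_dvd (Nat.pos_of_ne_zero FiniteIndex.index_ne_zero) (index_dvd_of_le h2)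
    have hrel : (frattini G).relIndex (Ω ⊔ frattini G) = (frattini G).relIndex Ω :=
      relIndex_sup_right Ω (frattini G)
    calc (frattini G).index = (frattini G).relIndex (Ω ⊔ frattini G) * (Ω ⊔ frattini G).index :=
          (relIndex_mul_index le_sup_right).symm
      _ ≤ (frattini G).relIndex Ω * Nat.card ↥(Ω ⊓ frattini G) := by
          rw [hrel]; exact Nat.mul_le_mul_left _ (hB.trans (hIH.trans hA))
      _ = Nat.card Ω := by
          rw [← inf_relIndex_right (frattini G) Ω, inf_comm Ω, mul_comm,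
            ← relIndex_bot_left (frattini G ⊓ Ω), relIndex_mul_relIndex _ _ _ bot_le inf_le_right,
            relIndex_bot_left]

/-- An abelian group of exponent `p` generated by `S` has order at most `p^|S|`. -/
theorem card_closure_le {G : Type*} [Group G] [Finite G] (hab : ∀ a b : G, a * b = b * a)
    (hexp : ∀ a : G, a ^ p = 1) (S : Finset G) :
    Nat.card (closure (S : Set G)) ≤ p ^ S.card := by
  classical
  induction S using Finset.induction with
  | empty => simp
  | @insert x S hx ih =>
    have hn : (closure (S : Set G)).Normal :=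
      ⟨fun z hz g => by rw [hab g z, mul_inv_cancel_right]; exact hz⟩
    rw [Finset.coe_insert, Set.insert_eq, Subgroup.closure_union, ← zpowers_eq_closure]
    have hset : ((zpowers x ⊔ closure (S : Set G) : Subgroup G) : Set G) =
        (zpowers x : Set G) * (closure (S : Set G) : Set G) := Subgroup.mul_normal _ _
    calc Nat.card ↥(zpowers x ⊔ closure (S : Set G))
        = Nat.card (((zpowers x : Set G) * (closure (S : Set G) : Set G)) : Set G) :=
          congrArg (fun T : Set G => Nat.card T) hset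
      _ ≤ Nat.card (zpowers x) * Nat.card (closure (S : Set G)) := Set.natCard_mul_le
      _ ≤ p * p ^ S.card := Nat.mul_le_mul ?_ ih
      _ = p ^ (insert x S).card := by rw [Finset.card_insert_of_notMem hx, pow_succ']
    rw [Nat.card_zpowers]
    exact Nat.le_of_dvd hp.out.pos (orderOf_dvd_of_pow_eq_one (hexp x))

/-- A normal elementary abelian subgroup gives a unitriangular representation. -/
theorem exists_uni_rep {P : Type*} [Group P] [Finite P] (hP : IsPGroup p P) :
    ∀ (r : ℕ) (E : Subgroup P), E.Normal → Cfsg.IsElementaryAbelian p E → Nat.card E = p ^ r →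
      ∃ (φ : (Fin r → ZMod p) ≃+ Additive E) (ρ : P →* Matrix (Fin r) (Fin r) (ZMod p)),
        Unitriangular.IsUni ρ ∧
        ∀ g v, ((φ ((ρ g).mulVec v)).toMul : P) = g * ((φ v).toMul : P) * g⁻¹ := by
  intro r
  induction r with
  | zero =>
    intro E _ _ hE
    have : Subsingleton E := Finite.card_le_one_iff_subsingleton.mp (by rw [hE, pow_zero])
    refine ⟨
      { toFun := fun _ => 0, invFun := fun _ => 0, left_inv := fun _ => Subsingleton.elim _ _,
        right_inv := fun _ => Subsingleton.elim (α := E) _ _, map_add' := fun _ _ => (add_zero _).symm },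
      1, fun h i => i.elim0, fun g v => ?_⟩
    show (1 : P) = g * 1 * g⁻¹
    rw [mul_one, mul_inv_cancel]
  | succ r ih =>
    intro E hEn hE hcard
    -- a normal subgroup of index `p` in `E`
    obtain ⟨F, hFE, hFn, hFc⟩ := PGroup.exists_normal_le_card hP E r hcard (Nat.le_succ r)
    have hFel : Cfsg.IsElementaryAbelian p F :=
      ⟨⟨⟨fun a b => Subtype.ext (congrArg (fun z : E => (z : P))
        (hE.1.is_comm.comm ⟨a, hFE a.2⟩ ⟨b, hFE b.2⟩))⟩⟩, fun f hf => hE.2 f (hFE hf)⟩
    obtain ⟨φ, ρ, hρ, hφ⟩ := ih F hFn hFel hFc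
    obtain ⟨e, heE, heF⟩ := SetLike.exists_of_lt (lt_of_le_of_ne hFE fun h => by
      rw [h, hcard, pow_succ'] at hFc
      exact hp.out.one_lt.ne' ((Nat.mul_eq_right (pow_pos hp.out.pos r).ne').mp hFc))
    have hec : ∀ g : P, g * e * g⁻¹ * e⁻¹ ∈ F := fun g =>
      H40.commutator_mem_of_card_eq_mul hP F E hFE (by rw [hcard, hFc, pow_succ']) heE g
    have hcE : ∀ a ∈ E, ∀ b ∈ E, Commute a b := fun a ha b hb =>
      congrArg Subtype.val (hE.1.is_comm.comm (⟨a, ha⟩ : E) ⟨b, hb⟩)
    have hep : e ^ p = 1 := hE.2 e heE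
    have hpowval : ∀ a b : ZMod p, e ^ (a + b).val = e ^ a.val * e ^ b.val := fun a b => by
      rw [← pow_add, ZMod.val_add, ← pow_eq_pow_mod _ hep]
    have hm : ∀ v : Fin r → ZMod p, ((φ v).toMul : P) ∈ E := fun v => hFE ((φ v).toMul).2
    let f : (Fin (r + 1) → ZMod p) →+ Additive E :=
      { toFun := fun v => Additive.ofMul
          ⟨((φ (Fin.init v)).toMul : P) * e ^ (v (Fin.last r)).val, mul_mem (hm _) (pow_mem heE _)⟩
        map_zero' := by
          refine congrArg Additive.ofMul (Subtype.ext ?_)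
          show ((φ (Fin.init (0 : Fin (r + 1) → ZMod p))).toMul : P) * _ = 1
          rw [show Fin.init (0 : Fin (r + 1) → ZMod p) = 0 from rfl, map_zero, Pi.zero_apply,
            ZMod.val_zero, pow_zero, mul_one]
          rfl
        map_add' := fun v w => by
          refine congrArg Additive.ofMul (Subtype.ext ?_)
          show ((φ (Fin.init (v + w))).toMul : P) * _ = ((φ (Fin.init v)).toMul : P) * _ *
            (((φ (Fin.init w)).toMul : P) * _)
          rw [show Fin.init (v + w) = Fin.init v + Fin.init w from rfl, map_add, Pi.add_apply,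
            hpowval, toMul_add, coe_mul,
            ((hcE _ (pow_mem heE _) _ (hm _))).mul_mul_mul_comm] }
    have hinj : Function.Injective f := by
      rw [injective_iff_map_eq_zero]
      intro v hv
      have h1 : ((φ (Fin.init v)).toMul : P) * e ^ (v (Fin.last r)).val = 1 :=
        congrArg (fun z : Additive E => (z.toMul : P)) hv
      have h2 : e ^ (v (Fin.last r)).val ∈ F := by
        rw [eq_inv_of_mul_eq_one_right h1]; exact inv_mem ((φ (Fin.init v)).toMul).2
      have h3 : (v (Fin.last r)).val = 0 := by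
        by_contra hne
        refine heF ?_
        have hlt := ZMod.val_lt (v (Fin.last r))
        have hco : Nat.Coprime (v (Fin.last r)).val p :=
          (Nat.coprime_comm.mp ((Nat.Prime.coprime_iff_not_dvd hp.out).mpr fun hd =>
            absurd (Nat.le_of_dvd (Nat.pos_of_ne_zero hne) hd) (not_le.mpr hlt)))
        exact mem_of_pow_mem_of_coprime h2 (by rw [hep]; exact one_mem F) hco
      rw [h3, pow_zero, mul_one] at h1
      have h4 : Fin.init v = 0 := φ.injective (by
        rw [map_zero]; exact congrArg Additive.ofMul (Subtype.ext h1))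
      funext i
      refine Fin.lastCases ?_ (fun j => ?_) i
      · exact (ZMod.val_eq_zero _).mp h3
      · exact congrFun h4 j
    have hbij : Function.Bijective f := by
      refine (Nat.bijective_iff_injective_and_card f).mpr ⟨hinj, ?_⟩
      rw [Nat.card_fun, Nat.card_fin, Nat.card_zmod, Nat.card_congr (Additive.toMul (α := E)), hcard]
    let φ' := AddEquiv.ofBijective f hbij
    let w : P → Fin r → ZMod p := fun g => φ.symm (Additive.ofMul ⟨g * e * g⁻¹ * e⁻¹, hec g⟩)
    let M : P → Matrix (Fin (r + 1)) (Fin (r + 1)) (ZMod p) := fun g i j =>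
      Fin.lastCases (Fin.lastCases (1 : ZMod p) (fun _ => 0) j)
        (fun i' => Fin.lastCases (w g i') (fun j' => ρ g i' j') j) i
    have hMmul : ∀ g v, (M g).mulVec v =
        Fin.snoc ((ρ g).mulVec (Fin.init v) + v (Fin.last r) • w g) (v (Fin.last r)) := fun g v => by
      funext i
      refine Fin.lastCases ?_ (fun i' => ?_) i
      · rw [Fin.snoc_last]
        simp [M, Matrix.mulVec, dotProduct, Fin.sum_univ_castSucc]
      · rw [Fin.snoc_castSucc]
        simp [M, Matrix.mulVec, dotProduct, Fin.sum_univ_castSucc, Fin.init, mul_comm]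
    have key : ∀ g v, ((φ' ((M g).mulVec v)).toMul : P) = g * ((φ' v).toMul : P) * g⁻¹ := by
      intro g v
      show ((φ (Fin.init ((M g).mulVec v))).toMul : P) * e ^ ((M g).mulVec v (Fin.last r)).val =
        g * (((φ (Fin.init v)).toMul : P) * e ^ (v (Fin.last r)).val) * g⁻¹
      rw [hMmul, Fin.init_snoc, Fin.snoc_last, map_add, toMul_add, coe_mul, hφ]
      set a := v (Fin.last r)
      have hw : ((φ (a • w g)).toMul : P) = (g * e * g⁻¹ * e⁻¹) ^ a.val := by
        have h1 : a • w g = a.val • w g := by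
          funext i
          rw [Pi.smul_apply, Pi.smul_apply, nsmul_eq_mul, ZMod.natCast_zmod_val, smul_eq_mul]
        rw [h1, map_nsmul, toMul_nsmul, coe_pow]
        show (((φ (φ.symm _)).toMul : P)) ^ a.val = _
        rw [φ.apply_symm_apply]
        rfl
      have hce : Commute (g * e * g⁻¹ * e⁻¹) e := hcE _ (hFE (hec g)) _ heE
      rw [hw, mul_assoc (g * _ * g⁻¹), ← hce.mul_pow, inv_mul_cancel_right, conj_pow]
      group
    have hone : M 1 = 1 := Matrix.ext_iff_mulVec.mpr fun v => φ'.injective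
      (congrArg Additive.ofMul (Subtype.ext (by
        show ((φ' ((M 1).mulVec v)).toMul : P) = ((φ' (Matrix.mulVec 1 v)).toMul : P)
        rw [key, Matrix.one_mulVec, one_mul, inv_one, mul_one])))
    have hmul : ∀ g h, M (g * h) = M g * M h := fun g h => Matrix.ext_iff_mulVec.mpr fun v =>
      φ'.injective (congrArg Additive.ofMul (Subtype.ext (by
        show ((φ' ((M (g * h)).mulVec v)).toMul : P) = ((φ' ((M g * M h).mulVec v)).toMul : P)
        rw [key, ← Matrix.mulVec_mulVec, key, key]
        group)))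
    refine ⟨φ', { toFun := M, map_one' := hone, map_mul' := hmul }, fun g i j => ⟨?_, ?_⟩, key⟩
    · intro hji
      revert hji
      show j < i → M g i j = 0
      refine Fin.lastCases ?_ (fun i' => ?_) i <;> refine Fin.lastCases ?_ (fun j' => ?_) j
      · exact fun h => absurd h (lt_irrefl _)
      · intro _; simp [M]
      · exact fun h => absurd h (not_lt.mpr (Fin.le_last _))
      · intro h
        simpa [M] using (hρ g i' j').1 (Fin.castSucc_lt_castSucc_iff.mp h)
    · show M g i i = 1
      refine Fin.lastCases ?_ (fun i' => ?_) i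
      · simp [M]
      · simpa [M] using (hρ g i' i').2

/-- The main bound. -/
theorem exists_generators {P : Type u} [Group P] [Finite P] (hp2 : p ≠ 2) (hP : IsPGroup p P) (k : ℕ)
    (hab : ∀ A : Subgroup P, A.Normal → IsMulCommutative A →
      ∃ S : Finset P, S.card ≤ k ∧ closure (S : Set P) = A)
    (H : Subgroup P) : ∃ S : Finset P, S.card ≤ k * (k + 4) / 4 ∧ closure (S : Set P) = H := by
  classical
  obtain ⟨E, ⟨hEn, hE⟩, hEmax⟩ :=
    (Set.toFinite {E : Subgroup P | E.Normal ∧ Cfsg.IsElementaryAbelian p E}).exists_maximal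
      ⟨⊥, inferInstance, ⟨⟨⟨fun a b => Subsingleton.elim _ _⟩⟩, fun x hx => by
        rw [mem_bot.mp hx, one_pow]⟩⟩
  have halp : ∀ x : P, x ^ p = 1 → (∀ b ∈ E, x * b = b * x) → x ∈ E :=
    H40.alperin hP hp2 E hE fun W hW hWe hle => le_antisymm (hEmax ⟨hW, hWe⟩ hle) hle
  obtain ⟨r, hr⟩ := IsPGroup.iff_card.mp (hP.to_subgroup E)
  have hrk : r ≤ k := by
    obtain ⟨S, hS, hSE⟩ := hab E hEn hE.1
    have hS' : ∀ s ∈ S, s ∈ E := fun s hs => hSE ▸ subset_closure hs
    let S' : Finset E := S.attach.image (fun s => ⟨s.1, hS' _ s.2⟩)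
    have htop : closure (S' : Set E) = ⊤ := by
      refine map_injective E.subtype_injective ?_
      rw [MonoidHom.map_closure, ← MonoidHom.range_eq_map, range_subtype]
      refine Eq.trans ?_ hSE
      congr 1
      rw [Finset.coe_image, Set.image_image]
      ext z
      exact ⟨fun ⟨s, _, hs⟩ => hs ▸ s.2, fun hz => ⟨⟨z, hz⟩, Finset.mem_attach _ _, rfl⟩⟩
    have h1 := card_closure_le (p := p) (G := E)
      (fun a b => hE.1.is_comm.comm a b) (fun a => Subtype.ext (hE.2 a a.2)) S'
    rw [htop, card_top, hr, Nat.pow_le_pow_iff_right hp.out.one_lt] at h1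
    exact h1.trans ((Finset.card_image_le.trans (Finset.card_attach).le).trans hS)
  obtain ⟨φ, ρ, hρ, hφ⟩ := exists_uni_rep hP r E hEn hE hr
  set σ := ρ.comp H.subtype with hσ
  obtain ⟨S₁, hS₁, hgen₁⟩ := Unitriangular.exists_gens (ρ := σ) (fun h => hρ _)
  set C := σ.ker with hC
  have hCE : ∀ c ∈ C, ∀ b ∈ E, ((c : H) : P) * b = b * c := by
    intro c hc b hb
    obtain ⟨v, hv⟩ := φ.surjective (Additive.ofMul ⟨b, hb⟩)
    have := hφ (c : P) v
    rw [show ρ (c : P) = 1 from hc, Matrix.one_mulVec, hv] at this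
    exact (mul_inv_eq_iff_eq_mul.mp this.symm)
  have hCc : ∀ c : C, c ^ p = 1 → c ∈ center C := fun c hc => mem_center_iff.mpr fun d => by
    have hcE : ((c : H) : P) ∈ E := halp _ (congrArg (fun z : C => ((z : H) : P)) hc) (hCE c c.2)
    exact Subtype.ext (Subtype.ext (hCE d d.2 _ hcE))
  have hCp : IsPGroup p C := (hP.to_subgroup H).to_subgroup C
  have hΩ : Nat.card (omega p hCc) ≤ p ^ r := by
    rw [← hr]
    refine Nat.card_le_card_of_injective
      (fun c : omega p hCc => (⟨(((c : C) : H) : P), halp _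
        (congrArg (fun z : C => ((z : H) : P)) c.2) (hCE _ (c : C).2)⟩ : E)) fun a b hab' => ?_
    exact Subtype.ext (Subtype.ext (Subtype.ext (congrArg (fun z : E => (z : P)) hab')))
  have hidx := (index_frattini_le_omega_aux hp2 _ le_rfl hCp hCc).trans hΩ
  obtain ⟨S₂, hS₂, hS₂c⟩ := exists_gens_mod hCp (F := frattini C) ⊤ le_top
  have hS₂top : closure (S₂ : Set C) = ⊤ := frattini_nongenerating hS₂
  have hS₂r : S₂.card ≤ r := by
    have h1 : p ^ S₂.card ≤ (frattini C).index := by
      rw [card_top, ← (frattini C).card_mul_index, mul_comm] at hS₂c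
      exact Nat.le_of_mul_le_mul_left hS₂c Nat.card_pos
    exact (Nat.pow_le_pow_iff_right hp.out.one_lt).mp (h1.trans hidx)
  refine ⟨(S₁ ∪ S₂.image Subtype.val).image Subtype.val, ?_, ?_⟩
  · refine Finset.card_image_le.trans ((Finset.card_union_le _ _).trans ?_)
    refine le_trans (Nat.add_le_add hS₁ (Finset.card_image_le.trans hS₂r)) ?_
    have h1 : r * r ≤ k * k := Nat.mul_le_mul hrk hrk
    have h2 : k * (k + 4) = k * k + 4 * k := by ring
    omega
  · set T := S₁ ∪ S₂.image Subtype.val with hT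
    have htop : closure (T : Set H) = ⊤ := by
      refine frattini_nongenerating (eq_top_iff.mpr (hgen₁.ge.trans ?_))
      refine sup_le (sup_le (le_sup_of_le_left (Subgroup.closure_mono (by simp [hT])))
        (le_sup_of_le_right (PGroup.commutator_le_frattini (hP.to_subgroup H)))) ?_
      refine le_sup_of_le_left ?_
      have h1 : (⊤ : Subgroup C).map C.subtype ≤ closure (T : Set H) := by
        rw [← hS₂top, MonoidHom.map_closure]
        refine Subgroup.closure_mono ?_
        rintro _ ⟨s, hs, rfl⟩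
        rw [hT]
        exact Finset.mem_union_right _ (Finset.mem_image_of_mem _ hs)
      rwa [← MonoidHom.range_eq_map, range_subtype] at h1
    have := congrArg (Subgroup.map H.subtype) htop
    rw [MonoidHom.map_closure, ← MonoidHom.range_eq_map, range_subtype] at this
    rw [Finset.coe_image]
    exact this

end Cfsg.Agent.FGS77.GenBound
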