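import Cfsg.Agent.FGS77.MetacyclicBasic
import Cfsg.Agent.OddLocal43.MetacyclicAction

/-!
# An automorphism of order `p` of a metacyclic `p`-group without cyclic maximal subgroup

If it moves an element of order `p`, then `p = 3` and it has exactly `p` fixed points (S4079).
-/

set_option autoImplicit false

open Subgroup
open scoped commutatorElement

namespace Cfsg.Agent.FGS77.Metacyclic

universe u

variable {L : Type u} [Group L] [Finite L] {p : ℕ} [hp : Fact p.Prime]

theorem exists_fixed {Q : Type*} [Group Q] [Finite Q] (hQ : IsPGroup p Q) (f : Q ≃* Q)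
    (hf : ∀ x, f^[p] x = x) (S : Subgroup Q) (hS : ∀ x ∈ S, f x ∈ S) (hS1 : S ≠ ⊥) :
    ∃ z ∈ S, z ≠ 1 ∧ f z = z := by
  classical
  have := Fintype.ofFinite S
  let g : S → S := fun x => ⟨f x, hS x x.2⟩
  have hg : Function.Bijective g := Finite.injective_iff_bijective.mp fun x y h =>
    Subtype.ext (f.injective (congrArg Subtype.val h))
  let σ : Equiv.Perm S := Equiv.ofBijective g hg
  have hit : ∀ (n : ℕ) (x : S), ((σ ^ n) x : Q) = f^[n] x := by
    intro n
    induction n with
    | zero => intro x; rfl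
    | succ n ih =>
      intro x
      rw [pow_succ', Equiv.Perm.mul_apply, Function.iterate_succ_apply', ← ih]
      rfl
  have hσ : σ ^ p ^ 1 = 1 := Equiv.ext fun x => Subtype.ext (by rw [pow_one, hit, hf]; rfl)
  have hdvd : p ∣ Fintype.card S := by
    rw [← Nat.card_eq_fintype_card]; exact PGroup.dvd_card_of_ne_bot hQ hS1
  obtain ⟨b, hb, hb1⟩ := Equiv.Perm.exists_fixed_point_of_prime' hdvd hσ (a := 1)
    (Subtype.ext (map_one f))
  exact ⟨b, b.2, fun h => hb1 (Subtype.ext h), congrArg Subtype.val hb⟩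

theorem fixed_of_card_prime {Q : Type*} [Group Q] [Finite Q] (hQ : IsPGroup p Q) (f : Q ≃* Q)
    (hf : ∀ x, f^[p] x = x) (hc : Nat.card Q = p) (x : Q) : f x = x := by
  have : Nontrivial Q := Finite.one_lt_card_iff_nontrivial.mp (hc ▸ hp.out.one_lt)
  obtain ⟨z, -, hz1, hz⟩ := exists_fixed hQ f hf ⊤ (fun _ _ => mem_top _) top_ne_bot
  obtain ⟨k, rfl⟩ := mem_zpowers_iff.mp (mem_zpowers_of_prime_card (g' := x) hc hz1)
  rw [map_zpow, hz]

/-- The induced automorphism on a quotient. -/
noncomputable def quotAut (a : MulAut L) (M : Subgroup L) [M.Normal] (hM : ∀ x ∈ M, a x ∈ M) :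
    L ⧸ M ≃* L ⧸ M :=
  QuotientGroup.congr M M a (eq_of_le_of_card_ge
    (by rintro _ ⟨x, hx, rfl⟩; exact hM x hx) (card_map_of_injective a.injective).ge)

theorem quotAut_iterate (a : MulAut L) (M : Subgroup L) [M.Normal] (hM : ∀ x ∈ M, a x ∈ M) :
    ∀ (n : ℕ) (x : L), (quotAut a M hM)^[n] (x : L ⧸ M) = ((⇑a)^[n] x : L) := by
  intro n
  induction n with
  | zero => intro x; rfl
  | succ n ih => intro x; rw [Function.iterate_succ_apply', Function.iterate_succ_apply', ih]; rfl

/-- The induced automorphism on an invariant subgroup. -/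
noncomputable def subAut (a : MulAut L) (H : Subgroup L) (hH : ∀ x ∈ H, a x ∈ H) : H ≃* H :=
  (a.subgroupMap H).trans (MulEquiv.subgroupCongr (eq_of_le_of_card_ge
    (by rintro _ ⟨x, hx, rfl⟩; exact hH x hx) (card_map_of_injective a.injective).ge))

theorem subAut_iterate (a : MulAut L) (H : Subgroup L) (hH : ∀ x ∈ H, a x ∈ H) :
    ∀ (n : ℕ) (x : H), ((subAut a H hH)^[n] x : L) = (⇑a)^[n] x := by
  intro n
  induction n with
  | zero => intro x; rfl
  | succ n ih => intro x; rw [Function.iterate_succ_apply', Function.iterate_succ_apply', ← ih]; rfl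

/-- The elements moved by `a` inside the normal subgroup `M` only. -/
def dSub (a : MulAut L) (M : Subgroup L) [hM : M.Normal] : Subgroup L where
  carrier := {x | x⁻¹ * a x ∈ M}
  one_mem' := by simp
  mul_mem' := fun {x y} hx hy => by
    show (x * y)⁻¹ * a (x * y) ∈ M
    have : (x * y)⁻¹ * a (x * y) = y⁻¹ * (x⁻¹ * a x) * y⁻¹⁻¹ * (y⁻¹ * a y) := by
      rw [map_mul]; group
    rw [this]
    exact mul_mem (hM.conj_mem _ hx y⁻¹) hy
  inv_mem' := fun {x} hx => by
    show x⁻¹⁻¹ * a x⁻¹ ∈ M
    have : x⁻¹⁻¹ * a x⁻¹ = x * (x⁻¹ * a x)⁻¹ * x⁻¹ := by rw [map_inv]; group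
    rw [this]
    exact hM.conj_mem _ (inv_mem hx) x

theorem mem_dSub {a : MulAut L} {M : Subgroup L} [M.Normal] {x : L} :
    x ∈ dSub a M ↔ x⁻¹ * a x ∈ M := Iff.rfl

theorem mem_dSub_iff_fixed {a : MulAut L} {x : L} : x ∈ dSub a (⊥ : Subgroup L) ↔ a x = x := by
  rw [mem_dSub, mem_bot, inv_mul_eq_one]
  exact eq_comm

/-- The subgroup generated by the `p^2`-th powers. -/
def pp (L : Type*) [Group L] (p : ℕ) : Subgroup L := closure (Set.range fun t : L => (t ^ p) ^ p)

instance pp_normal : (pp L p).Normal := ⟨fun z hz g => by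
  have h : (pp L p).map (MulAut.conj g).toMonoidHom ≤ pp L p := by
    rw [pp, MonoidHom.map_closure, closure_le]
    rintro _ ⟨_, ⟨t, rfl⟩, rfl⟩
    exact subset_closure ⟨MulAut.conj g t, by simp only [map_pow, MulEquiv.coe_toMonoidHom]⟩
  exact h (mem_map_of_mem (MulAut.conj g).toMonoidHom hz)⟩

theorem map_mem_pp (a : MulAut L) {z : L} (hz : z ∈ pp L p) : a z ∈ pp L p := by
  have h : (pp L p).map a.toMonoidHom ≤ pp L p := by
    rw [pp, MonoidHom.map_closure, closure_le]
    rintro _ ⟨_, ⟨t, rfl⟩, rfl⟩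
    exact subset_closure ⟨a t, by simp only [map_pow, MulEquiv.coe_toMonoidHom]⟩
  exact h (mem_map_of_mem a.toMonoidHom hz)

theorem map_mem_frattini (a : MulAut L) {z : L} (hz : z ∈ frattini L) : a z ∈ frattini L := by
  have := (characteristic_iff_le_comap.mp (inferInstance : (frattini L).Characteristic) a) hz
  exact this

theorem frattini_eq_closure (hL : IsPGroup p L) (hmc : Cfsg.IsMetacyclic L) :
    frattini L = closure (Set.range fun t : L => t ^ p) := by
  obtain ⟨N, D⟩ := exists_data hmc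
  rw [PGroup.frattini_eq hL, sup_eq_left, _root_.commutator_def, commutator_le]
  intro x _ y _
  obtain ⟨z, -, hz⟩ := commutator_eq_pow hL D x y
  exact hz ▸ subset_closure ⟨z, rfl⟩

section

variable (hL : IsPGroup p L) (hp2 : p ≠ 2) (hmc : Cfsg.IsMetacyclic L)

include hL hmc in
theorem comm_pow_mem_pp (x y : L) : ⁅x, y⁆ ^ p ∈ pp L p := by
  obtain ⟨N, D⟩ := exists_data hmc
  obtain ⟨z, -, hz⟩ := commutator_eq_pow hL D x y
  exact hz ▸ subset_closure ⟨z, rfl⟩

include hL hp2 hmc in
/-- The `p`-th power map is a homomorphism modulo `pp`. -/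
theorem mk_mul_pow (x y : L) :
    ((((x * y) ^ p : L)) : L ⧸ pp L p) = ((x ^ p : L) : L ⧸ pp L p) * ((y ^ p : L) : L ⧸ pp L p) := by
  obtain ⟨N, D⟩ := exists_data hmc
  rw [← QuotientGroup.mk_mul]
  refine (QuotientGroup.eq.mpr ?_).symm
  exact zpowers_le.mpr (comm_pow_mem_pp hL hmc y x) (mul_pow_p hL D hp2 x y)

/-- The `p`-th power map into `L ⧸ pp`. -/
def powHom (hL : IsPGroup p L) (hp2 : p ≠ 2) (hmc : Cfsg.IsMetacyclic L) : L →* L ⧸ pp L p where
  toFun x := ((x ^ p : L) : L ⧸ pp L p)
  map_one' := by simp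
  map_mul' := mk_mul_pow hL hp2 hmc

include hL hp2 hmc in
theorem frattini_central (v y : L) (hv : v ∈ frattini L) :
    Commute (v : L ⧸ pp L p) (y : L ⧸ pp L p) := by
  obtain ⟨N, D⟩ := exists_data hmc
  rw [frattini_eq_closure hL hmc] at hv
  induction hv using closure_induction with
  | mem v hv =>
    obtain ⟨t, rfl⟩ := hv
    obtain ⟨j, hj⟩ := commutator_pow hL D hp2 y t
    have h1 : ⁅y, t ^ p⁆ ∈ pp L p := hj ▸ zpow_mem (comm_pow_mem_pp hL hmc y t) _
    rw [← QuotientGroup.eq_one_iff] at h1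
    refine Commute.symm (commutatorElement_eq_one_iff_commute.mp ?_)
    rw [← h1]
    exact (map_commutatorElement (QuotientGroup.mk' (pp L p)) y (t ^ p)).symm
  | one => rw [QuotientGroup.mk_one]; exact Commute.one_left _
  | mul a b _ _ ha hb => rw [QuotientGroup.mk_mul]; exact ha.mul_left hb
  | inv a _ ha => rw [QuotientGroup.mk_inv]; exact ha.inv_left

include hL hp2 hmc in
theorem pow_mem_pp_of_mem_frattini {v : L} (hv : v ∈ frattini L) : v ^ p ∈ pp L p := by
  rw [← QuotientGroup.eq_one_iff]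
  have h : frattini L ≤ (powHom hL hp2 hmc).ker := by
    rw [frattini_eq_closure hL hmc, closure_le]
    rintro _ ⟨t, rfl⟩
    exact MonoidHom.mem_ker.mpr ((QuotientGroup.eq_one_iff _).mpr (subset_closure ⟨t, rfl⟩))
  exact h hv

include hL hmc in
/-- `L ⧸ Φ(L)` has order at most `p²`. -/
theorem card_quotient_frattini_le : Nat.card (L ⧸ frattini L) ≤ p ^ 2 := by
  obtain ⟨N, D⟩ := exists_data hmc
  obtain ⟨n, y, -, -, hgen⟩ := D.two_gen
  classical
  have : NeZero p := ⟨hp.out.ne_zero⟩
  have hc : ∀ u v : L ⧸ frattini L, Commute u v := PGroup.quotient_frattini_commute hL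
  have hpw := PGroup.quotient_frattini_pow hL
  have hsurj : Function.Surjective
      (fun ij : Fin p × Fin p => (n : L ⧸ frattini L) ^ (ij.1 : ℕ) * (y : L ⧸ frattini L) ^ (ij.2 : ℕ)) := by
    intro q
    have hq : q ∈ closure ({(n : L ⧸ frattini L), (y : L ⧸ frattini L)} : Set _) := by
      have := congrArg (Subgroup.map (QuotientGroup.mk' (frattini L))) hgen
      rw [MonoidHom.map_closure, Set.image_pair,
        map_top_of_surjective _ (QuotientGroup.mk'_surjective _)] at this
      exact this.ge (mem_top q)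
    have hmod : ∀ (z : L ⧸ frattini L) (m : ℕ), z ^ m = z ^ (m % p) := fun z m => by
      conv_lhs => rw [← Nat.mod_add_div m p, pow_add, pow_mul, hpw, one_pow, mul_one]
    suffices ∃ i j : ℕ, q = (n : L ⧸ frattini L) ^ i * (y : L ⧸ frattini L) ^ j by
      obtain ⟨i, j, rfl⟩ := this
      exact ⟨(⟨i % p, Nat.mod_lt _ hp.out.pos⟩, ⟨j % p, Nat.mod_lt _ hp.out.pos⟩), by
        rw [hmod _ i, hmod _ j]⟩
    induction hq using closure_induction with
    | mem z hz =>
      rcases hz with rfl | rfl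
      exacts [⟨1, 0, by simp⟩, ⟨0, 1, by simp⟩]
    | one => exact ⟨0, 0, by simp⟩
    | mul a b _ _ ha hb =>
      obtain ⟨i, j, rfl⟩ := ha
      obtain ⟨k, l, rfl⟩ := hb
      exact ⟨i + k, j + l, by rw [pow_add, pow_add, (hc _ _).mul_mul_mul_comm]⟩
    | inv a _ ha =>
      obtain ⟨i, j, rfl⟩ := ha
      refine ⟨(p - 1) * i, (p - 1) * j, inv_eq_of_mul_eq_one_right ?_⟩
      rw [(hc _ _).mul_mul_mul_comm, ← pow_add, ← pow_add]
      have e : ∀ m, m + (p - 1) * m = p * m := fun m => by
        conv_rhs => rw [show p = (p - 1) + 1 by have := hp.out.pos; omega, add_mul, one_mul, add_comm]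
      rw [e, e, pow_mul, pow_mul, hpw, hpw, one_pow, one_pow, one_mul]
  calc Nat.card (L ⧸ frattini L) ≤ Nat.card (Fin p × Fin p) := Nat.card_le_card_of_surjective _ hsurj
    _ = p ^ 2 := by simp [pow_two]

end

/-- The standing hypotheses. -/
structure Ctx (p : ℕ) (L : Type*) [Group L] : Prop where
  hL : IsPGroup p L
  hp2 : p ≠ 2
  hmc : Cfsg.IsMetacyclic L
  hnc : ∀ C : Subgroup L, IsCyclic C → C.index ≠ p

theorem Ctx.not_cyclic (h : Ctx p L) [Nontrivial L] : ¬ IsCyclic L := by
  intro hc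
  obtain ⟨n, hn0, hn⟩ := h.hL.nontrivial_iff_card.mp ‹_›
  obtain ⟨C, hC⟩ := Sylow.exists_subgroup_card_pow_prime p (G := L) (n := n - 1)
    (hn ▸ pow_dvd_pow p (by omega))
  refine h.hnc C inferInstance ?_
  have := C.card_mul_index
  rw [hC, hn] at this
  have e : p ^ (n - 1) * p = p ^ n := by rw [← pow_succ]; congr 1; omega
  rw [← e] at this
  exact Nat.eq_of_mul_eq_mul_left (pow_pos hp.out.pos _) this

theorem Ctx.card_quotient (h : Ctx p L) [Nontrivial L] : Nat.card (L ⧸ frattini L) = p ^ 2 := by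
  obtain ⟨k, hk⟩ := IsPGroup.iff_card.mp (h.hL.to_quotient (frattini L))
  have hle := card_quotient_frattini_le h.hL h.hmc
  rw [hk, Nat.pow_le_pow_iff_right hp.out.one_lt] at hle
  have : ¬ k ≤ 1 := fun hk1 => h.not_cyclic (PGroup.isCyclic_of_index_frattini_le h.hL (by
    rw [index_eq_card, hk]; exact (Nat.pow_le_pow_right hp.out.pos hk1).trans (pow_one p).le))
  rw [hk, show k = 2 by omega]

/-- A `p`-th power lies deep only if the element lies in the Frattini subgroup. -/
theorem Ctx.mem_frattini_of_pow (h : Ctx p L) {u : L} (hu : u ^ p ∈ pp L p) : u ∈ frattini L := by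
  by_contra huF
  have : Nontrivial L := ⟨u, 1, fun e => huF (e ▸ one_mem _)⟩
  set U := zpowers u ⊔ frattini L with hUdef
  have hUtop : U ≠ ⊤ := fun e => h.not_cyclic (by
    have := frattini_nongenerating (K := zpowers u) (hUdef ▸ e)
    exact (topEquiv (G := L)).isCyclic.mp (this ▸ inferInstance))
  obtain ⟨h', hh'⟩ : ∃ h', h' ∉ U := by
    by_contra! hall
    exact hUtop ((eq_top_iff' U).mpr hall)
  have hgen : closure ({u, h'} : Set L) = ⊤ := by
    refine frattini_nongenerating ?_
    set V := closure ({u, h'} : Set L) ⊔ frattini L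
    have huU : u ∈ U := mem_sup_left (mem_zpowers u)
    have hUV : U < V := by
      refine lt_of_le_of_ne (sup_le_sup_right (zpowers_le.mpr (subset_closure (by simp))) _) fun e =>
        hh' (e.ge (mem_sup_left (subset_closure (by simp))))
    have hFU : frattini L < U := lt_of_le_of_ne le_sup_right fun e => huF (e.ge huU)
    obtain ⟨a, ha⟩ := IsPGroup.iff_card.mp (h.hL.to_subgroup (frattini L))
    obtain ⟨b, hb⟩ := IsPGroup.iff_card.mp (h.hL.to_subgroup U)
    obtain ⟨c, hc⟩ := IsPGroup.iff_card.mp (h.hL.to_subgroup V)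
    have lt_card : ∀ {A B : Subgroup L}, A < B → Nat.card A < Nat.card B := fun {A B} hAB =>
      lt_of_le_of_ne (card_le_of_le hAB.le) fun e => hAB.ne (eq_of_le_of_card_ge hAB.le e.ge)
    have hab : a < b := by
      have := lt_card hFU
      rwa [ha, hb, Nat.pow_lt_pow_iff_right hp.out.one_lt] at this
    have hbc : b < c := by
      have := lt_card hUV
      rwa [hb, hc, Nat.pow_lt_pow_iff_right hp.out.one_lt] at this
    have hLc : Nat.card L = p ^ (a + 2) := by
      rw [card_eq_card_quotient_mul_card_subgroup (frattini L), h.card_quotient, ha, ← pow_add, add_comm]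
    refine eq_top_of_card_eq _ (le_antisymm V.card_le_card_group ?_)
    rw [hLc, hc]
    exact Nat.pow_le_pow_right hp.out.pos (by omega)
  -- the Frattini subgroup is generated by `h'^p` modulo its own Frattini subgroup
  have hh'F : h' ∉ frattini L := fun e => hh' (mem_sup_right e)
  set P1 := zpowers (⟨h' ^ p, PGroup.pow_mem_frattini h.hL h'⟩ : frattini L) with hP1
  have hcov : ∀ v ∈ frattini L, (v : L ⧸ pp L p) ∈ zpowers ((h' ^ p : L) : L ⧸ pp L p) := by
    intro v hv
    have h1 : frattini L ≤ ((zpowers ((h' ^ p : L) : L ⧸ pp L p))).comap (QuotientGroup.mk' (pp L p)) := by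
      rw [frattini_eq_closure h.hL h.hmc, closure_le]
      rintro _ ⟨t, rfl⟩
      show powHom h.hL h.hp2 h.hmc t ∈ zpowers (powHom h.hL h.hp2 h.hmc h')
      have ht : t ∈ (zpowers (powHom h.hL h.hp2 h.hmc h')).comap (powHom h.hL h.hp2 h.hmc) := by
        have hle : closure ({u, h'} : Set L) ≤
            (zpowers (powHom h.hL h.hp2 h.hmc h')).comap (powHom h.hL h.hp2 h.hmc) := by
          rw [closure_le]
          rintro z (rfl | rfl)
          · show powHom h.hL h.hp2 h.hmc z ∈ zpowers (powHom h.hL h.hp2 h.hmc h')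
            rw [show powHom h.hL h.hp2 h.hmc z = 1 from (QuotientGroup.eq_one_iff _).mpr hu]
            exact one_mem _
          · exact mem_zpowers (powHom h.hL h.hp2 h.hmc z)
        exact hle (hgen.ge (mem_top t))
      exact ht
    exact h1 hv
  have hP1top : P1 = ⊤ := by
    refine frattini_nongenerating ((eq_top_iff' _).mpr fun v => ?_)
    obtain ⟨k, hk⟩ := mem_zpowers_iff.mp (hcov v v.2)
    rw [← QuotientGroup.mk_zpow, QuotientGroup.eq] at hk
    set w : frattini L := ⟨h' ^ p, PGroup.pow_mem_frattini h.hL h'⟩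
    have hw : w ^ k ∈ P1 := zpow_mem (mem_zpowers w) k
    have hrest : (w ^ k)⁻¹ * v ∈ frattini ↥(frattini L) := by
      have h2 : pp L p ≤ (frattini ↥(frattini L)).map (frattini L).subtype := by
        rw [pp, closure_le]
        rintro _ ⟨t, rfl⟩
        exact ⟨(⟨t ^ p, PGroup.pow_mem_frattini h.hL t⟩ : frattini L) ^ p,
          PGroup.pow_mem_frattini (h.hL.to_subgroup _) _, rfl⟩
      obtain ⟨z, hz, hzv⟩ := h2 hk
      have : z = (w ^ k)⁻¹ * v := Subtype.ext (by
        rw [coe_mul, coe_inv, coe_zpow]; exact hzv)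
      rwa [← this]
    have := mul_mem (mem_sup_left (T := frattini ↥(frattini L)) hw) (mem_sup_right (S := P1) hrest)
    rwa [mul_inv_cancel_left] at this
  have hFle : frattini L ≤ zpowers h' := fun v hv => by
    obtain ⟨k, hk⟩ := mem_zpowers_iff.mp (hP1top.ge (mem_top (⟨v, hv⟩ : frattini L)))
    have := congrArg Subtype.val hk
    change (h' ^ p) ^ k = v at this
    rw [← this]
    exact zpow_mem (pow_mem (mem_zpowers h') p) k
  have hidx : (zpowers h').index ∣ p ^ 2 := by
    have := index_dvd_of_le hFle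
    rwa [index_eq_card (frattini L), h.card_quotient] at this
  obtain ⟨i, hi, hidx'⟩ := (Nat.dvd_prime_pow hp.out).mp hidx
  rcases (show i = 0 ∨ i = 1 ∨ i = 2 by omega) with rfl | rfl | rfl
  · exact h.not_cyclic ((topEquiv (G := L)).isCyclic.mp
      (index_eq_one.mp (by simpa using hidx') ▸ inferInstance))
  · exact h.hnc _ inferInstance (by rw [hidx', pow_one])
  · refine hh'F ?_
    have : frattini L = zpowers h' := eq_of_le_of_card_ge hFle (by
      have e1 := (zpowers h').card_mul_index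
      have e2 := (frattini L).card_mul_index
      rw [hidx'] at e1
      rw [index_eq_card, h.card_quotient, ← e1] at e2
      exact (Nat.eq_of_mul_eq_mul_right (pow_pos hp.out.pos 2) e2).ge)
    exact this ▸ mem_zpowers h'

theorem eq_of_between (hL : IsPGroup p L) {K X M F : Subgroup L}
    (hF : Nat.card F = p ^ 2 * Nat.card K) (hKX : K < X) (hXM : X ≤ M) (hMF : M < F) : M = X := by
  obtain ⟨a, ha⟩ := IsPGroup.iff_card.mp (hL.to_subgroup K)
  obtain ⟨b, hb⟩ := IsPGroup.iff_card.mp (hL.to_subgroup X)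
  obtain ⟨c, hc⟩ := IsPGroup.iff_card.mp (hL.to_subgroup M)
  have lt_card : ∀ {A B : Subgroup L}, A < B → Nat.card A < Nat.card B := fun {A B} hAB =>
    lt_of_le_of_ne (card_le_of_le hAB.le) fun e => hAB.ne (eq_of_le_of_card_ge hAB.le e.ge)
  have h1 := lt_card hKX
  rw [ha, hb, Nat.pow_lt_pow_iff_right hp.out.one_lt] at h1
  have h2 := lt_card hMF
  rw [hc, hF, ha, ← pow_add, Nat.pow_lt_pow_iff_right hp.out.one_lt] at h2
  refine (eq_of_le_of_card_ge hXM ?_).symm
  rw [hb, hc]
  exact Nat.pow_le_pow_right hp.out.pos (by omega)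

theorem card_eq_prime_of_lt (hL : IsPGroup p L) {C E : Subgroup L} (hE : Nat.card E = p ^ 2)
    (hCE : C ≤ E) (hC : C ≠ ⊥) (hne : C ≠ E) : Nat.card C = p := by
  obtain ⟨i, hi, hcard⟩ := (Nat.dvd_prime_pow hp.out).mp (hE ▸ card_dvd_of_le hCE)
  rcases (show i = 0 ∨ i = 1 ∨ i = 2 by omega) with rfl | rfl | rfl
  · exact absurd (card_eq_one.mp (by simpa using hcard)) hC
  · rw [hcard, pow_one]
  · exact absurd (eq_of_le_of_card_ge hCE (by rw [hE, hcard])) hne

theorem card_fixed_le_frattini (a : MulAut L) (h : ∀ x, a x = x → x ∈ frattini L)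
    (hFinv : ∀ x ∈ frattini L, a x ∈ frattini L) :
    Nat.card (dSub (subAut a (frattini L) hFinv) (⊥ : Subgroup ↥(frattini L))) =
      Nat.card (dSub a (⊥ : Subgroup L)) := by
  refine Nat.card_congr
    { toFun := fun t => ⟨((t : frattini L) : L),
        mem_dSub_iff_fixed.mpr (congrArg Subtype.val (mem_dSub_iff_fixed.mp t.2))⟩
      invFun := fun c => ⟨⟨(c : L), h _ (mem_dSub_iff_fixed.mp c.2)⟩,
        mem_dSub_iff_fixed.mpr (Subtype.ext (mem_dSub_iff_fixed.mp c.2))⟩
      left_inv := fun t => rfl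
      right_inv := fun c => rfl }

/-- An automorphism of order `p` trivial on the Frattini quotient of a metacyclic group:
all `x⁻¹a(x)` have order dividing `p`. -/
theorem trivial_case_aux : ∀ (n : ℕ) {L : Type u} [Group L] [Finite L], Nat.card L ≤ n →
    IsPGroup p L → p ≠ 2 → Cfsg.IsMetacyclic L → ∀ a : MulAut L, (∀ x, (⇑a)^[p] x = x) →
    (∀ x, x⁻¹ * a x ∈ frattini L) → ∀ x, (x⁻¹ * a x) ^ p = 1 := by
  intro n
  induction n with
  | zero => intro L _ _ hn; exact absurd hn (by have := Nat.card_pos (α := L); omega)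
  | succ n ih =>
    intro L _ _ hn hL hp2 hmc a ha hD x
    by_cases hF : frattini L = ⊥
    · have := hD x
      rw [hF, mem_bot] at this
      rw [this, one_pow]
    obtain ⟨N, D⟩ := exists_data hmc
    have hne : frattini L ⊓ center L ≠ ⊥ := PGroup.inf_center_ne_bot hL hF
    have hinv : ∀ z ∈ frattini L ⊓ center L, a z ∈ frattini L ⊓ center L := fun z hz =>
      ⟨map_mem_frattini a hz.1, mem_center_iff.mpr fun g => by
        have := congrArg a (mem_center_iff.mp hz.2 (a.symm g))
        rwa [map_mul, map_mul, a.apply_symm_apply] at this⟩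
    obtain ⟨z₀, hz₀, hz₀1, hz₀a⟩ := exists_fixed hL a ha _ hinv hne
    obtain ⟨e, he⟩ := hL.exists_orderOf_eq_pow z₀
    have hdvd : p ∣ orderOf z₀ := by
      rcases Nat.eq_zero_or_pos e with rfl | h0
      · exact absurd (orderOf_eq_one_iff.mp (by simpa using he)) hz₀1
      · exact he ▸ dvd_pow_self p h0.ne'
    set z := z₀ ^ (orderOf z₀ / p) with hz
    have hzo : orderOf z = p := orderOf_pow_orderOf_div (orderOf_pos z₀).ne' hdvd
    have hzc : ∀ g, g * z = z * g := mem_center_iff.mp (pow_mem hz₀.2 _)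
    have hza : a z = z := by rw [hz, map_pow, hz₀a]
    set Z := zpowers z
    have hZn : Z.Normal := ⟨fun y hy g => by
      obtain ⟨k, rfl⟩ := mem_zpowers_iff.mp hy
      rw [show g * z ^ k * g⁻¹ = z ^ k by
        rw [(show Commute g z from hzc g).zpow_right k, mul_inv_cancel_right]]
      exact zpow_mem (mem_zpowers z) k⟩
    have hZinv : ∀ y ∈ Z, a y ∈ Z := fun y hy => by
      obtain ⟨k, rfl⟩ := mem_zpowers_iff.mp hy
      rw [map_zpow, hza]; exact zpow_mem (mem_zpowers z) k
    have hQn : Nat.card (L ⧸ Z) ≤ n := by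
      have h1 := card_eq_card_quotient_mul_card_subgroup Z
      rw [Nat.card_zpowers, hzo] at h1
      have h2 : Nat.card (L ⧸ Z) * 2 ≤ Nat.card (L ⧸ Z) * p := Nat.mul_le_mul_left _ hp.out.two_le
      have h3 : 0 < Nat.card (L ⧸ Z) := Nat.card_pos
      omega
    have hQ := ih hQn (hL.to_quotient Z) hp2
      (isMetacyclic_of_surjective (QuotientGroup.mk' Z) (QuotientGroup.mk'_surjective Z) hmc)
      (quotAut a Z hZinv)
      (fun q => by
        obtain ⟨y, rfl⟩ := QuotientGroup.mk_surjective q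
        rw [quotAut_iterate, ha])
      (fun q => by
        obtain ⟨y, rfl⟩ := QuotientGroup.mk_surjective q
        have hm : (frattini L).map (QuotientGroup.mk' Z) ≤ frattini (L ⧸ Z) := by
          rw [frattini_eq_closure hL hmc, MonoidHom.map_closure, closure_le]
          rintro _ ⟨_, ⟨t, rfl⟩, rfl⟩
          rw [map_pow]
          exact PGroup.pow_mem_frattini (hL.to_quotient Z) _
        exact hm ⟨y⁻¹ * a y, hD y, rfl⟩)
    have hdp : ∀ t : L, (t⁻¹ * a t) ^ p ∈ Z := fun t => by
      rw [← QuotientGroup.eq_one_iff]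
      exact hQ (t : L ⧸ Z)
    -- `a` fixes `Φ` modulo `Z`
    have hΦ : frattini L ≤ dSub a Z := by
      rw [frattini_eq_closure hL hmc, closure_le]
      rintro _ ⟨t, rfl⟩
      show (t ^ p)⁻¹ * a (t ^ p) ∈ Z
      set d := t⁻¹ * a t with hd
      have hdc : t * d ^ p = d ^ p * t := by
        obtain ⟨k, hk⟩ := mem_zpowers_iff.mp (hdp t)
        rw [← hd] at hk
        rw [← hk, ((show Commute t z from hzc t).zpow_right k).eq]
      have hc : ⁅d, t⁆ ^ p = 1 := by
        rw [← commutatorElement_inv, inv_pow, commutator_pow_eq_one hL D hp2 hdc, inv_one]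
      rw [map_pow, show a t = t * d by rw [hd, mul_inv_cancel_left],
        mul_pow_p_of_comm hL D hp2 hc, inv_mul_cancel_left]
      exact hdp t
    set u := x⁻¹ * a x with hu
    obtain ⟨w, hwZ, hw⟩ : ∃ w ∈ Z, a u = u * w :=
      ⟨u⁻¹ * a u, hΦ (hD x), (mul_inv_cancel_left _ _).symm⟩
    have hwa : a w = w := by
      obtain ⟨k, rfl⟩ := mem_zpowers_iff.mp hwZ
      rw [map_zpow, hza]
    have hwc : ∀ g, Commute g w := fun g => by
      obtain ⟨k, rfl⟩ := mem_zpowers_iff.mp hwZ
      exact (show Commute g z from hzc g).zpow_right k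
    have hit : ∀ m : ℕ, (⇑a)^[m] x = x * u ^ m * w ^ m.choose 2 := by
      intro m
      induction m with
      | zero => simp
      | succ m ihm =>
        rw [Function.iterate_succ_apply', ihm, map_mul, map_mul, map_pow, map_pow, hw, hwa,
          (hwc u).mul_pow, show a x = x * u by rw [hu, mul_inv_cancel_left],
          show (m + 1).choose 2 = m + m.choose 2 by rw [Nat.choose_succ_succ' m 1, Nat.choose_one_right],
          pow_add w, pow_succ' u]
        simp only [mul_assoc]
    have h1 := hit p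
    rw [ha] at h1
    have hwp : w ^ p = 1 := by
      obtain ⟨k, rfl⟩ := mem_zpowers_iff.mp hwZ
      rw [← zpow_natCast, ← zpow_mul, mul_comm, zpow_mul, zpow_natCast,
        orderOf_dvd_iff_pow_eq_one.mp (dvd_of_eq hzo), one_zpow]
    obtain ⟨t, ht⟩ := hp.out.dvd_choose_self two_ne_zero (lt_of_le_of_ne hp.out.two_le (Ne.symm hp2))
    rw [ht, pow_mul, hwp, one_pow, mul_one] at h1
    exact mul_eq_left.mp h1.symm

/-- If `a` is trivial on the Frattini quotient, it fixes the Frattini subgroup. -/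
theorem fixes_frattini (hL : IsPGroup p L) (hp2 : p ≠ 2) (hmc : Cfsg.IsMetacyclic L) (a : MulAut L)
    (ha : ∀ x, (⇑a)^[p] x = x) (hD : ∀ x, x⁻¹ * a x ∈ frattini L) {v : L} (hv : v ∈ frattini L) :
    a v = v := by
  obtain ⟨N, D⟩ := exists_data hmc
  have h := trivial_case_aux _ le_rfl hL hp2 hmc a ha hD
  refine mem_dSub_iff_fixed.mp ?_
  have hle : frattini L ≤ dSub a (⊥ : Subgroup L) := by
    rw [frattini_eq_closure hL hmc, closure_le]
    rintro _ ⟨t, rfl⟩
    refine mem_dSub_iff_fixed.mpr ?_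
    set d := t⁻¹ * a t with hd
    have hc : ⁅d, t⁆ ^ p = 1 := by
      rw [← commutatorElement_inv, inv_pow,
        commutator_pow_eq_one hL D hp2 (by rw [h t, mul_one, one_mul]), inv_one]
    rw [map_pow, show a t = t * d by rw [hd, mul_inv_cancel_left],
      mul_pow_p_of_comm hL D hp2 hc, h t, mul_one]
  exact hle hv

section Moved

variable (h : Ctx p L) (a : MulAut L) (ha : ∀ x, (⇑a)^[p] x = x)
  (hU : dSub a (frattini L) ≠ ⊤)

include h ha hU

theorem nontrivial_of_moved : Nontrivial L := by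
  by_contra hn
  rw [not_nontrivial_iff_subsingleton] at hn
  exact hU ((eq_top_iff' _).mpr fun x => by rw [Subsingleton.elim x 1]; exact one_mem _)

theorem frattini_lt_U : frattini L < dSub a (frattini L) := by
  have := nontrivial_of_moved h a ha hU
  have hle : frattini L ≤ dSub a (frattini L) := fun v hv =>
    mul_mem (inv_mem hv) (map_mem_frattini a hv)
  refine lt_of_le_of_ne hle fun e => ?_
  have hnt : Nontrivial (L ⧸ frattini L) := Finite.one_lt_card_iff_nontrivial.mp
    (h.card_quotient ▸ Nat.one_lt_pow two_ne_zero hp.out.one_lt)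
  obtain ⟨q, -, hq1, hq⟩ := exists_fixed (h.hL.to_quotient (frattini L))
    (quotAut a (frattini L) fun v hv => map_mem_frattini a hv)
    (fun q => by
      obtain ⟨y, rfl⟩ := QuotientGroup.mk_surjective q
      rw [quotAut_iterate, ha]) ⊤ (fun _ _ => mem_top _) top_ne_bot
  obtain ⟨y, rfl⟩ := QuotientGroup.mk_surjective q
  have hy : y ∈ dSub a (frattini L) := QuotientGroup.eq.mp hq.symm
  exact hq1 ((QuotientGroup.eq_one_iff y).mpr (e.ge hy))

theorem index_U : (dSub a (frattini L)).index = p := by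
  have := nontrivial_of_moved h a ha hU
  have hlt := frattini_lt_U h a ha hU
  have hd := index_dvd_of_le hlt.le
  rw [index_eq_card (frattini L), h.card_quotient] at hd
  obtain ⟨i, hi, hidx⟩ := (Nat.dvd_prime_pow hp.out).mp hd
  rcases (show i = 0 ∨ i = 1 ∨ i = 2 by omega) with rfl | rfl | rfl
  · exact absurd (index_eq_one.mp (by simpa using hidx)) hU
  · rw [hidx, pow_one]
  · exfalso
    refine hlt.ne (eq_of_le_of_card_ge hlt.le ?_)
    have e1 := (dSub a (frattini L)).card_mul_index
    have e2 := (frattini L).card_mul_index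
    rw [hidx] at e1
    rw [index_eq_card, h.card_quotient, ← e1] at e2
    exact (Nat.eq_of_mul_eq_mul_right (pow_pos hp.out.pos 2) e2).ge

theorem D_mem_U (x : L) : x⁻¹ * a x ∈ dSub a (frattini L) := by
  set U := dSub a (frattini L)
  have hi := index_U h a ha hU
  have hn : U.Normal := PGroup.normal_of_index_eq_prime h.hL hi
  have hinv : ∀ y ∈ U, a y ∈ U := fun y hy => by
    show (a y)⁻¹ * a (a y) ∈ frattini L
    rw [← map_inv, ← map_mul]
    exact map_mem_frattini a hy
  have := fixed_of_card_prime (h.hL.to_quotient U) (quotAut a U hinv) (fun q => by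
    obtain ⟨y, rfl⟩ := QuotientGroup.mk_surjective q
    rw [quotAut_iterate, ha]) (by rw [← index_eq_card, hi]) (x : L ⧸ U)
  exact QuotientGroup.eq.mp this.symm

omit hU in
theorem quotAut_powHom (x : L) :
    quotAut a (pp L p) (fun _ hz => map_mem_pp a hz) (powHom h.hL h.hp2 h.hmc x) =
      powHom h.hL h.hp2 h.hmc x * powHom h.hL h.hp2 h.hmc (x⁻¹ * a x) := by
  rw [← map_mul, mul_inv_cancel_left]
  show ((a (x ^ p) : L) : L ⧸ pp L p) = _
  rw [map_pow]
  rfl

omit ha hU in
theorem powHom_eq_one {x : L} : powHom h.hL h.hp2 h.hmc x = 1 ↔ x ∈ frattini L :=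
  ⟨fun e => h.mem_frattini_of_pow ((QuotientGroup.eq_one_iff _).mp e),
    fun e => (QuotientGroup.eq_one_iff _).mpr (pow_mem_pp_of_mem_frattini h.hL h.hp2 h.hmc e)⟩

omit ha hU in
theorem exists_powHom_eq {v : L} (hv : v ∈ frattini L) :
    ∃ t, powHom h.hL h.hp2 h.hmc t = (v : L ⧸ pp L p) := by
  have : frattini L ≤ (powHom h.hL h.hp2 h.hmc).range.comap (QuotientGroup.mk' (pp L p)) := by
    rw [frattini_eq_closure h.hL h.hmc, closure_le]
    rintro _ ⟨t, rfl⟩
    exact ⟨t, rfl⟩
  exact this hv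

omit hU in
theorem powHom_fixed {u : L} (hu : u ∈ dSub a (frattini L)) :
    quotAut a (pp L p) (fun _ hz => map_mem_pp a hz) (powHom h.hL h.hp2 h.hmc u) =
      powHom h.hL h.hp2 h.hmc u := by
  rw [quotAut_powHom h a ha, (powHom_eq_one h).mpr hu, mul_one]

/-- The main computation. -/
theorem moved_main {x : L} (hx : x ∉ dSub a (frattini L)) :
    p = 3 ∧ quotAut a (pp L p) (fun _ hz => map_mem_pp a hz)
        (((x⁻¹ * a x)⁻¹ * a (x⁻¹ * a x) : L) : L ⧸ pp L p) ≠
      (((x⁻¹ * a x)⁻¹ * a (x⁻¹ * a x) : L) : L ⧸ pp L p) := by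
  set A := quotAut a (pp L p) (fun _ hz => map_mem_pp a hz) with hA
  set π := powHom h.hL h.hp2 h.hmc with hπ
  set u := x⁻¹ * a x with hu
  set v := u⁻¹ * a u with hv
  have huU : u ∈ dSub a (frattini L) := D_mem_U h a ha hU x
  have huF : u ∉ frattini L := hx
  have hvF : v ∈ frattini L := huU
  obtain ⟨t, ht⟩ := exists_powHom_eq h hvF
  set u₁ := t⁻¹ * a t
  have hu₁ : u₁ ∈ dSub a (frattini L) := D_mem_U h a ha hU t
  set Q := L ⧸ pp L p
  set X : Q := ↑x
  set U : Q := ↑u
  set V : Q := ↑v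
  set W : Q := π u₁
  have hAX : A X = X * U := by
    show ((a x : L) : Q) = _
    rw [← QuotientGroup.mk_mul, hu, mul_inv_cancel_left]
  have hAU : A U = U * V := by
    show ((a u : L) : Q) = _
    rw [← QuotientGroup.mk_mul, hv, mul_inv_cancel_left]
  have hAV : A V = V * W := by
    rw [show V = π t from ht.symm, hA, hπ, quotAut_powHom h a ha]
  have hAW : A W = W := powHom_fixed h a ha hu₁
  have hVc : ∀ q : Q, Commute V q := fun q => by
    obtain ⟨y, rfl⟩ := QuotientGroup.mk_surjective q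
    exact frattini_central h.hL h.hp2 h.hmc v y hvF
  have hWc : ∀ q : Q, Commute W q := fun q => by
    obtain ⟨y, rfl⟩ := QuotientGroup.mk_surjective q
    exact frattini_central h.hL h.hp2 h.hmc _ y (PGroup.pow_mem_frattini h.hL u₁)
  have hit : ∀ n : ℕ, A^[n] X = X * U ^ n * V ^ n.choose 2 * W ^ n.choose 3 := by
    intro n
    induction n with
    | zero => simp
    | succ n ih =>
      rw [Function.iterate_succ_apply', ih, map_mul, map_mul, map_mul, map_pow, map_pow, map_pow,
        hAX, hAU, hAV, hAW, ((hVc U).symm).mul_pow, ((hVc W)).mul_pow,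
        show (n + 1).choose 2 = n + n.choose 2 by rw [Nat.choose_succ_succ' n 1, Nat.choose_one_right],
        show (n + 1).choose 3 = n.choose 2 + n.choose 3 from Nat.choose_succ_succ' n 2,
        pow_add V, pow_add W, pow_succ' U]
      simp only [mul_assoc]
  have h1 := hit p
  have h2 : A^[p] X = X := by
    show (quotAut a (pp L p) _)^[p] (x : L ⧸ pp L p) = X
    rw [quotAut_iterate, ha]
  rw [h2] at h1
  have hVp : V ^ p = 1 := by
    show (v : Q) ^ p = 1
    rw [← QuotientGroup.mk_pow, QuotientGroup.eq_one_iff]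
    exact pow_mem_pp_of_mem_frattini h.hL h.hp2 h.hmc hvF
  have hWp : W ^ p = 1 := by
    show (((u₁ ^ p : L)) : Q) ^ p = 1
    rw [← QuotientGroup.mk_pow, QuotientGroup.eq_one_iff]
    exact subset_closure ⟨u₁, rfl⟩
  obtain ⟨k, hk⟩ := hp.out.dvd_choose_self two_ne_zero (lt_of_le_of_ne hp.out.two_le (Ne.symm h.hp2))
  rw [hk, pow_mul, hVp, one_pow, mul_one, mul_assoc, eq_comm, mul_eq_left] at h1
  have hUp : U ^ p ≠ 1 := fun e => huF ((powHom_eq_one h).mp (by
    rw [← e]; exact (QuotientGroup.mk_pow _ _ _)))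
  have hW1 : W ≠ 1 := fun e => hUp (by rwa [e, one_pow, mul_one] at h1)
  refine ⟨?_, fun e => hW1 (mul_eq_left.mp (hAV.symm.trans e))⟩
  by_contra hp3
  have h4 : 3 < p := by
    have := hp.out.two_le
    have := h.hp2
    omega
  obtain ⟨k3, hk3⟩ := hp.out.dvd_choose_self (by norm_num : (3 : ℕ) ≠ 0) h4
  rw [hk3, pow_mul, hWp, one_pow, mul_one] at h1
  exact hUp h1

/-- Fixed points lie in the Frattini subgroup. -/
theorem fixed_mem_frattini {c : L} (hc : a c = c) : c ∈ frattini L := by
  by_contra hcF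
  have := nontrivial_of_moved h a ha hU
  set U := dSub a (frattini L) with hUdef
  have hcU : c ∈ U := by rw [hUdef, mem_dSub, hc, inv_mul_cancel]; exact one_mem _
  have hUeq : zpowers c ⊔ frattini L = U := by
    have hle : zpowers c ⊔ frattini L ≤ U :=
      sup_le (zpowers_le.mpr hcU) (frattini_lt_U h a ha hU).le
    refine (eq_of_between h.hL (F := ⊤) (K := frattini L) ?_ ?_ hle (lt_top_iff_ne_top.mpr hU)).symm
    · rw [card_top, card_eq_card_quotient_mul_card_subgroup (frattini L), h.card_quotient]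
    · exact lt_of_le_of_ne le_sup_right fun e => hcF (e.ge (mem_sup_left (mem_zpowers c)))
  obtain ⟨x, hx⟩ : ∃ x, x ∉ U := by
    by_contra! hall
    exact hU ((eq_top_iff' U).mpr hall)
  set u := x⁻¹ * a x with hu
  obtain ⟨c', hc', φ, hφ, hcu⟩ := mem_sup_of_normal_right.mp (hUeq.ge (D_mem_U h a ha hU x))
  have hac' : a c' = c' := by
    obtain ⟨k, rfl⟩ := mem_zpowers_iff.mp hc'
    rw [map_zpow, hc]
  have hv : u⁻¹ * a u = φ⁻¹ * a φ := by
    rw [← hu] at hcu
    rw [← hcu, map_mul, hac']; group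
  apply (moved_main h a ha hU hx).2
  rw [← hu, hv]
  obtain ⟨t, ht⟩ := exists_powHom_eq h hφ
  set A := quotAut a (pp L p) (fun _ hz => map_mem_pp a hz) with hA
  have h1 : ((φ⁻¹ * a φ : L) : L ⧸ pp L p) = powHom h.hL h.hp2 h.hmc (t⁻¹ * a t) := by
    rw [QuotientGroup.mk_mul, QuotientGroup.mk_inv, inv_mul_eq_iff_eq_mul]
    show A (φ : L ⧸ pp L p) = _
    rw [← ht, hA, quotAut_powHom h a ha]
  rw [h1]
  exact powHom_fixed h a ha (D_mem_U h a ha hU t)

end Moved

theorem card_frattini_eq (h : Ctx p L) [Nontrivial L] :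
    Nat.card (frattini L) = p ^ 2 * Nat.card (pp L p) := by
  set π := powHom h.hL h.hp2 h.hmc with hπ
  have hker : π.ker = frattini L := by
    ext x; rw [MonoidHom.mem_ker, powHom_eq_one h]
  have hrange : π.range = (frattini L).map (QuotientGroup.mk' (pp L p)) := by
    refine le_antisymm ?_ ?_
    · rintro _ ⟨t, rfl⟩
      exact ⟨t ^ p, PGroup.pow_mem_frattini h.hL t, rfl⟩
    · rintro _ ⟨v, hv, rfl⟩
      exact exists_powHom_eq h hv
  have h1 : Nat.card π.range = p ^ 2 := by
    rw [← index_ker, hker, index_eq_card, h.card_quotient]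
  have hle : pp L p ≤ frattini L := by
    rw [pp, closure_le]
    rintro _ ⟨t, rfl⟩
    exact pow_mem (PGroup.pow_mem_frattini h.hL t) p
  set g := (QuotientGroup.mk' (pp L p)).comp (frattini L).subtype
  have hg : Nat.card g.range = p ^ 2 := by
    rw [show g.range = π.range by rw [hrange, MonoidHom.range_comp, range_subtype], h1]
  have hgk : g.ker = (pp L p).subgroupOf (frattini L) := by
    ext y
    rw [MonoidHom.mem_ker, mem_subgroupOf]
    exact QuotientGroup.eq_one_iff _
  rw [← g.ker.card_mul_index, index_ker, hg, hgk,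
    Nat.card_congr (subgroupOfEquivOfLe hle).toEquiv, mul_comm]

/-- The number of fixed points is `p`. -/
theorem card_fixed_aux : ∀ (n : ℕ) {L : Type u} [Group L] [Finite L], Nat.card L ≤ n → Ctx p L →
    ∀ a : MulAut L, (∀ x, (⇑a)^[p] x = x) → dSub a (frattini L) ≠ ⊤ →
      Nat.card (dSub a (⊥ : Subgroup L)) = p := by
  intro n
  induction n with
  | zero => intro L _ _ hn; exact absurd hn (by have := Nat.card_pos (α := L); omega)
  | succ n ih =>
    intro L _ _ hn h a ha hU
    have := nontrivial_of_moved h a ha hU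
    set C := dSub a (⊥ : Subgroup L) with hC
    have hCF : C ≤ frattini L := fun c hc => fixed_mem_frattini h a ha hU (mem_dSub_iff_fixed.mp hc)
    have hC1 : C ≠ ⊥ := fun e => by
      obtain ⟨z, -, hz1, hz⟩ := exists_fixed h.hL a ha ⊤ (fun _ _ => mem_top _) top_ne_bot
      have : z ∈ C := mem_dSub_iff_fixed.mpr hz
      rw [e, mem_bot] at this
      exact hz1 this
    obtain ⟨x, hx⟩ : ∃ x, x ∉ dSub a (frattini L) := by
      by_contra! hall
      exact hU ((eq_top_iff' _).mpr hall)
    set u := x⁻¹ * a x with hudef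
    set v := u⁻¹ * a u with hvdef
    have hFinv : ∀ y ∈ frattini L, a y ∈ frattini L := fun y hy => map_mem_frattini a hy
    have hKinv : ∀ y ∈ pp L p, a y ∈ pp L p := fun y hy => map_mem_pp a hy
    have hKF : pp L p ≤ frattini L := by
      rw [pp, closure_le]
      rintro _ ⟨t, rfl⟩
      exact pow_mem (PGroup.pow_mem_frattini h.hL t) p
    have hxp : (x ^ p)⁻¹ * a (x ^ p) ∉ pp L p := by
      intro hmem
      have h1 : ((a (x ^ p) : L) : L ⧸ pp L p) = ((x ^ p : L) : L ⧸ pp L p) :=
        (QuotientGroup.eq.mpr hmem).symm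
      have h2 := quotAut_powHom h a ha x
      change ((a (x ^ p) : L) : L ⧸ pp L p) = _ at h2
      rw [h1] at h2
      exact hx ((powHom_eq_one h).mp (mul_eq_left.mp h2.symm))
    have hmcF : Cfsg.IsMetacyclic.{_} (frattini L) :=
      isMetacyclic_of_injective (frattini L).subtype (frattini L).subtype_injective h.hmc
    by_cases hncF : ∀ Y : Subgroup (frattini L), IsCyclic Y → Y.index ≠ p
    · rw [← card_fixed_le_frattini a (fun y hy => fixed_mem_frattini h a ha hU hy) hFinv]
      refine ih ?_ ⟨h.hL.to_subgroup _, h.hp2, hmcF, hncF⟩ (subAut a (frattini L) hFinv)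
        (fun y => Subtype.ext (by rw [subAut_iterate, ha])) ?_
      · have h1 := card_eq_card_quotient_mul_card_subgroup (frattini L)
        rw [h.card_quotient] at h1
        have h2 : 2 * Nat.card (frattini L) ≤ p ^ 2 * Nat.card (frattini L) :=
          Nat.mul_le_mul_right _ ((Nat.le_self_pow two_ne_zero p).trans' hp.out.two_le)
        have h3 : 0 < Nat.card (frattini L) := Nat.card_pos
        omega
      · intro htop
        have hsub : frattini ↥(frattini L) ≤ (pp L p).subgroupOf (frattini L) := by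
          refine PGroup.frattini_le_of_quotient (p := p) ?_ fun y =>
            pow_mem_pp_of_mem_frattini h.hL h.hp2 h.hmc y.2
          rw [_root_.commutator_def, commutator_le]
          intro y _ z _
          rw [mem_subgroupOf, ← QuotientGroup.eq_one_iff]
          show QuotientGroup.mk' (pp L p) ((⁅y, z⁆ : frattini L) : L) = 1
          rw [show ((⁅y, z⁆ : frattini L) : L) = ⁅(y : L), (z : L)⁆ from
            map_commutatorElement (frattini L).subtype y z, map_commutatorElement]
          exact (frattini_central h.hL h.hp2 h.hmc _ _ y.2).commutator_eq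
        exact hxp (hsub (htop.ge (mem_top (⟨x ^ p, PGroup.pow_mem_frattini h.hL x⟩ : frattini L))))
    push Not at hncF
    obtain ⟨Y, hYc, hYi⟩ := hncF
    -- the elements of order `p`
    obtain ⟨W, hW, hWmem⟩ := OddLocal43.exists_omega_of_metacyclic h.hp2 h.hL h.hmc
    obtain ⟨E, -, hEp, hEcard⟩ := OddLocal43.exists_elementary_of_not_isCyclic (G := L) (R := ⊤)
      h.hp2 (h.hL.to_subgroup ⊤) (fun e => h.not_cyclic ((topEquiv (G := L)).isCyclic.mp e))
    have hEW : E = W := eq_of_le_of_card_ge (fun e he => hWmem e (hEp e he)) (hEcard ▸ hW)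
    have hEmem : ∀ g : L, g ^ p = 1 → g ∈ E := fun g hg => hEW ▸ hWmem g hg
    have hEF : E ≤ frattini L := fun e he =>
      h.mem_frattini_of_pow (by rw [hEp e he]; exact one_mem _)
    have hEinv : ∀ e ∈ E, a e ∈ E := fun e he => hEmem _ (by rw [← map_pow, hEp e he, map_one])
    have hCE_done : C ≤ E → ¬ E ≤ C → Nat.card C = p := fun h1 h2 =>
      card_eq_prime_of_lt h.hL hEcard h1 hC1 fun e => h2 e.ge
    have hYn : Y.Normal := PGroup.normal_of_index_eq_prime (h.hL.to_subgroup _) hYi
    set K := pp L p with hKdef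
    have hKY : K ≤ Y.map (frattini L).subtype := by
      rw [hKdef, pp, closure_le]
      rintro _ ⟨t, rfl⟩
      refine ⟨(⟨t ^ p, PGroup.pow_mem_frattini h.hL t⟩ : frattini L) ^ p, ?_, rfl⟩
      have h5 := pow_index_mem Y (⟨t ^ p, PGroup.pow_mem_frattini h.hL t⟩ : frattini L)
      rwa [hYi] at h5
    have hKc : IsCyclic K := by
      have : IsCyclic (Y.map (frattini L).subtype) :=
        isCyclic_of_surjective _ ((frattini L).subtype.subgroupMap_surjective Y)
      exact (subgroupOfEquivOfLe hKY).isCyclic.mp inferInstance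
    obtain ⟨⟨g, hgK⟩, hggen⟩ := hKc.exists_generator
    have hgpow : ∀ k ∈ K, ∃ i : ℤ, g ^ i = k := fun k hk => by
      obtain ⟨i, hi⟩ := mem_zpowers_iff.mp (hggen ⟨k, hk⟩)
      exact ⟨i, by simpa using congrArg Subtype.val hi⟩
    by_cases hg1 : g = 1
    · have hKb : ∀ k ∈ K, k = 1 := fun k hk => by
        obtain ⟨i, rfl⟩ := hgpow k hk; rw [hg1, one_zpow]
      have hFE : frattini L ≤ E := fun y hy =>
        hEmem y (hKb _ (pow_mem_pp_of_mem_frattini h.hL h.hp2 h.hmc hy))
      refine hCE_done (hCF.trans hFE) fun hle => hxp ?_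
      rw [mem_dSub_iff_fixed.mp (hle (hFE (PGroup.pow_mem_frattini h.hL x))), inv_mul_cancel]
      exact one_mem _
    -- the `p`-th powers of `K`
    set R := zpowers (g ^ p) with hR
    have hRK : R ≤ K := zpowers_le.mpr (pow_mem hgK p)
    have hpowR : ∀ k ∈ K, k ^ p ∈ R := fun k hk => by
      obtain ⟨i, rfl⟩ := hgpow k hk
      exact mem_zpowers_iff.mpr ⟨i, by
        rw [← zpow_natCast (g ^ i), ← zpow_natCast g, ← zpow_mul, ← zpow_mul, mul_comm]⟩
    have hRn : R.Normal := ⟨fun r hr y => by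
      obtain ⟨i, rfl⟩ := mem_zpowers_iff.mp hr
      rw [show y * (g ^ p) ^ i * y⁻¹ = ((y * g * y⁻¹) ^ p) ^ i by rw [conj_pow, conj_zpow]]
      exact zpow_mem (hpowR _ ((pp_normal (L := L) (p := p)).conj_mem g hgK y)) i⟩
    have hgne : g ∉ R := fun hmem => by
      obtain ⟨i, hi⟩ := mem_zpowers_iff.mp hmem
      have h1 : g ^ ((p : ℤ) * i - 1) = 1 := by
        rw [zpow_sub, zpow_one, zpow_mul, zpow_natCast, hi, mul_inv_cancel]
      obtain ⟨e, he⟩ := h.hL.exists_orderOf_eq_pow g
      rcases Nat.eq_zero_or_pos e with rfl | h0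
      · exact hg1 (orderOf_eq_one_iff.mp (by simpa using he))
      have h2 : (p : ℤ) ∣ (p : ℤ) * i - 1 :=
        (Int.natCast_dvd_natCast.mpr (he ▸ dvd_pow_self p h0.ne')).trans
          (orderOf_dvd_iff_zpow_eq_one.mpr h1)
      have h3 : (p : ℤ) ∣ 1 := by simpa using dvd_sub (dvd_mul_right (p : ℤ) i) h2
      exact hp.out.one_lt.ne' (by exact_mod_cast Int.eq_one_of_dvd_one (by positivity) h3)
    -- the subgroup `X = E K`
    set X := E ⊔ K with hX
    have hXF : X ≤ frattini L := sup_le hEF hKF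
    have hKX : K < X := by
      refine lt_of_le_of_ne le_sup_right fun e => ?_
      have hEK : E ≤ K := e ▸ le_sup_left
      have : IsCyclic E := (subgroupOfEquivOfLe hEK).isCyclic.mp inferInstance
      obtain ⟨e', he'⟩ := IsCyclic.exists_ofOrder_eq_natCard (α := E)
      have h1 : orderOf e' ∣ p :=
        orderOf_dvd_of_pow_eq_one (Subtype.ext (hEp e' e'.2))
      rw [he', hEcard] at h1
      have := Nat.le_of_dvd hp.out.pos h1
      nlinarith [hp.out.two_le]
    have hXlt : X < frattini L := by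
      refine lt_of_le_of_ne hXF fun e => hg1 ?_
      have htop : E.subgroupOf (frattini L) ⊔ K.subgroupOf (frattini L) = ⊤ := by
        rw [← subgroupOf_sup hEF hKF, ← hX, e, subgroupOf_self]
      have hK2 : K.subgroupOf (frattini L) ≤ frattini ↥(frattini L) := by
        have h2 : K ≤ (frattini ↥(frattini L)).map (frattini L).subtype := by
          rw [hKdef, pp, closure_le]
          rintro _ ⟨t, rfl⟩
          exact ⟨(⟨t ^ p, PGroup.pow_mem_frattini h.hL t⟩ : frattini L) ^ p,
            PGroup.pow_mem_frattini (h.hL.to_subgroup _) _, rfl⟩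
        intro y hy
        obtain ⟨z, hz, hzy⟩ := h2 (mem_subgroupOf.mp hy)
        rwa [← (Subtype.ext hzy : z = y)]
      have hEtop : E.subgroupOf (frattini L) = ⊤ :=
        frattini_nongenerating (eq_top_iff.mpr (htop.ge.trans (sup_le_sup_left hK2 _)))
      have hFE : frattini L ≤ E := subgroupOf_eq_top.mp hEtop
      have hKb : K = ⊥ := by
        rw [eq_bot_iff, hKdef, pp, closure_le]
        rintro _ ⟨t, rfl⟩
        exact mem_bot.mpr (hEp _ (hFE (PGroup.pow_mem_frattini h.hL t)))
      exact mem_bot.mp (hKb ▸ hgK)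
    have hcardF := card_frattini_eq h
    -- `a` is trivial on `X/K`
    have hXinv : ∀ y ∈ X, a y ∈ X := by
      intro y hy
      have hle : X.map a.toMonoidHom ≤ X := by
        rw [hX, Subgroup.map_sup]
        refine sup_le_sup ?_ ?_
        · rintro _ ⟨e, he, rfl⟩; exact hEinv e he
        · rintro _ ⟨k, hk, rfl⟩; exact hKinv k hk
      exact hle ⟨y, hy, rfl⟩
    have hXK : ∀ y ∈ X, y⁻¹ * a y ∈ K := by
      intro y hy
      have : (K.subgroupOf X).Normal := inferInstance
      have hinv' : ∀ z ∈ K.subgroupOf X, subAut a X hXinv z ∈ K.subgroupOf X := fun z hz => hKinv _ hz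
      have hcard : Nat.card (X ⧸ K.subgroupOf X) = p := by
        obtain ⟨b, hb⟩ := IsPGroup.iff_card.mp (h.hL.to_subgroup X)
        obtain ⟨k, hk⟩ := IsPGroup.iff_card.mp (h.hL.to_subgroup K)
        have e1 := card_eq_card_quotient_mul_card_subgroup (K.subgroupOf X)
        rw [Nat.card_congr (subgroupOfEquivOfLe hKX.le).toEquiv, hb, hk] at e1
        have l1 : Nat.card K < Nat.card X :=
          lt_of_le_of_ne (card_le_of_le hKX.le) fun e => hKX.ne (eq_of_le_of_card_ge hKX.le e.ge)
        have l2 : Nat.card X < Nat.card (frattini L) :=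
          lt_of_le_of_ne (card_le_of_le hXlt.le) fun e => hXlt.ne (eq_of_le_of_card_ge hXlt.le e.ge)
        rw [hk, hb, Nat.pow_lt_pow_iff_right hp.out.one_lt] at l1
        rw [hcardF, hk, hb, ← pow_add, Nat.pow_lt_pow_iff_right hp.out.one_lt] at l2
        rw [show b = 1 + k by omega, pow_add, pow_one] at e1
        exact (Nat.eq_of_mul_eq_mul_right (pow_pos hp.out.pos k) e1).symm
      have := fixed_of_card_prime ((h.hL.to_subgroup X).to_quotient _)
        (quotAut (subAut a X hXinv) (K.subgroupOf X) hinv') (fun q => by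
          obtain ⟨z, rfl⟩ := QuotientGroup.mk_surjective q
          rw [quotAut_iterate]
          exact congrArg _ (Subtype.ext (by rw [subAut_iterate, ha]))) hcard
        ((⟨y, hy⟩ : X) : X ⧸ K.subgroupOf X)
      exact mem_subgroupOf.mp (QuotientGroup.eq.mp this.symm)
    have hF1 : frattini L ⊓ dSub a K = X := by
      refine eq_of_between h.hL hcardF hKX (le_inf hXF hXK) (lt_of_le_of_ne inf_le_left fun e => hxp ?_)
      exact (e.ge (PGroup.pow_mem_frattini h.hL x)).2
    -- the key contradiction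
    have key : E ≤ dSub a R → False := by
      intro hER
      have hKR : K ≤ dSub a R := by
        have : IsCyclic K := hKc
        obtain ⟨i, hi⟩ := cyclic_aut (h.hL.to_subgroup K) (subAut a K hKinv).toMonoidHom 1
          (fun z => Subtype.ext (by
            rw [pow_one]
            show (((subAut a K hKinv))^[p] z : L) = _
            rw [subAut_iterate, ha]))
        intro k hk
        have e1 : a k = k * (k ^ p) ^ i := by simpa [subAut] using congrArg Subtype.val (hi ⟨k, hk⟩)
        show k⁻¹ * a k ∈ R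
        rw [e1, inv_mul_cancel_left]
        exact zpow_mem (hpowR k hk) i
      have hXR : X ≤ dSub a R := sup_le hER hKR
      obtain ⟨N, D⟩ := exists_data h.hmc
      have hcommR : ∀ s t : L, s ∈ frattini L → ⁅t, s⁆ ^ p ∈ R := fun s t hs =>
        hpowR _ (by
          rw [← QuotientGroup.eq_one_iff]
          show QuotientGroup.mk' K ⁅t, s⁆ = 1
          rw [map_commutatorElement]
          exact (frattini_central h.hL h.hp2 h.hmc s t hs).symm.commutator_eq)
      have hmul : ∀ s t : L, s ∈ frattini L →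
          (((t * s) ^ p : L) : L ⧸ R) = ((t ^ p : L) : L ⧸ R) * ((s ^ p : L) : L ⧸ R) := fun s t hs => by
        rw [← QuotientGroup.mk_mul]
        refine (QuotientGroup.eq.mpr ?_).symm
        refine zpowers_le.mpr ?_ (mul_pow_p h.hL D h.hp2 t s)
        rw [← commutatorElement_inv t s, inv_pow]
        exact inv_mem (hcommR s t hs)
      let M2 : Subgroup L :=
        { carrier := {t | t ∈ frattini L ∧ ((t ^ p : L) : L ⧸ R) = 1}
          one_mem' := ⟨one_mem _, by simp⟩
          mul_mem' := fun {s t} hs ht => ⟨mul_mem hs.1 ht.1, by rw [hmul t s ht.1, hs.2, ht.2, one_mul]⟩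
          inv_mem' := fun {s} hs => ⟨inv_mem hs.1, by rw [inv_pow, QuotientGroup.mk_inv, hs.2, inv_one]⟩ }
      have hXM2 : X ≤ M2 := sup_le
        (fun e he => ⟨hEF he, by rw [hEp e he, QuotientGroup.mk_one]⟩)
        (fun k hk => ⟨hKF hk, (QuotientGroup.eq_one_iff _).mpr (hpowR k hk)⟩)
      have hM2 : M2 = X := by
        refine eq_of_between h.hL hcardF hKX hXM2 (lt_of_le_of_ne (fun t ht => ht.1) fun e => hgne ?_)
        have : K ≤ R := by
          rw [hKdef, pp, closure_le]
          rintro _ ⟨t, rfl⟩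
          exact (QuotientGroup.eq_one_iff _).mp (e.ge (PGroup.pow_mem_frattini h.hL t)).2
        exact this hgK
      have huU : u ∈ dSub a (frattini L) := D_mem_U h a ha hU x
      have hupX : u ^ p ∈ X := by
        rw [← hF1]
        exact ⟨PGroup.pow_mem_frattini h.hL u, QuotientGroup.eq.mp (powHom_fixed h a ha huU).symm⟩
      have hvp : ((v ^ p : L) : L ⧸ R) = 1 := by
        have h1 := hXR hupX
        have h2 : a (u ^ p) = (u * v) ^ p := by rw [map_pow, hvdef, mul_inv_cancel_left]
        rw [mem_dSub, h2, ← QuotientGroup.eq_one_iff, QuotientGroup.mk_mul, QuotientGroup.mk_inv,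
          hmul v u huU, inv_mul_cancel_left] at h1
        exact h1
      have hvX : v ∈ X := hM2 ▸ (⟨huU, hvp⟩ : v ∈ M2)
      exact (moved_main h a ha hU hx).2 (QuotientGroup.eq.mpr (hXK v hvX)).symm
    by_cases hgp : g ^ p = 1
    · have hKE : K ≤ E := fun k hk => hEmem k (by
        obtain ⟨i, rfl⟩ := hgpow k hk
        rw [← zpow_natCast, ← zpow_mul, mul_comm, zpow_mul, zpow_natCast, hgp, one_zpow])
      have hXE : X = E := sup_eq_left.mpr hKE
      refine hCE_done ?_ fun hle => key fun e he => ?_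
      · intro c hc
        rw [← hXE, ← hF1]
        refine ⟨hCF hc, ?_⟩
        show c⁻¹ * a c ∈ K
        rw [mem_dSub_iff_fixed.mp hc, inv_mul_cancel]; exact one_mem _
      · show e⁻¹ * a e ∈ R
        rw [mem_dSub_iff_fixed.mp (hle he), inv_mul_cancel]; exact one_mem _
    · exfalso
      refine key fun e he => ?_
      show e⁻¹ * a e ∈ R
      have hd1 : e⁻¹ * a e ∈ K := hXK e (mem_sup_left he)
      have hd2 : (e⁻¹ * a e) ^ p = 1 := hEp _ (mul_mem (inv_mem he) (hEinv e he))
      obtain ⟨i, hi⟩ := hgpow _ hd1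
      rw [← hi] at hd2 ⊢
      obtain ⟨m, hm⟩ := h.hL.exists_orderOf_eq_pow g
      have hm2 : 2 ≤ m := by
        by_contra hlt
        exact hgp (orderOf_dvd_iff_pow_eq_one.mp (by
          rw [hm]; exact (pow_dvd_pow p (show m ≤ 1 by omega)).trans (pow_one p).dvd))
      have h3 : ((p : ℤ) * p) ∣ i * p := by
        refine dvd_trans ?_ ((orderOf_dvd_iff_zpow_eq_one (x := g) (i := i * p)).mpr (by
          rw [zpow_mul, zpow_natCast]; exact hd2))
        rw [hm]
        push_cast
        exact (pow_two (p : ℤ)).symm.dvd.trans (pow_dvd_pow _ hm2)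
      obtain ⟨j, rfl⟩ : (p : ℤ) ∣ i :=
        Int.dvd_of_mul_dvd_mul_right (by exact_mod_cast hp.out.ne_zero) h3
      rw [zpow_mul, zpow_natCast]
      exact zpow_mem (mem_zpowers _) j

end Cfsg.Agent.FGS77.Metacyclic
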