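import Cfsg.Prelude.Def_OddOrderLocal
import Cfsg.Agent.Lib.PGroup.Basic

/-!
# Metacyclic `p`-groups, `p` odd: power facts (for S4079)
-/

set_option autoImplicit false

open Subgroup
open scoped commutatorElement

namespace Cfsg.Agent.FGS77.Metacyclic

variable {L : Type*} [Group L] {p : ℕ} [hp : Fact p.Prime]

/-- An automorphism of `p`-power order of a cyclic `p`-group is congruent to the identity mod `p`. -/
theorem cyclic_aut [Finite L] (hL : IsPGroup p L) [IsCyclic L] (f : L →* L) (j : ℕ)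
    (hf : ∀ x, f^[p ^ j] x = x) : ∃ i : ℤ, ∀ c, f c = c * (c ^ p) ^ i := by
  obtain ⟨k, hk⟩ := MonoidHom.map_cyclic f
  obtain ⟨g, hg⟩ := IsCyclic.exists_generator (α := L)
  by_cases hg1 : g = 1
  · refine ⟨0, fun c => ?_⟩
    obtain ⟨t, rfl⟩ := mem_zpowers_iff.mp (hg c)
    simp [hg1]
  have hit : ∀ n : ℕ, f^[n] g = g ^ (k ^ n) := by
    intro n
    induction n with
    | zero => simp
    | succ n ih => rw [Function.iterate_succ_apply', ih, map_zpow, hk, ← zpow_mul, pow_succ']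
  have h1 : g ^ (k ^ p ^ j - 1) = 1 := by
    rw [zpow_sub, ← hit, hf, zpow_one, mul_inv_cancel]
  obtain ⟨e, he⟩ := hL.exists_orderOf_eq_pow g
  have he0 : e ≠ 0 := by
    rintro rfl
    exact hg1 (orderOf_eq_one_iff.mp (by simpa using he))
  have h2 : (p : ℤ) ∣ k ^ p ^ j - 1 :=
    (Int.natCast_dvd_natCast.mpr (by rw [he]; exact dvd_pow_self p he0)).trans
      (orderOf_dvd_iff_zpow_eq_one.mpr h1)
  have h3 : (p : ℤ) ∣ k - 1 := by
    rw [← ZMod.intCast_zmod_eq_zero_iff_dvd] at h2 ⊢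
    push_cast at h2 ⊢
    rwa [ZMod.pow_card_pow] at h2
  obtain ⟨i, hi⟩ := h3
  refine ⟨i, fun c => ?_⟩
  rw [hk, show k = 1 + p * i by linarith, zpow_add, zpow_one, zpow_mul, zpow_natCast]

theorem iterate_conj (g x : L) : ∀ n : ℕ, (fun y => g * y * g⁻¹)^[n] x = g ^ n * x * (g ^ n)⁻¹ := by
  intro n
  induction n with
  | zero => simp
  | succ n ih => rw [Function.iterate_succ_apply', ih]; group

/-- The data: a cyclic normal subgroup with cyclic quotient. -/
structure Data (L : Type*) [Group L] (N : Subgroup L) : Prop where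
  normal : N.Normal
  cyclic : IsCyclic N
  comm : ∀ x y : L, ⁅x, y⁆ ∈ N
  two_gen : ∃ n y : L, n ∈ N ∧ zpowers n = N ∧ closure {n, y} = ⊤

theorem exists_data (hmc : Cfsg.IsMetacyclic L) : ∃ N : Subgroup L, Data L N := by
  obtain ⟨N, hN, hNc, hQc⟩ := hmc
  refine ⟨N, ⟨hN, hNc, fun x y => ?_, ?_⟩⟩
  · rw [← QuotientGroup.eq_one_iff]
    show QuotientGroup.mk' N ⁅x, y⁆ = 1
    rw [map_commutatorElement, commutatorElement_eq_one_iff_mul_comm]
    exact hQc.isMulCommutative.is_comm.comm _ _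
  · obtain ⟨⟨n, hn⟩, hgen⟩ := hNc.exists_generator
    obtain ⟨q, hq⟩ := hQc.exists_generator
    obtain ⟨y, rfl⟩ := QuotientGroup.mk_surjective q
    have hN' : zpowers n = N := by
      refine le_antisymm (zpowers_le.mpr hn) fun c hc => ?_
      obtain ⟨t, ht⟩ := mem_zpowers_iff.mp (hgen ⟨c, hc⟩)
      exact mem_zpowers_iff.mpr ⟨t, by simpa using congrArg Subtype.val ht⟩
    refine ⟨n, y, hn, hN', eq_top_iff.mpr fun g _ => ?_⟩
    obtain ⟨t, ht⟩ := mem_zpowers_iff.mp (hq (g : L ⧸ N))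
    rw [← QuotientGroup.mk_zpow, QuotientGroup.eq] at ht
    have : g = y ^ t * ((y ^ t)⁻¹ * g) := by group
    rw [this]
    refine mul_mem (zpow_mem (subset_closure (by simp)) t) ?_
    rw [← hN'] at ht
    exact zpowers_le.mpr (subset_closure (by simp)) ht

theorem isMetacyclic_of_injective {H : Type*} [Group H] (f : H →* L) (hf : Function.Injective f)
    (hmc : Cfsg.IsMetacyclic L) : Cfsg.IsMetacyclic.{_} H := by
  obtain ⟨N, hN, hNc, hQc⟩ := hmc
  refine ⟨N.comap f, hN.comap f,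
    isCyclic_of_injective ((f.comp (N.comap f).subtype).codRestrict N fun x => x.2)
      (fun a b h => Subtype.ext (hf (congrArg Subtype.val h))), ?_⟩
  refine isCyclic_of_injective (QuotientGroup.map (N.comap f) N f le_rfl) ?_
  rw [← MonoidHom.ker_eq_bot_iff, eq_bot_iff]
  intro q hq
  obtain ⟨x, rfl⟩ := QuotientGroup.mk'_surjective _ q
  rw [MonoidHom.mem_ker, QuotientGroup.mk'_apply, QuotientGroup.map_mk, QuotientGroup.eq_one_iff] at hq
  exact mem_bot.mpr ((QuotientGroup.eq_one_iff x).mpr hq)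

theorem isMetacyclic_of_surjective {H : Type*} [Group H] (f : L →* H) (hf : Function.Surjective f)
    (hmc : Cfsg.IsMetacyclic L) : Cfsg.IsMetacyclic.{_} H := by
  obtain ⟨N, hN, hNc, hQc⟩ := hmc
  have hM := hN.map f hf
  refine ⟨N.map f, hM, isCyclic_of_surjective (f.subgroupMap N) (f.subgroupMap_surjective N), ?_⟩
  refine isCyclic_of_surjective (QuotientGroup.map N (N.map f) f (le_comap_map f N)) fun q => ?_
  obtain ⟨x, rfl⟩ := QuotientGroup.mk_surjective q
  obtain ⟨y, rfl⟩ := hf x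
  exact ⟨(y : L ⧸ N), rfl⟩

/-- Collection with a central commutator. -/
theorem mul_pow_central {x d : L} (hx : Commute ⁅d, x⁆ x) (hd : Commute ⁅d, x⁆ d) (n : ℕ) :
    (x * d) ^ n = x ^ n * d ^ n * ⁅d, x⁆ ^ (n.choose 2) := by
  set c := ⁅d, x⁆ with hc
  have hsw : d * x = c * (x * d) := by rw [hc, commutatorElement_def]; group
  have hsw' : ∀ m : ℕ, d ^ m * x = c ^ m * (x * d ^ m) := by
    intro m
    induction m with
    | zero => simp
    | succ m ih =>
      calc d ^ (m + 1) * x = d ^ m * (d * x) := by rw [pow_succ, mul_assoc]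
        _ = d ^ m * c * x * d := by rw [hsw]; simp only [mul_assoc]
        _ = c * (d ^ m * x) * d := by rw [(hd.pow_right m).eq.symm]; simp only [mul_assoc]
        _ = c * (c ^ m * (x * d ^ m)) * d := by rw [ih]
        _ = c ^ (m + 1) * (x * d ^ (m + 1)) := by
            rw [pow_succ' c, pow_succ d]; simp only [mul_assoc]
  induction n with
  | zero => simp
  | succ n ih =>
    have hxd : Commute c (x * d) := hx.mul_right hd
    calc (x * d) ^ (n + 1) = x ^ n * d ^ n * c ^ n.choose 2 * (x * d) := by rw [pow_succ, ih]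
      _ = x ^ n * (d ^ n * x) * d * c ^ n.choose 2 := by
          rw [mul_assoc, (hxd.pow_left _).eq]; simp only [mul_assoc]
      _ = x ^ n * (c ^ n * (x * d ^ n)) * d * c ^ n.choose 2 := by rw [hsw']
      _ = x ^ (n + 1) * d ^ (n + 1) * (c ^ n * c ^ n.choose 2) := by
          have h2 : Commute (c ^ n) (x * d ^ n * d) :=
            ((hx.mul_right (hd.pow_right n)).mul_right hd).pow_left n
          rw [pow_succ x, pow_succ d]
          simp only [← mul_assoc] at h2 ⊢
          rw [mul_assoc (x ^ n) (c ^ n) x, mul_assoc (x ^ n), mul_assoc (x ^ n)]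
          simp only [mul_assoc] at h2 ⊢
          rw [← mul_assoc (c ^ n) x, ← mul_assoc x (d ^ n), ← mul_assoc (c ^ n * x)]
          rw [show c ^ n * x * d ^ n * (d * c ^ n.choose 2) = (c ^ n * (x * (d ^ n * d))) * c ^ n.choose 2
            by simp only [mul_assoc], h2.eq]
          simp only [mul_assoc]
      _ = x ^ (n + 1) * d ^ (n + 1) * c ^ (n + 1).choose 2 := by
          rw [← pow_add, Nat.choose_succ_succ' n 1, Nat.choose_one_right]

variable [Finite L] {N : Subgroup L}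

theorem conj_mem (hL : IsPGroup p L) (D : Data L N) (g : L) :
    ∃ i : ℤ, ∀ c ∈ N, g * c * g⁻¹ = c * (c ^ p) ^ i := by
  have := D.cyclic
  have := D.normal
  obtain ⟨e, he⟩ := hL g
  have hit : ∀ (n : ℕ) (x : N), (((MulAut.conjNormal g : MulAut N).toMonoidHom)^[n] x : L)
      = g ^ n * x * (g ^ n)⁻¹ := by
    intro n x
    induction n with
    | zero => simp
    | succ n ih =>
      rw [Function.iterate_succ_apply', MulEquiv.coe_toMonoidHom, MulAut.conjNormal_apply]
      rw [show ((MulAut.conjNormal g : MulAut N).toMonoidHom : N → N) = (MulAut.conjNormal g : MulAut N)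
        from rfl] at ih
      rw [ih]
      group
  obtain ⟨i, hi⟩ := cyclic_aut (hL.to_subgroup N) (MulAut.conjNormal g : MulAut N).toMonoidHom e
    (fun x => Subtype.ext (by rw [hit, he]; simp))
  exact ⟨i, fun c hc => by simpa using congrArg Subtype.val (hi ⟨c, hc⟩)⟩

theorem normal_zpowers (hL : IsPGroup p L) (D : Data L N) {c : L} (hc : c ∈ N) :
    (zpowers c).Normal := by
  refine ⟨fun z hz g => ?_⟩
  obtain ⟨t, rfl⟩ := mem_zpowers_iff.mp hz
  obtain ⟨i, hi⟩ := conj_mem hL D g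
  rw [hi _ (zpow_mem hc t)]
  exact mul_mem (zpow_mem (mem_zpowers c) t) (zpow_mem (pow_mem (zpow_mem (mem_zpowers c) t) p) i)

theorem central_of_pow_eq_one (hL : IsPGroup p L) (D : Data L N) {c : L} (hc : c ∈ N)
    (h : c ^ p = 1) (g : L) : g * c = c * g := by
  obtain ⟨i, hi⟩ := conj_mem hL D g
  have := hi c hc
  rw [h, one_zpow, mul_one] at this
  exact mul_inv_eq_iff_eq_mul.mp this

theorem central_mod (hL : IsPGroup p L) (D : Data L N) {c : L} (hc : c ∈ N) {M : Subgroup L}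
    [M.Normal] (hM : c ^ p ∈ M) (g : L) : Commute (c : L ⧸ M) (g : L ⧸ M) := by
  obtain ⟨i, hi⟩ := conj_mem hL D g
  have h1 : ((g * c * g⁻¹ : L) : L ⧸ M) = c := by
    rw [hi c hc, QuotientGroup.mk_mul, (QuotientGroup.eq_one_iff _).mpr (zpow_mem hM i), mul_one]
  rw [QuotientGroup.mk_mul, QuotientGroup.mk_mul, QuotientGroup.mk_inv] at h1
  exact (mul_inv_eq_iff_eq_mul.mp h1).symm

/-- `(x d)^p ≡ x^p d^p` modulo the `p`-th power of the commutator. -/
theorem mul_pow_p (hL : IsPGroup p L) (D : Data L N) (hp2 : p ≠ 2) (x d : L) :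
    (x ^ p * d ^ p)⁻¹ * (x * d) ^ p ∈ zpowers (⁅d, x⁆ ^ p) := by
  have := normal_zpowers hL D (pow_mem (D.comm d x) p)
  set M := zpowers (⁅d, x⁆ ^ p)
  rw [← QuotientGroup.eq]
  simp only [QuotientGroup.mk_mul, QuotientGroup.mk_pow]
  have e : ⁅(d : L ⧸ M), (x : L ⧸ M)⁆ = ((⁅d, x⁆ : L) : L ⧸ M) :=
    (map_commutatorElement (QuotientGroup.mk' M) d x).symm
  have hc := central_mod hL D (D.comm d x) (M := M) (mem_zpowers _)
  rw [mul_pow_central (by rw [e]; exact hc x) (by rw [e]; exact hc d), e, ← QuotientGroup.mk_pow,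
    ← QuotientGroup.mk_pow, ← QuotientGroup.mk_pow]
  have h2 : p ∣ p.choose 2 := hp.out.dvd_choose_self two_ne_zero
    (lt_of_le_of_ne hp.out.two_le (Ne.symm hp2))
  obtain ⟨t, ht⟩ := h2
  rw [ht, pow_mul, (QuotientGroup.eq_one_iff _).mpr (pow_mem (mem_zpowers _) t), mul_one]

theorem mul_pow_p_of_comm (hL : IsPGroup p L) (D : Data L N) (hp2 : p ≠ 2) {x d : L}
    (h : ⁅d, x⁆ ^ p = 1) : (x * d) ^ p = x ^ p * d ^ p := by
  have := mul_pow_p hL D hp2 x d
  rw [h, zpowers_one_eq_bot, mem_bot, inv_mul_eq_one] at this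
  exact this.symm

/-- `⁅x, d^p⁆` differs from `⁅x, d⁆^p` by a unit exponent. -/
theorem commutator_pow (hL : IsPGroup p L) (D : Data L N) (hp2 : p ≠ 2) (x d : L) :
    ∃ j : ℤ, ⁅x, d ^ p⁆ = (⁅x, d⁆ ^ p) ^ (1 + (p : ℤ) * j) := by
  set c := ⁅x, d⁆ with hc
  have hcN : c ∈ N := D.comm x d
  obtain ⟨i, hi⟩ := conj_mem hL D d
  have h0 : (x * d * x⁻¹) ^ p = x * d ^ p * x⁻¹ := conj_pow
  have h1 : x * d * x⁻¹ = c * d := by rw [hc, commutatorElement_def]; group
  obtain ⟨t, ht⟩ := mem_zpowers_iff.mp (mul_pow_p hL D hp2 c d)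
  have hdc : ⁅d, c⁆ = (c ^ p) ^ i := by
    rw [commutatorElement_def, hi c hcN, mul_assoc]
    rw [show (c ^ p) ^ i * c⁻¹ = c⁻¹ * (c ^ p) ^ i from
      (((Commute.refl c).pow_left p).zpow_left i).inv_right.eq]
    simp
  rw [hdc] at ht
  have hR : ∀ z ∈ N, Commute z c := fun z hz => congrArg Subtype.val
    (D.cyclic.isMulCommutative.is_comm.comm ⟨z, hz⟩ ⟨c, hcN⟩)
  set e := (((c ^ p) ^ i) ^ p) ^ t with he
  have heN : e ∈ N := zpow_mem (pow_mem (zpow_mem (pow_mem hcN p) i) p) t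
  obtain ⟨k, hk⟩ := conj_mem hL D (d ^ p)
  refine ⟨i * t + i * t * k * p, ?_⟩
  have h2 : ⁅x, d ^ p⁆ = c ^ p * (d ^ p * e * (d ^ p)⁻¹) := by
    rw [commutatorElement_def, ← h0, h1]
    have : (c * d) ^ p = c ^ p * d ^ p * e := by rw [ht]; group
    rw [this]; group
  rw [h2, hk e heN, he]
  simp only [← zpow_natCast, ← zpow_mul, ← zpow_add]
  congr 1
  push_cast
  ring

theorem commutator_pow_eq_one (hL : IsPGroup p L) (D : Data L N) (hp2 : p ≠ 2) {x d : L}
    (h : x * d ^ p = d ^ p * x) : ⁅x, d⁆ ^ p = 1 := by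
  obtain ⟨j, hj⟩ := commutator_pow hL D hp2 x d
  rw [commutatorElement_eq_one_iff_mul_comm.mpr h] at hj
  have h1 : ((orderOf (⁅x, d⁆ ^ p) : ℕ) : ℤ) ∣ 1 + (p : ℤ) * j :=
    orderOf_dvd_iff_zpow_eq_one.mpr hj.symm
  obtain ⟨e, he⟩ := hL.exists_orderOf_eq_pow (⁅x, d⁆ ^ p)
  rw [← orderOf_eq_one_iff, he]
  rcases Nat.eq_zero_or_pos e with rfl | he0
  · simp
  · exfalso
    have h2 : (p : ℤ) ∣ 1 + (p : ℤ) * j :=
      (Int.natCast_dvd_natCast.mpr (by rw [he]; exact dvd_pow_self p he0.ne')).trans h1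
    have h3 : (p : ℤ) ∣ 1 := (dvd_add_left (dvd_mul_right _ _)).mp h2
    exact hp.out.one_lt.ne' (by exact_mod_cast Int.eq_one_of_dvd_one (by positivity) h3)

/-- All commutators are `p`-th powers. -/
theorem commutator_eq_pow (hL : IsPGroup p L) (D : Data L N) (x y : L) :
    ∃ z ∈ N, ⁅x, y⁆ = z ^ p := by
  obtain ⟨n, w, hn, hN, hgen⟩ := D.two_gen
  have := normal_zpowers hL D (pow_mem hn p)
  set M := zpowers (n ^ p)
  have hc := fun g => central_mod hL D hn (M := M) (mem_zpowers _) g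
  have key : ∀ u v : L ⧸ M, Commute u v := by
    have hgen' : closure ({(n : L ⧸ M), (w : L ⧸ M)} : Set (L ⧸ M)) = ⊤ := by
      have := congrArg (Subgroup.map (QuotientGroup.mk' M)) hgen
      rwa [MonoidHom.map_closure, Set.image_pair,
        map_top_of_surjective _ (QuotientGroup.mk'_surjective M)] at this
    have hab : closure ({(n : L ⧸ M), (w : L ⧸ M)} : Set (L ⧸ M)) ≤
        centralizer (closure ({(n : L ⧸ M), (w : L ⧸ M)} : Set (L ⧸ M)) : Set (L ⧸ M)) := by
      rw [centralizer_closure, closure_le]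
      intro a ha
      rw [SetLike.mem_coe, mem_centralizer_iff]
      intro b hb
      rcases ha with rfl | rfl <;> rcases hb with rfl | rfl
      · rfl
      · exact (hc w).symm
      · exact hc w
      · rfl
    intro u v
    exact mem_centralizer_iff.mp (hab (hgen'.ge (mem_top v))) u (hgen'.ge (mem_top u))
  have h1 : ⁅x, y⁆ ∈ M := by
    rw [← QuotientGroup.eq_one_iff]
    show QuotientGroup.mk' M ⁅x, y⁆ = 1
    rw [map_commutatorElement]
    exact (key _ _).commutator_eq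
  obtain ⟨t, ht⟩ := mem_zpowers_iff.mp h1
  exact ⟨n ^ t, zpow_mem hn t, by rw [← ht, ← zpow_natCast, ← zpow_natCast, ← zpow_mul, ← zpow_mul,
    mul_comm]⟩

end Cfsg.Agent.FGS77.Metacyclic
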