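import Cfsg.Agent.FGS77.Basic

/-!
# Groups whose `π`-elements form a subgroup
-/

set_option autoImplicit false

namespace Cfsg.Agent.FGS77

open scoped Pointwise

/-- `x` is a `π`-element. -/
def PiEl {G : Type*} [Group G] (π : Set ℕ) (x : G) : Prop :=
  ∀ p : ℕ, p.Prime → p ∣ orderOf x → p ∈ π

/-- The `π`-elements form a subgroup. -/
def PiClosed (π : Set ℕ) (G : Type*) [Group G] : Prop :=
  ∃ K : Subgroup G, ∀ x : G, x ∈ K ↔ PiEl π x

/-- `π`-elements normalizing a `π'`-subgroup centralize it. -/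
def PiHom (π : Set ℕ) (G : Type*) [Group G] : Prop :=
  ∀ H : Subgroup G, (∀ p : ℕ, p.Prime → p ∣ Nat.card H → p ∉ π) → ∀ g : G, PiEl π g →
    g ∈ Subgroup.normalizer (H : Set G) → g ∈ Subgroup.centralizer (H : Set G)

variable {G : Type*} [Group G] {π : Set ℕ}

theorem piEl_one : PiEl π (1 : G) := fun p hp h => by
  rw [orderOf_one] at h; exact absurd h hp.not_dvd_one

theorem PiEl.of_orderOf_dvd {H : Type*} [Group H] {x : G} {y : H} (hx : PiEl π x)
    (h : orderOf y ∣ orderOf x) : PiEl π y := fun p hp hd => hx p hp (hd.trans h)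

theorem PiEl.map {H : Type*} [Group H] {x : G} (hx : PiEl π x) (f : G →* H) : PiEl π (f x) :=
  hx.of_orderOf_dvd (orderOf_map_dvd f x)

theorem piEl_map_iff {H : Type*} [Group H] {x : G} {f : G →* H} (hf : Function.Injective f) :
    PiEl π (f x) ↔ PiEl π x := by
  unfold PiEl; rw [orderOf_injective f hf]

theorem piEl_coe_iff {H : Subgroup G} {x : H} : PiEl π (x : G) ↔ PiEl π x :=
  piEl_map_iff H.subtype_injective

/-- An element is the identity if its order has no prime divisor in `π` and none outside. -/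
theorem eq_one_of_piEl_of_not {x : G} (h1 : PiEl π x) {n : ℕ} (hn : orderOf x ∣ n)
    (h2 : ∀ p : ℕ, p.Prime → p ∣ n → p ∉ π) : x = 1 := by
  rw [← orderOf_eq_one_iff]
  by_contra hne
  obtain ⟨p, hp, hd⟩ := Nat.exists_prime_and_dvd hne
  exact h2 p hp (hd.trans hn) (h1 p hp hd)

theorem PiHom.subgroup (h : PiHom π G) (K : Subgroup G) : PiHom π K := by
  intro H hH g hg hgn
  have h1 := h (H.map K.subtype)
    (by rw [Subgroup.card_map_of_injective K.subtype_injective]; exact hH) g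
    (piEl_coe_iff.mpr hg) (Subgroup.le_normalizer_map _ ⟨g, hgn, rfl⟩)
  rw [Subgroup.mem_centralizer_iff] at h1 ⊢
  exact fun a ha => Subtype.ext (h1 a ⟨a, ha, rfl⟩)

theorem piHom_of_relIndex [Finite G]
    (hhom : ∀ H : Subgroup G, H ≠ ⊥ → (∀ p : ℕ, p.Prime → p ∣ Nat.card ↥H → p ∉ π) →
      ∀ p : ℕ, p.Prime → p ∣ (Subgroup.centralizer (H : Set G)).relIndex
        (Subgroup.normalizer (H : Set G)) → p ∉ π) : PiHom π G := by
  intro H hH g hg hgn
  rcases eq_or_ne H ⊥ with rfl | hne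
  · rw [Subgroup.mem_centralizer_iff]
    intro a ha
    rw [Subgroup.coe_bot, Set.mem_singleton_iff] at ha
    simp [ha]
  set C := (Subgroup.centralizer (H : Set G)).subgroupOf (Subgroup.normalizer (H : Set G)) with hC
  haveI : C.Normal := by rw [hC, ← Subgroup.normalizerMonoidHom_ker]; infer_instance
  have hgN : PiEl π (⟨g, hgn⟩ : Subgroup.normalizer (H : Set G)) := piEl_coe_iff.mp hg
  have h1 : QuotientGroup.mk' C ⟨g, hgn⟩ = 1 :=
    eq_one_of_piEl_of_not (hgN.map _) (orderOf_dvd_natCard _) (hhom H hne hH)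
  exact (QuotientGroup.eq_one_iff (⟨g, hgn⟩ : Subgroup.normalizer (H : Set G))).mp h1

theorem relIndex_of_piHom [Finite G] (hh : PiHom π G) (H : Subgroup G)
    (hH : ∀ p : ℕ, p.Prime → p ∣ Nat.card ↥H → p ∉ π) {p : ℕ} (hp : p.Prime)
    (hd : p ∣ (Subgroup.centralizer (H : Set G)).relIndex (Subgroup.normalizer (H : Set G))) :
    p ∉ π := by
  intro hpπ
  haveI : Fact p.Prime := ⟨hp⟩
  set C := (Subgroup.centralizer (H : Set G)).subgroupOf (Subgroup.normalizer (H : Set G)) with hC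
  haveI : C.Normal := by rw [hC, ← Subgroup.normalizerMonoidHom_ker]; infer_instance
  obtain ⟨a, ha⟩ := exists_prime_orderOf_dvd_card' (G := (_ ⧸ C)) p hd
  obtain ⟨g, rfl⟩ := QuotientGroup.mk_surjective a
  obtain ⟨m, k, hm, hk⟩ := exists_pow_pPart p g
  have hg : PiEl π ((g ^ m : Subgroup.normalizer (H : Set G)) : G) := by
    rw [piEl_coe_iff]
    intro q hq hqd
    rw [hk] at hqd
    rw [(Nat.prime_dvd_prime_iff_eq hq hp).mp (hq.dvd_of_dvd_pow hqd)]
    exact hpπ
  have h1 : (g ^ m : Subgroup.normalizer (H : Set G)) ∈ C := hh H hH _ hg (g ^ m).2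
  rw [← QuotientGroup.eq_one_iff, QuotientGroup.mk_pow, ← orderOf_dvd_iff_pow_eq_one, ha] at h1
  exact hm h1

theorem piHom_of_piClosed [Finite G] (h : PiClosed π G) : PiHom π G := by
  obtain ⟨K, hK⟩ := h
  haveI : K.Normal := ⟨fun n hn g => (hK _).mpr
    (((hK n).mp hn).map (MulAut.conj g).toMonoidHom)⟩
  intro H hH g hg hgn
  rw [Subgroup.mem_centralizer_iff]
  intro a ha
  have hgK : g ∈ K := (hK g).mpr hg
  set c := g * a * g⁻¹ * a⁻¹ with hc
  have hcK : c ∈ K := by
    rw [hc, mul_assoc g a, mul_assoc g]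
    exact K.mul_mem hgK (Subgroup.Normal.conj_mem inferInstance _ (K.inv_mem hgK) a)
  have hcH : c ∈ H := H.mul_mem ((Subgroup.mem_normalizer_iff.mp hgn a).mp ha) (H.inv_mem ha)
  have h1 : c = 1 := eq_one_of_piEl_of_not ((hK c).mp hcK)
    (Subgroup.orderOf_dvd_natCard H hcH) hH
  rw [hc, mul_inv_eq_one, mul_inv_eq_iff_eq_mul] at h1
  exact h1.symm

theorem card_mul_relIndex_of_le {H K : Subgroup G} (h : H ≤ K) :
    Nat.card H * H.relIndex K = Nat.card K := by
  rw [← Subgroup.relIndex_bot_left, ← Subgroup.relIndex_bot_left,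
    Subgroup.relIndex_mul_relIndex _ _ _ bot_le h]

/-- A subgroup containing enough of every prime part is everything. -/
theorem eq_top_of_forall_ordProj_dvd [Finite G] (A : Subgroup G)
    (h : ∀ r : ℕ, r.Prime → r ∣ Nat.card G → r ^ (Nat.card G).factorization r ∣ Nat.card A) :
    A = ⊤ := by
  refine Subgroup.eq_top_of_card_eq A (Nat.dvd_antisymm A.card_subgroup_dvd_card ?_)
  rw [← Nat.factorization_le_iff_dvd Nat.card_pos.ne' Nat.card_pos.ne']
  intro r
  by_cases hr : r.Prime ∧ r ∣ Nat.card G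
  · exact (hr.1.pow_dvd_iff_le_factorization Nat.card_pos.ne').mp (h r hr.1 hr.2)
  · rcases not_and_or.mp hr with h' | h'
    · rw [Nat.factorization_eq_zero_of_not_prime _ h']; exact Nat.zero_le _
    · rw [Nat.factorization_eq_zero_of_not_dvd h']; exact Nat.zero_le _

theorem le_of_forall_ordProj_dvd [Finite G] (A B : Subgroup G)
    (h : ∀ r : ℕ, r.Prime → r ∣ Nat.card B → r ^ (Nat.card B).factorization r ∣
      Nat.card (A ⊓ B : Subgroup G)) : B ≤ A := by
  have h1 := eq_top_of_forall_ordProj_dvd ((A ⊓ B).subgroupOf B) fun r hr hd => by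
    rw [Nat.card_congr (Subgroup.subgroupOfEquivOfLe inf_le_right).toEquiv]; exact h r hr hd
  intro b hb
  exact ((Subgroup.subgroupOf_eq_top.mp h1) hb).1

/-- Extensions of `π`-closed groups. -/
theorem piClosed_extension [Finite G] (hh : PiHom π G) (K : Subgroup G) [K.Normal]
    (hK : PiClosed π K) (hQ : PiClosed π (G ⧸ K)) : PiClosed π G := by
  classical
  obtain ⟨L0, hL0⟩ := hK
  set L := L0.map K.subtype with hLdef
  have hL : ∀ x : G, x ∈ L ↔ x ∈ K ∧ PiEl π x := by
    intro x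
    constructor
    · rintro ⟨y, hy, rfl⟩
      exact ⟨y.2, piEl_coe_iff.mpr ((hL0 y).mp hy)⟩
    · rintro ⟨hx, hxp⟩
      exact ⟨⟨x, hx⟩, (hL0 _).mpr (piEl_coe_iff.mp hxp), rfl⟩
  have hLK : L ≤ K := fun x hx => ((hL x).mp hx).1
  haveI hLn : L.Normal := ⟨fun n hn g => (hL _).mpr ⟨Subgroup.Normal.conj_mem inferInstance n
    ((hL n).mp hn).1 g, ((hL n).mp hn).2.map (MulAut.conj g).toMonoidHom⟩⟩
  have hLcard : ∀ r : ℕ, r.Prime → r ∣ Nat.card L → r ∈ π := by
    intro r hr hd
    haveI : Fact r.Prime := ⟨hr⟩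
    obtain ⟨x, hx⟩ := exists_prime_orderOf_dvd_card' r hd
    exact ((hL x).mp x.2).2 r hr (by rw [Subgroup.orderOf_coe, hx])
  -- primes of `K / L`
  have hKL : ∀ r : ℕ, r.Prime → r ∣ L.relIndex K → r ∉ π := by
    intro r hr hd hrπ
    haveI : Fact r.Prime := ⟨hr⟩
    obtain ⟨a, ha⟩ := exists_prime_orderOf_dvd_card' (G := K ⧸ L.subgroupOf K) r hd
    obtain ⟨x, rfl⟩ := QuotientGroup.mk_surjective a
    obtain ⟨m, k, hm, hk⟩ := exists_pow_pPart r x
    have hx : PiEl π ((x ^ m : K) : G) := by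
      rw [piEl_coe_iff]
      intro q hq hqd
      rw [hk] at hqd
      rw [(Nat.prime_dvd_prime_iff_eq hq hr).mp (hq.dvd_of_dvd_pow hqd)]
      exact hrπ
    have h1 : x ^ m ∈ L.subgroupOf K := (hL _).mpr ⟨(x ^ m).2, hx⟩
    rw [← QuotientGroup.eq_one_iff, QuotientGroup.mk_pow, ← orderOf_dvd_iff_pow_eq_one, ha] at h1
    exact hm h1
  set φ := QuotientGroup.mk' L with hφ
  set Kb := K.map φ with hKb
  set C := (Subgroup.centralizer (Kb : Set (G ⧸ L))).comap φ with hC
  -- `q`-elements centralize `K / L`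
  have hqel : ∀ (q : ℕ), q.Prime → q ∈ π → ∀ g : G, (∃ k, orderOf g = q ^ k) → g ∈ C := by
    intro q hq hqπ g hgo
    haveI : Fact q.Prime := ⟨hq⟩
    set D := (Subgroup.centralizer ({φ g} : Set (G ⧸ L))).comap φ with hD
    suffices hKD : K ≤ D by
      rw [hC, Subgroup.mem_comap, Subgroup.mem_centralizer_iff]
      rintro _ ⟨a, ha, rfl⟩
      exact Subgroup.mem_centralizer_singleton_iff.mp (Subgroup.mem_comap.mp (hKD ha))
    have hLD : L ≤ D := fun l hl => by
      rw [hD, Subgroup.mem_comap, Subgroup.mem_centralizer_singleton_iff, hφ, QuotientGroup.mk'_apply,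
        (QuotientGroup.eq_one_iff l).mpr hl, one_mul, mul_one]
    refine le_of_forall_ordProj_dvd D K fun r hr hrd => ?_
    have hKeq : Nat.card K = Nat.card L * L.relIndex K := (card_mul_relIndex_of_le hLK).symm
    by_cases hrL : r ∣ L.relIndex K
    swap
    · refine dvd_trans ?_ (Subgroup.card_dvd_of_le (le_inf hLD hLK))
      rw [hKeq, Nat.factorization_mul Nat.card_pos.ne' (fun h => hrL (by rw [h]; exact dvd_zero r)),
        Finsupp.add_apply, Nat.factorization_eq_zero_of_not_dvd hrL, add_zero]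
      exact Nat.ordProj_dvd _ _
    have hrπ := hKL r hr hrL
    haveI : Fact r.Prime := ⟨hr⟩
    obtain ⟨R0⟩ := (inferInstance : Nonempty (Sylow r K))
    set R := (R0 : Subgroup K).map K.subtype with hR
    have hRK : R ≤ K := Subgroup.map_subtype_le _
    have hRcard : Nat.card R = r ^ (Nat.card K).factorization r :=
      (Subgroup.card_map_of_injective K.subtype_injective).trans R0.card_eq_multiplicity
    have hRπ : ∀ p : ℕ, p.Prime → p ∣ Nat.card R → p ∉ π := fun p hp hd => by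
      rw [hRcard] at hd
      rw [(Nat.prime_dvd_prime_iff_eq hp hr).mp (hp.dvd_of_dvd_pow hd)]
      exact hrπ
    set N := Subgroup.normalizer (R : Set G) with hN
    have hfrat : N ⊔ K = ⊤ := Sylow.normalizer_sup_eq_top R0
    set H := N ⊔ L with hH
    have hidx : ¬ q ∣ H.index := by
      intro hd
      have hHK : H ⊔ K = ⊤ := top_le_iff.mp (hfrat ▸ sup_le_sup_right le_sup_left K)
      have h1 : K.relIndex H = K.index := by
        rw [← Subgroup.relIndex_top_right, ← hHK, Subgroup.relIndex_sup_right]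
      have h2 : H.index * Nat.card H = Nat.card G := H.index_mul_card
      have h3 : K.index * Nat.card K = Nat.card G := K.index_mul_card
      have h4 : Nat.card (K ⊓ H : Subgroup G) * (K ⊓ H).relIndex H = Nat.card H :=
        card_mul_relIndex_of_le inf_le_right
      rw [Subgroup.inf_relIndex_right, h1] at h4
      have h5 : L.relIndex (K ⊓ H) * (K ⊓ H).relIndex K = L.relIndex K :=
        Subgroup.relIndex_mul_relIndex L (K ⊓ H) K (le_inf hLK le_sup_right) inf_le_left
      have h6 : Nat.card (K ⊓ H : Subgroup G) * (K ⊓ H).relIndex K = Nat.card K :=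
        card_mul_relIndex_of_le inf_le_left
      have h7 : H.index * Nat.card (K ⊓ H : Subgroup G) = Nat.card K := by
        refine Nat.eq_of_mul_eq_mul_right (Nat.pos_of_ne_zero K.index_ne_zero_of_finite) ?_
        calc H.index * Nat.card (K ⊓ H : Subgroup G) * K.index
            = H.index * Nat.card H := by rw [mul_assoc, h4]
          _ = Nat.card K * K.index := by rw [h2, ← h3, mul_comm]
      have h8 : H.index = (K ⊓ H).relIndex K :=
        Nat.eq_of_mul_eq_mul_right (Nat.card_pos (α := (K ⊓ H : Subgroup G)))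
          (by rw [h7, ← h6, mul_comm])
      exact hKL q hq ((h8 ▸ hd).trans (Dvd.intro_left _ h5)) hqπ
    -- a conjugate of `g` centralizes `R` modulo `L`
    obtain ⟨S0⟩ := (inferInstance : Nonempty (Sylow q H))
    have hScard : Nat.card ((S0 : Subgroup H).map H.subtype) = q ^ (Nat.card G).factorization q := by
      rw [Subgroup.card_map_of_injective H.subtype_injective]
      refine S0.card_eq_multiplicity.trans ?_
      rw [← H.index_mul_card, Nat.factorization_mul H.index_ne_zero_of_finite Nat.card_pos.ne',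
        Finsupp.add_apply, Nat.factorization_eq_zero_of_not_dvd hidx, zero_add]
    let S : Sylow q G := Sylow.ofCard _ hScard
    obtain ⟨kk, hkk⟩ := hgo
    obtain ⟨T, hT⟩ := (isPGroup_zpowers_of_orderOf hkk).exists_le_sylow
    obtain ⟨y, hy⟩ := MulAction.exists_smul_eq G T S
    have hgy : y * g * y⁻¹ ∈ H := by
      have h1 : MulAut.conj y • g ∈ ((y • T : Sylow q G) : Subgroup G) :=
        Subgroup.smul_mem_pointwise_smul _ _ _ (hT (Subgroup.mem_zpowers g))
      rw [hy] at h1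
      exact Subgroup.map_subtype_le _ h1
    rw [hH, ← SetLike.mem_coe, Subgroup.mul_normal N L] at hgy
    obtain ⟨a, haN, l, hl, hal⟩ := hgy
    obtain ⟨m, j, hm, hj⟩ := exists_pow_pPart q a
    have hcR : ∀ b ∈ R, Commute (φ (a ^ m)) (φ b) := fun b hb => by
      have h1 := hh R hRπ (a ^ m) (fun p hp hd => by
        rw [hj] at hd
        rw [(Nat.prime_dvd_prime_iff_eq hp hq).mp (hp.dvd_of_dvd_pow hd)]
        exact hqπ) (N.pow_mem haN m)
      exact ((show Commute b (a ^ m) from Subgroup.mem_centralizer_iff.mp h1 b hb).map φ).symm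
    have hφa : φ (a : G) = φ y * φ g * (φ y)⁻¹ := by
      have hl1 : φ l = 1 := (QuotientGroup.eq_one_iff l).mpr hl
      rw [← map_inv, ← map_mul, ← map_mul, ← hal, map_mul, hl1, mul_one]
    have hco : Nat.Coprime m (orderOf (φ a)) := by
      refine Nat.Coprime.coprime_dvd_right ?_
        (Nat.Coprime.pow_right kk ((hq.coprime_iff_not_dvd.mpr hm).symm))
      rw [hφa, ← MulAut.conj_apply, MulEquiv.orderOf_eq, ← hkk]
      exact orderOf_map_dvd φ g
    obtain ⟨i, hi⟩ := exists_pow_eq_self_of_coprime hco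
    have hcR' : ∀ b ∈ R, Commute (φ y * φ g * (φ y)⁻¹) (φ b) := fun b hb => by
      rw [← hφa, ← hi, ← map_pow]
      exact (hcR b hb).pow_left i
    have hsub : R.map (MulAut.conj y⁻¹).toMonoidHom ≤ D ⊓ K := by
      rintro _ ⟨b, hb, rfl⟩
      refine ⟨?_, Subgroup.Normal.conj_mem inferInstance b (hRK hb) _⟩
      show φ (y⁻¹ * b * y⁻¹⁻¹) ∈ Subgroup.centralizer ({φ g} : Set (G ⧸ L))
      rw [Subgroup.mem_centralizer_singleton_iff, inv_inv, map_mul, map_mul, map_inv]
      have h := (hcR' b hb).eq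
      calc (φ y)⁻¹ * φ b * φ y * φ g = (φ y)⁻¹ * (φ b * (φ y * φ g * (φ y)⁻¹)) * φ y := by group
        _ = (φ y)⁻¹ * (φ y * φ g * (φ y)⁻¹ * φ b) * φ y := by rw [h]
        _ = φ g * ((φ y)⁻¹ * φ b * φ y) := by group
    refine dvd_trans (dvd_of_eq ?_) (Subgroup.card_dvd_of_le hsub)
    rw [Subgroup.card_map_of_injective (f := (MulAut.conj y⁻¹).toMonoidHom) (MulAut.conj y⁻¹).injective,
      hRcard]
  -- `π`-elements centralize `K / L`
  have hpiC : ∀ g : G, PiEl π g → g ∈ C := by
    intro g hg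
    refine (le_of_forall_ordProj_dvd C (Subgroup.zpowers g) fun r hr hrd => ?_) (Subgroup.mem_zpowers g)
    rw [Nat.card_zpowers] at hrd ⊢
    haveI : Fact r.Prime := ⟨hr⟩
    set m := ordCompl[r] (orderOf g) with hm
    have ho : orderOf (g ^ m) = r ^ (orderOf g).factorization r := by
      rw [hm, orderOf_pow_of_dvd (Nat.ordCompl_pos r (orderOf_pos g).ne').ne' (Nat.ordCompl_dvd _ _)]
      exact Nat.div_div_self (Nat.ordProj_dvd _ _) (orderOf_pos g).ne'
    rw [← ho, ← Nat.card_zpowers]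
    refine Subgroup.card_dvd_of_le (Subgroup.zpowers_le.mpr ⟨?_, Subgroup.pow_mem _ (Subgroup.mem_zpowers g) m⟩)
    exact hqel r hr (hg r hr hrd) _ ⟨_, ho⟩
  -- the `π`-core
  obtain ⟨M0, hM0⟩ := hQ
  set M := M0.comap (QuotientGroup.mk' K) with hM
  set Mb := M.map φ with hMb
  have hKM : K ≤ M := fun x hx => by
    rw [hM, Subgroup.mem_comap, QuotientGroup.mk'_apply, (QuotientGroup.eq_one_iff x).mpr hx]
    exact M0.one_mem
  have hKMb : Kb ≤ Mb := Subgroup.map_mono hKM
  have hKbcard : Nat.card Kb = L.relIndex K := by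
    have h1 : L.relIndex K = Nat.card (K ⧸ L.subgroupOf K) := rfl
    rw [h1]
    have e := (QuotientGroup.quotientKerEquivRange (φ.comp K.subtype)).toEquiv
    have hker : (φ.comp K.subtype).ker = L.subgroupOf K := by
      rw [← MonoidHom.comap_ker, hφ, QuotientGroup.ker_mk']; rfl
    have hrange : (φ.comp K.subtype).range = Kb := by
      rw [MonoidHom.range_comp, Subgroup.range_subtype]
    rw [hker, hrange] at e
    exact (Nat.card_congr e).symm
  set K' := Kb.subgroupOf Mb with hK'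
  haveI : Kb.Normal := Subgroup.Normal.map inferInstance φ (QuotientGroup.mk'_surjective L)
  haveI : K'.Normal := by rw [hK']; infer_instance
  have hK'card : Nat.card K' = L.relIndex K :=
    (Nat.card_congr (Subgroup.subgroupOfEquivOfLe hKMb).toEquiv).trans hKbcard
  have hidx' : ∀ p : ℕ, p.Prime → p ∣ K'.index → p ∈ π := by
    intro p hp hd
    haveI : Fact p.Prime := ⟨hp⟩
    obtain ⟨a, ha⟩ := exists_prime_orderOf_dvd_card' (G := Mb ⧸ K') p hd
    obtain ⟨⟨_, x, hx, rfl⟩, rfl⟩ := QuotientGroup.mk_surjective a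
    refine (hM0 _).mp hx p hp ?_
    rw [← ha]
    apply orderOf_dvd_of_pow_eq_one
    rw [← QuotientGroup.mk_pow, QuotientGroup.eq_one_iff]
    show φ x ^ orderOf (QuotientGroup.mk' K x) ∈ Kb
    rw [← map_pow]
    exact ⟨_, (QuotientGroup.eq_one_iff _).mp
      (by rw [QuotientGroup.mk_pow]; exact pow_orderOf_eq_one _), rfl⟩
  have hcop : Nat.Coprime (Nat.card K') K'.index := by
    by_contra h
    obtain ⟨p, hp, hp1, hp2⟩ := Nat.Prime.not_coprime_iff_dvd.mp h
    exact hKL p hp (hK'card ▸ hp1) (hidx' p hp hp2)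
  obtain ⟨A', hA'⟩ := Subgroup.exists_right_complement'_of_coprime hcop
  have hA'card : Nat.card A' = K'.index := (Subgroup.IsComplement'.index_eq_card hA'.symm).symm
  -- elements of `A'` come from `π`-elements
  have hAlift : ∀ x : G, (∃ h : φ x ∈ Mb, (⟨φ x, h⟩ : Mb) ∈ A') → PiEl π x := by
    rintro x ⟨h, hxA⟩ p hp hd
    set n := orderOf (φ x) with hn
    have hx : x ^ n ∈ L := by
      rw [← QuotientGroup.eq_one_iff, QuotientGroup.mk_pow]; exact pow_orderOf_eq_one _
    have h1 : orderOf x ∣ n * orderOf (x ^ n) :=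
      orderOf_dvd_of_pow_eq_one (by rw [pow_mul, pow_orderOf_eq_one])
    rcases hp.dvd_mul.mp (hd.trans h1) with h2 | h2
    · refine hidx' p hp (hA'card ▸ h2.trans ?_)
      rw [hn, show φ x = ((⟨φ x, h⟩ : Mb) : G ⧸ L) from rfl, Subgroup.orderOf_coe]
      exact Subgroup.orderOf_dvd_natCard _ hxA
    · exact ((hL _).mp hx).2 p hp h2
  haveI hA'n : A'.Normal := by
    refine Subgroup.normalizer_eq_top_iff.mp (top_le_iff.mp ?_)
    rw [← hA'.sup_eq_top, sup_le_iff]
    refine ⟨?_, Subgroup.le_normalizer⟩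
    intro k hk
    rw [Subgroup.mem_normalizer_iff]
    intro a
    have hcomm : ∀ a ∈ A', k * a = a * k := by
      rintro ⟨_, x, hx, rfl⟩ hxA
      have hxC := hpiC x (hAlift x ⟨⟨x, hx, rfl⟩, hxA⟩)
      exact Subtype.ext (Subgroup.mem_centralizer_iff.mp hxC k hk)
    constructor
    · intro ha
      rw [hcomm a ha, mul_inv_cancel_right]
      exact ha
    · intro ha
      have h1 := hcomm _ ha
      have h2 : a = k * a * k⁻¹ := by
        calc a = k⁻¹ * (k * a * k⁻¹ * k) := by group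
          _ = k⁻¹ * (k * (k * a * k⁻¹)) := by rw [h1]
          _ = k * a * k⁻¹ := by group
      rwa [h2]
  refine ⟨(A'.map Mb.subtype).comap φ, fun x => ⟨?_, ?_⟩⟩
  · rintro ⟨b, hb, hbx⟩
    have hbx' : (b : G ⧸ L) = φ x := hbx
    refine hAlift x ⟨hbx' ▸ b.2, ?_⟩
    rwa [show (⟨φ x, hbx' ▸ b.2⟩ : Mb) = b from Subtype.ext hbx'.symm]
  · intro hx
    have hxM : x ∈ M := (hM0 _).mpr (hx.map _)
    refine ⟨⟨φ x, x, hxM, rfl⟩, ?_, rfl⟩
    rw [SetLike.mem_coe, ← QuotientGroup.eq_one_iff]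
    refine eq_one_of_piEl_of_not (PiEl.map (piEl_coe_iff.mp (hx.map φ)) (QuotientGroup.mk' A'))
      (n := Nat.card K') ?_ (hK'card ▸ hKL)
    refine (orderOf_dvd_natCard _).trans (dvd_of_eq ?_)
    exact Subgroup.IsComplement'.index_eq_card hA'

/-- A group with a `π`-separated chain and the `π`-hom property is `π`-closed. -/
theorem piClosed_of_chain [Finite G] (hh : PiHom π G) (n : ℕ) (H : Fin (n + 1) → Subgroup G)
    (h0 : H 0 = ⊥) (hmono : Monotone H) (hn : ∀ i, (H i).Normal)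
    (hfac : ∀ i : Fin n, (∀ q : ℕ, q.Prime → q ∣ (H i.castSucc).relIndex (H i.succ) → q ∈ π) ∨
      (∀ q : ℕ, q.Prime → q ∣ (H i.castSucc).relIndex (H i.succ) → q ∉ π)) (i : Fin (n + 1)) :
    PiClosed π (H i) := by
  induction i using Fin.induction with
  | zero =>
    refine ⟨⊤, fun x => ⟨fun _ => ?_, fun _ => Subgroup.mem_top _⟩⟩
    have hx : (x : G) = 1 := by
      exact Subgroup.mem_bot.mp (h0.le x.2)
    rw [show x = 1 from Subtype.ext hx]
    exact piEl_one
  | succ i ih =>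
    have hle : H i.castSucc ≤ H i.succ := hmono i.castSucc_le_succ
    haveI := hn i.castSucc
    set K := (H i.castSucc).subgroupOf (H i.succ) with hK
    refine piClosed_extension (hh.subgroup _) K ?_ ?_
    · obtain ⟨A, hA⟩ := ih
      let e := Subgroup.subgroupOfEquivOfLe hle
      refine ⟨A.comap e.toMonoidHom, fun x => ?_⟩
      rw [Subgroup.mem_comap, hA]
      exact piEl_map_iff e.injective
    · rcases hfac i with h | h
      · refine ⟨⊤, fun x => ⟨fun _ p hp hd => h p hp (hd.trans (orderOf_dvd_natCard x)),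
          fun _ => Subgroup.mem_top _⟩⟩
      · refine ⟨⊥, fun x => ⟨fun hx => by rw [Subgroup.mem_bot.mp hx]; exact piEl_one,
          fun hx => Subgroup.mem_bot.mpr (eq_one_of_piEl_of_not hx (orderOf_dvd_natCard x) h)⟩⟩

/-- A `π`-closed group is `π`-separable. -/
theorem exists_chain_of_piClosed [Finite G] (h : PiClosed π G) :
    ∃ (n : ℕ) (H : Fin (n + 1) → Subgroup G), H 0 = ⊥ ∧ H (Fin.last n) = ⊤ ∧ Monotone H ∧
      (∀ i, (H i).Normal) ∧
      ∀ i : Fin n, (∀ q : ℕ, q.Prime → q ∣ (H i.castSucc).relIndex (H i.succ) → q ∈ π) ∨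
        (∀ q : ℕ, q.Prime → q ∣ (H i.castSucc).relIndex (H i.succ) → q ∉ π) := by
  obtain ⟨K, hK⟩ := h
  haveI : K.Normal := ⟨fun n hn g => (hK _).mpr
    (((hK n).mp hn).map (MulAut.conj g).toMonoidHom)⟩
  refine ⟨2, ![⊥, K, ⊤], rfl, rfl, ?_, ?_, ?_⟩
  · refine Fin.monotone_iff_le_succ.mpr fun i => ?_
    fin_cases i <;> simp
  · intro i
    fin_cases i <;> simp <;> infer_instance
  · intro i
    fin_cases i
    · left
      intro q hq hd
      replace hd : q ∣ Nat.card K := by simpa using hd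
      haveI : Fact q.Prime := ⟨hq⟩
      obtain ⟨x, hx⟩ := exists_prime_orderOf_dvd_card' q hd
      exact (hK x).mp x.2 q hq (by rw [Subgroup.orderOf_coe, hx])
    · right
      intro q hq hd hqπ
      replace hd : q ∣ K.index := by simpa using hd
      haveI : Fact q.Prime := ⟨hq⟩
      obtain ⟨a, ha⟩ := exists_prime_orderOf_dvd_card' (G := G ⧸ K) q hd
      obtain ⟨g, rfl⟩ := QuotientGroup.mk_surjective a
      obtain ⟨m, k, hm, hk⟩ := exists_pow_pPart q g
      have h1 : g ^ m ∈ K := (hK _).mpr fun p hp hd' => by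
        rw [hk] at hd'
        rw [(Nat.prime_dvd_prime_iff_eq hp hq).mp (hp.dvd_of_dvd_pow hd')]
        exact hqπ
      rw [← QuotientGroup.eq_one_iff, QuotientGroup.mk_pow, ← orderOf_dvd_iff_pow_eq_one, ha] at h1
      exact hm h1

end Cfsg.Agent.FGS77
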