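import Cfsg.Agent.Lib.Frobenius.FixedPointFree
import Mathlib.GroupTheory.Transfer

/-!
# Groups in which every nonidentity element has prime order

Local analysis used for the groups with four automorphism orbits.
-/

set_option autoImplicit false

namespace Cfsg.Agent.FGS77

open scoped IsMulCommutative

/-- Every nonidentity element has prime order. -/
def PrimeOrders (G : Type*) [Group G] : Prop := ∀ g : G, g ≠ 1 → (orderOf g).Prime

variable {G : Type*} [Group G] [Finite G]

theorem PrimeOrders.eq_of_pow (hG : PrimeOrders G) {g : G} (hg : g ≠ 1) {s k : ℕ} (hs : s.Prime)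
    (h : g ^ (s ^ k) = 1) : orderOf g = s := by
  have h1 := (hG g hg)
  exact (Nat.prime_dvd_prime_iff_eq h1 hs).mp (h1.dvd_of_dvd_pow (orderOf_dvd_of_pow_eq_one h))

theorem PrimeOrders.orderOf_of_mem (hG : PrimeOrders G) {s : ℕ} (hs : s.Prime) {P : Subgroup G}
    (hP : IsPGroup s P) {g : G} (hg : g ∈ P) (hg1 : g ≠ 1) : orderOf g = s := by
  obtain ⟨k, hk⟩ := hP ⟨g, hg⟩
  exact hG.eq_of_pow hg1 hs (congrArg Subtype.val hk)

theorem PrimeOrders.pow_eq_one (hG : PrimeOrders G) {s : ℕ} (hs : s.Prime) {P : Subgroup G}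
    (hP : IsPGroup s P) {g : G} (hg : g ∈ P) : g ^ s = 1 := by
  rcases eq_or_ne g 1 with rfl | h
  · exact one_pow s
  · rw [← hG.orderOf_of_mem hs hP hg h, pow_orderOf_eq_one]

theorem PrimeOrders.orderOf_eq_of_commute (hG : PrimeOrders G) {x y : G} (hx : x ≠ 1) (hy : y ≠ 1)
    (h : Commute x y) : orderOf x = orderOf y := by
  by_contra hne
  have hc := (Nat.coprime_primes (hG x hx) (hG y hy)).mpr hne
  have ho := h.orderOf_mul_eq_mul_orderOf_of_coprime hc
  have hne1 : x * y ≠ 1 := fun h1 => by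
    rw [h1, orderOf_one] at ho
    exact (hG x hx).ne_one (Nat.eq_one_of_mul_eq_one_right ho.symm)
  exact Nat.not_prime_mul (hG x hx).ne_one (hG y hy).ne_one (ho ▸ hG _ hne1)

theorem PrimeOrders.isPGroup_centralizer (hG : PrimeOrders G) {x : G} (hx : x ≠ 1) :
    IsPGroup (orderOf x) (Subgroup.centralizer ({x} : Set G)) := by
  intro ⟨g, hg⟩
  refine ⟨1, Subtype.ext ?_⟩
  show g ^ orderOf x ^ 1 = 1
  rw [pow_one]
  rcases eq_or_ne g 1 with rfl | h
  · exact one_pow _
  · rw [hG.orderOf_eq_of_commute hx h (Subgroup.mem_centralizer_iff.mp hg x rfl), pow_orderOf_eq_one]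

/-- In a group acting on an abelian normal `s`-subgroup `V ≠ 1`, with all elements of prime order, an
element of order different from `s` is normalized only by its centralizer. -/
theorem PrimeOrders.commute_of_normalizes (hG : PrimeOrders G) {s : ℕ} (hs : s.Prime)
    (V : Subgroup G) [IsMulCommutative V] (hV : V ≠ ⊥) (hVs : IsPGroup s V) {w y : G}
    (hw1 : w ≠ 1) (hws : orderOf w ≠ s)
    (hwn : w ∈ Subgroup.normalizer (V : Set G)) (hyn : y ∈ Subgroup.normalizer (V : Set G))
    (hyw : y ∈ Subgroup.normalizer (Subgroup.zpowers w : Set G)) : Commute y w := by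
  classical
  by_contra hncomm
  have hy1 : y ≠ 1 := fun h => hncomm (h ▸ Commute.one_left w)
  set M := Subgroup.normalizer (V : Set G)
  set q := orderOf w with hq
  set t := orderOf y with ht
  have hqp : q.Prime := hG w hw1
  have htp : t.Prime := hG y hy1
  have hVord : ∀ v ∈ V, v ^ s = 1 := fun v hv => hG.pow_eq_one hs hVs hv
  have hwV : ∀ u : G, u ∈ Subgroup.zpowers w → u ∈ V → u = 1 := fun u hu hu' => by
    by_contra h
    have h1 : orderOf u ∣ q := orderOf_dvd_of_mem_zpowers hu
    rw [hG.orderOf_of_mem hs hVs hu' h] at h1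
    exact hws ((Nat.prime_dvd_prime_iff_eq hs hqp).mp h1).symm
  -- the elements `g i = w ^ i * y`
  let g : ℕ → G := fun i => w ^ i * y
  have hgn : ∀ i, g i ∈ M := fun i => M.mul_mem (M.pow_mem hwn i) hyn
  have hyW : y ∉ Subgroup.zpowers w := fun h => by
    obtain ⟨k, rfl⟩ := h
    exact hncomm ((Commute.refl w).zpow_left k)
  have hgW : ∀ i, g i ∉ Subgroup.zpowers w := fun i h => by
    refine hyW ?_
    simpa [g] using Subgroup.mul_mem _ (Subgroup.inv_mem _ (Subgroup.pow_mem _ (Subgroup.mem_zpowers w) i)) h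
  have hgn' : ∀ i, g i ∈ Subgroup.normalizer (Subgroup.zpowers w : Set G) := fun i =>
    Subgroup.mul_mem _ (Subgroup.le_normalizer (Subgroup.pow_mem _ (Subgroup.mem_zpowers w) i)) hyw
  have hgpow : ∀ i j : ℕ, g i ^ j * (y ^ j)⁻¹ ∈ Subgroup.zpowers w := by
    intro i j
    induction j with
    | zero => simp
    | succ j ih =>
      have h1 : g i ^ (j + 1) * (y ^ (j + 1))⁻¹ =
          w ^ i * (y * (g i ^ j * (y ^ j)⁻¹) * y⁻¹) := by
        rw [pow_succ' (g i), pow_succ' y]; simp [g, mul_assoc]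
      rw [h1]
      exact Subgroup.mul_mem _ (Subgroup.pow_mem _ (Subgroup.mem_zpowers w) i)
        ((Subgroup.mem_normalizer_iff.mp hyw _).mp ih)
  have hgt : ∀ i, g i ^ t = 1 := by
    intro i
    have h1 : g i ^ t ∈ Subgroup.zpowers w := by
      have := hgpow i t
      rwa [ht, pow_orderOf_eq_one, inv_one, mul_one] at this
    have hg1 : g i ≠ 1 := fun h => hgW i (h ▸ Subgroup.one_mem _)
    by_contra hne
    refine hncomm ?_
    have hcop : Nat.Coprime t (orderOf (g i)) := (Nat.coprime_primes htp (hG _ hg1)).mpr fun h => by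
      rw [h, pow_orderOf_eq_one] at hne; exact hne rfl
    obtain ⟨m, hm⟩ := exists_pow_eq_self_of_coprime hcop
    exact absurd (hm ▸ Subgroup.pow_mem _ h1 m) (hgW i)
  let conjV : (u : G) → u ∈ M → V → V := fun u hu v =>
    ⟨u * v * u⁻¹, (Subgroup.mem_normalizer_iff.mp hu _).mp v.2⟩
  -- products along `g i`
  have hprod : ∀ (i j : ℕ) (v : V), ((v : G) * g i) ^ j =
      ((∏ k ∈ Finset.range j, conjV (g i ^ k) (M.pow_mem (hgn i) k) v : V) : G) * g i ^ j := by
    intro i j v
    induction j with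
    | zero => simp
    | succ j ih =>
      rw [pow_succ, ih, Finset.prod_range_succ, Subgroup.coe_mul]
      show _ = _ * (g i ^ j * (v : G) * (g i ^ j)⁻¹) * g i ^ (j + 1)
      rw [pow_succ (g i) j]
      simp [mul_assoc]
  have hnorm : ∀ (i : ℕ) (v : V), ∏ k ∈ Finset.range t, conjV (g i ^ k) (M.pow_mem (hgn i) k) v = 1 := by
    intro i v
    apply Subtype.ext
    have h2 := hprod i t v
    rw [hgt i, mul_one] at h2
    rw [← h2]
    by_cases hgV : g i ∈ V
    · -- then `t = s`
      have hts : orderOf (g i) = s :=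
        hG.orderOf_of_mem hs hVs hgV (fun h => hgW i (h ▸ Subgroup.one_mem _))
      have hst : s ∣ t := hts ▸ orderOf_dvd_of_pow_eq_one (hgt i)
      rw [← (Nat.prime_dvd_prime_iff_eq hs htp).mp hst]
      exact hVord _ (V.mul_mem v.2 hgV)
    · by_cases h1 : (v : G) * g i = 1
      · exact absurd (by rw [← inv_eq_of_mul_eq_one_right h1]; exact V.inv_mem v.2) hgV
      set l := orderOf ((v : G) * g i) with hl
      have hlp : l.Prime := hG _ h1
      have h3 : g i ^ l ∈ V := by
        have h4 := hprod i l v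
        rw [hl, pow_orderOf_eq_one] at h4
        rw [eq_inv_of_mul_eq_one_right h4.symm]
        exact V.inv_mem (Subtype.coe_prop _)
      have hlt : l = t := by
        by_contra hne
        obtain ⟨m, hm⟩ := exists_pow_eq_self_of_coprime (x := g i) (n := l)
          (by
            have hg1 : g i ≠ 1 := fun h => hgV (h ▸ V.one_mem)
            have : orderOf (g i) = t := hG.eq_of_pow hg1 htp (k := 1) (by rw [pow_one]; exact hgt i)
            rw [this]; exact (Nat.coprime_primes hlp htp).mpr hne)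
        exact hgV (hm ▸ V.pow_mem h3 m)
      rw [← hlt, hl, pow_orderOf_eq_one]
      rfl
  -- summing over `i`
  obtain ⟨v, hvV, hv1⟩ := (Subgroup.bot_or_exists_ne_one V).resolve_left hV
  set v' : V := ⟨v, hvV⟩
  have hsum : ∀ j, j < t → j ≠ 0 →
      ∏ i ∈ Finset.range q, conjV (g i ^ j) (M.pow_mem (hgn i) j) v' = 1 := by
    intro j hjt hj0
    -- `i ↦ (w ^ i y) ^ j (y ^ j)⁻¹` runs through `⟨w⟩`
    set u : V := conjV (y ^ j) (M.pow_mem hyn j) v'
    let e : Fin q → Subgroup.zpowers w := fun i => ⟨g i ^ j * (y ^ j)⁻¹, hgpow i j⟩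
    have hcj : Nat.Coprime j t := Nat.Coprime.symm (htp.coprime_iff_not_dvd.mpr fun h =>
      absurd (Nat.le_of_dvd (Nat.pos_of_ne_zero hj0) h) (Nat.not_le.mpr hjt))
    obtain ⟨m, hm⟩ := Nat.exists_mul_mod_eq_one_of_coprime hcj htp.one_lt
    have hback : ∀ i, (g i ^ j) ^ m = g i := fun i => by
      rw [← pow_mul, ← Nat.mod_add_div (j * m) t, hm.2, pow_add, pow_mul, hgt, one_pow, pow_one, mul_one]
    have hinj : Function.Injective e := by
      intro a b hab
      have h1 : g a ^ j = g b ^ j := mul_right_cancel (congrArg Subtype.val hab)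
      have h2 : g a = g b := by rw [← hback a, h1, hback b]
      have h3 : w ^ (a : ℕ) = w ^ (b : ℕ) := mul_right_cancel h2
      apply Fin.ext
      exact pow_injOn_Iio_orderOf a.2 b.2 h3
    have hbij : Function.Bijective e := (Nat.bijective_iff_injective_and_card e).mpr ⟨hinj, by
      rw [Nat.card_fin, Nat.card_zpowers]⟩
    letI : Fintype (Subgroup.zpowers w) := Fintype.ofFinite _
    set S : V := ∏ c : Subgroup.zpowers w, conjV (c : G) (Subgroup.zpowers_le.mpr hwn c.2) u with hS
    have hSfix : conjV w hwn S = S := by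
      let cw : V →* V :=
        { toFun := conjV w hwn
          map_one' := Subtype.ext (by simp [conjV])
          map_mul' := fun a b => Subtype.ext (by simp [conjV, mul_assoc]) }
      show cw S = S
      rw [hS, map_prod]
      refine Fintype.prod_equiv (Equiv.mulLeft ⟨w, Subgroup.mem_zpowers w⟩) _ _ fun c => ?_
      exact Subtype.ext (by simp [cw, conjV, mul_assoc])
    have hS1 : S = 1 := by
      by_contra hne
      have hS' : (S : G) ≠ 1 := fun h => hne (Subtype.ext h)
      have hc : Commute w (S : G) := by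
        have := congrArg Subtype.val hSfix
        exact mul_inv_eq_iff_eq_mul.mp this
      exact hws ((hG.orderOf_eq_of_commute hw1 hS' hc).trans (hG.orderOf_of_mem hs hVs S.2 hS'))
    have hre : ∏ i ∈ Finset.range q, conjV (g i ^ j) (M.pow_mem (hgn i) j) v' = S := by
      rw [Finset.prod_range]
      refine Fintype.prod_bijective e hbij _ _ fun i => Subtype.ext ?_
      simp [e, u, conjV, mul_assoc]
    rw [hre, hS1]
  have htot : ∏ k ∈ Finset.range t, ∏ i ∈ Finset.range q, conjV (g i ^ k) (M.pow_mem (hgn i) k) v' = 1 := by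
    rw [Finset.prod_comm]
    exact Finset.prod_eq_one fun i _ => hnorm i v'
  rw [← Finset.mul_prod_erase _ _ (Finset.mem_range.mpr htp.pos),
    Finset.prod_eq_one (s := (Finset.range t).erase 0) (fun k hk => hsum k
      (Finset.mem_range.mp (Finset.mem_of_mem_erase hk)) (Finset.ne_of_mem_erase hk)), mul_one] at htot
  have hc0 : ∀ i, conjV (g i ^ 0) (M.pow_mem (hgn i) 0) v' = v' := fun i => Subtype.ext (by simp [conjV])
  simp only [hc0, Finset.prod_const, Finset.card_range] at htot
  have hq' : v ^ q = 1 := congrArg Subtype.val htot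
  have h5 : orderOf v ∣ q := orderOf_dvd_of_pow_eq_one hq'
  rw [hG.orderOf_of_mem hs hVs hvV hv1] at h5
  exact hws ((Nat.prime_dvd_prime_iff_eq hs hqp).mp h5).symm

/-- A `q`-subgroup normalizing an abelian `s`-group has order `q` at most. -/
theorem PrimeOrders.card_of_normalizes (hG : PrimeOrders G) {s : ℕ} (hs : s.Prime)
    (V : Subgroup G) [IsMulCommutative V] (hV : V ≠ ⊥) (hVs : IsPGroup s V) {q : ℕ} [Fact q.Prime]
    (hq : q ≠ s) {W : Subgroup G} (hW : IsPGroup q W) (hWn : W ≤ Subgroup.normalizer (V : Set G))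
    (hWne : W ≠ ⊥) : Nat.card W = q := by
  have hord : ∀ w ∈ W, w ≠ 1 → orderOf w = q := fun w hw hw1 =>
    hG.orderOf_of_mem Fact.out hW hw hw1
  have hF : Frobenius.IsFPF W V := by
    refine ⟨hWn, fun w hw hw1 => ?_⟩
    rw [Subgroup.eq_bot_iff_forall]
    rintro v ⟨hv, hvw⟩
    by_contra hv1
    have h1 : orderOf w = orderOf v := hG.orderOf_eq_of_commute hw1 hv1
      (Subgroup.mem_centralizer_iff.mp hvw _ rfl)
    rw [hord w hw hw1, hG.orderOf_of_mem hs hVs hv hv1] at h1
    exact hq h1
  haveI : Nontrivial W := (Subgroup.nontrivial_iff_ne_bot _).mpr hWne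
  haveI := hW.center_nontrivial
  obtain ⟨⟨⟨z, hzW⟩, hzc⟩, hz1⟩ := exists_ne (1 : Subgroup.center W)
  have hz1' : z ≠ 1 := fun h => hz1 (Subtype.ext (Subtype.ext h))
  have hWeq : W = Subgroup.zpowers z := by
    refine le_antisymm (fun w hw => ?_) (Subgroup.zpowers_le.mpr hzW)
    refine hF.mem_zpowers_of_commute hV hzW hw (hord z hzW hz1') ?_ ?_
    · exact hG.pow_eq_one Fact.out hW hw
    · exact (congrArg (fun t : W => (t : G)) (Subgroup.mem_center_iff.mp hzc ⟨w, hw⟩)).symm
  rw [hWeq, Nat.card_zpowers, hord z hzW hz1']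

/-- A group normalizing an abelian `s`-group without commuting elements of different orders has a
normal `q`-complement for every prime `q ≠ s`. -/
theorem PrimeOrders.exists_normal_complement (hG : PrimeOrders G) {s : ℕ} (hs : s.Prime)
    (V : Subgroup G) [IsMulCommutative V] (hV : V ≠ ⊥) (hVs : IsPGroup s V) (M : Subgroup G)
    (hM : M ≤ Subgroup.normalizer (V : Set G)) {q : ℕ} [Fact q.Prime] (hq : q ≠ s) :
    ∃ K : Subgroup M, K.Normal ∧ ∀ g : M, g ∈ K ↔ orderOf g ≠ q := by
  classical
  obtain ⟨W⟩ := (inferInstance : Nonempty (Sylow q M))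
  have hW' : IsPGroup q ((W : Subgroup M).map M.subtype) := W.isPGroup'.map _
  have hord : ∀ w : M, w ∈ (W : Subgroup M) → w ≠ 1 → orderOf (w : G) = q := fun w hw hw1 =>
    hG.orderOf_of_mem Fact.out hW' ⟨w, hw, rfl⟩ (fun h => hw1 (Subtype.ext h))
  have hcomp : Subgroup.normalizer ((W : Subgroup M) : Set M) ≤
      Subgroup.centralizer ((W : Subgroup M) : Set M) := by
    rcases eq_or_ne (W : Subgroup M) ⊥ with hbot | hbot
    · rw [hbot]
      intro x _
      rw [Subgroup.mem_centralizer_iff]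
      intro y hy
      rw [Subgroup.coe_bot, Set.mem_singleton_iff] at hy
      simp [hy]
    haveI : Nontrivial (W : Subgroup M) := (Subgroup.nontrivial_iff_ne_bot _).mpr hbot
    obtain ⟨⟨z, hzW⟩, hz1⟩ := exists_ne (1 : (W : Subgroup M))
    have hz1' : z ≠ 1 := fun h => hz1 (Subtype.ext h)
    have hWc : Nat.card ((W : Subgroup M).map M.subtype) = q :=
      hG.card_of_normalizes hs V hV hVs hq hW' ((Subgroup.map_subtype_le _).trans hM)
        (fun h => hbot ((Subgroup.map_eq_bot_iff_of_injective _ M.subtype_injective).mp h))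
    have hWeq' : (W : Subgroup M) = Subgroup.zpowers z := by
      have hcm : Nat.card ((W : Subgroup M).map M.subtype) = Nat.card (W : Subgroup M) :=
        Subgroup.card_map_of_injective M.subtype_injective
      refine (Subgroup.eq_of_le_of_card_ge (Subgroup.zpowers_le.mpr hzW) (le_of_eq ?_)).symm
      rw [← hcm, hWc,
        Nat.card_zpowers, ← Subgroup.orderOf_coe, hord z hzW hz1']
    have hWz : ∀ w ∈ (W : Subgroup M), w ∈ Subgroup.zpowers z := fun w hw => hWeq' ▸ hw
    intro y hy
    rw [Subgroup.mem_centralizer_iff]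
    intro w hw
    have hyz : (y : G) ∈ Subgroup.normalizer (Subgroup.zpowers (z : G) : Set G) := by
      have hWeq : (W : Subgroup M) = Subgroup.zpowers z :=
        le_antisymm hWz (Subgroup.zpowers_le.mpr hzW)
      have : (Subgroup.zpowers (z : G)) = (W : Subgroup M).map M.subtype := by
        rw [hWeq, MonoidHom.map_zpowers]; rfl
      rw [this]
      exact Subgroup.le_normalizer_map _ ⟨y, hy, rfl⟩
    have hc := hG.commute_of_normalizes hs V hV hVs (fun h => hz1' (Subtype.ext h))
      (hord z hzW hz1' ▸ hq) (hM z.2) (hM y.2) hyz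
    obtain ⟨k, rfl⟩ := hWz w hw
    exact ((show Commute y z from Subtype.ext hc).zpow_right k).eq.symm
  refine ⟨(MonoidHom.transferSylow W hcomp).ker, inferInstance, fun g => ⟨fun hgK hg => ?_, fun hg => ?_⟩⟩
  · refine MonoidHom.not_dvd_card_ker_transferSylow W hcomp ?_
    have h := Subgroup.orderOf_dvd_natCard _ hgK
    rwa [hg] at h
  rcases eq_or_ne g 1 with rfl | hg1
  · exact Subgroup.one_mem _
  set f := MonoidHom.transferSylow W hcomp
  have h1 : orderOf (f g) ∣ orderOf g := orderOf_map_dvd f g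
  obtain ⟨k, hk⟩ := IsPGroup.iff_orderOf.mp W.isPGroup' (f g)
  have hgp : (orderOf g).Prime := by
    rw [← Subgroup.orderOf_coe]; exact hG _ fun h => hg1 (Subtype.ext h)
  rcases (Nat.dvd_prime hgp).mp h1 with h2 | h2
  · exact orderOf_eq_one_iff.mp h2
  · exfalso
    refine hg ((Nat.prime_dvd_prime_iff_eq hgp Fact.out).mp ?_)
    exact hgp.dvd_of_dvd_pow (dvd_of_eq (h2 ▸ hk))

end Cfsg.Agent.FGS77
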