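import Cfsg.Agent.Lib.CharCore.Linear
import Cfsg.Agent.Lib.CharCore.Complete
import Cfsg.Agent.Lib.CharClifford.Central
import Cfsg.Agent.Lib.PGroup.Basic
import Mathlib.LinearAlgebra.Matrix.Kronecker

/-!
# Frobenius-Schur indicators and square roots of the identity in a 2-group
-/

set_option autoImplicit false

namespace Cfsg.Agent.FGS77

open scoped ComplexConjugate Kronecker BigOperators

universe u

variable {G : Type u} [Group G]

/-- The Frobenius-Schur indicator. -/
noncomputable def fsInd [Fintype G] (χ : G → ℂ) : ℂ :=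
  (Nat.card G : ℂ)⁻¹ * ∑ g : G, χ (g * g)

section Indicator

variable {n : Type} [Fintype n] [DecidableEq n]

/-- `A ⊗ A` followed by the exchange of the two factors. -/
def swapKron (A : Matrix n n ℂ) : Matrix (n × n) (n × n) ℂ :=
  (A ⊗ₖ A).submatrix Prod.swap id

theorem trace_swapKron (A : Matrix n n ℂ) : (swapKron A).trace = (A * A).trace := by
  simp [swapKron, Matrix.trace, Matrix.mul_apply, Fintype.sum_prod_type]
  rw [Finset.sum_comm]

theorem swapKron_mul_kron (A B : Matrix n n ℂ) : swapKron A * (B ⊗ₖ B) = swapKron (A * B) := by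
  rw [swapKron, swapKron, Matrix.mul_kronecker_mul]
  ext a b
  simp [Matrix.mul_apply]

theorem swapKron_mul_swapKron (A B : Matrix n n ℂ) :
    swapKron A * swapKron B = (A * B) ⊗ₖ (A * B) := by
  ext ⟨a, b⟩ ⟨c, d⟩
  simp only [swapKron, Matrix.mul_apply, Matrix.submatrix_apply, Matrix.kroneckerMap_apply,
    Prod.swap_prod_mk, id_eq, Prod.fst_swap, Prod.snd_swap, Fintype.sum_prod_type, Finset.sum_mul,
    Finset.mul_sum]
  refine Finset.sum_congr rfl fun i _ => Finset.sum_congr rfl fun j _ => ?_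
  ring

theorem trace_idempotent {m : Type} [Fintype m] [DecidableEq m] {E : Matrix m m ℂ}
    (hE : E * E = E) : ∃ k : ℕ, E.trace = k := by
  have hf : IsIdempotentElem (Matrix.toLin' E) := by
    show Matrix.toLin' E * Matrix.toLin' E = _
    rw [Module.End.mul_eq_comp, ← Matrix.toLin'_mul, hE]
  refine ⟨Module.finrank ℂ (LinearMap.range (Matrix.toLin' E)), ?_⟩
  rw [← Matrix.trace_toLin'_eq]
  exact (LinearMap.isProj_range_iff_isIdempotentElem _).mpr hf |>.trace

theorem isInt_fsInd_aux [Finite G] [Fintype G] (R : G →* Matrix n n ℂ) :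
    ∃ z : ℤ, fsInd (fun g => (R g).trace) = z := by
  set c : ℂ := (Nat.card G : ℂ)⁻¹ with hc
  have hcard : (Nat.card G : ℂ) ≠ 0 := Nat.cast_ne_zero.mpr Nat.card_pos.ne'
  set T : Matrix (n × n) (n × n) ℂ := c • ∑ g : G, swapKron (R g) with hT
  set P : Matrix (n × n) (n × n) ℂ := c • ∑ g : G, (R g ⊗ₖ R g) with hP
  have key : ∀ (F : G → Matrix (n × n) (n × n) ℂ) (A B : G → Matrix (n × n) (n × n) ℂ),
      (∀ g h, A g * B h = F (g * h)) →
      (c • ∑ g, A g) * (c • ∑ h, B h) = c • ∑ g, F g := by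
    intro F A B hAB
    rw [smul_mul_smul_comm, Finset.sum_mul_sum]
    simp only [hAB]
    have : ∀ g : G, ∑ h : G, F (g * h) = ∑ h : G, F h := fun g =>
      Fintype.sum_equiv (Equiv.mulLeft g) _ _ (fun h => rfl)
    simp only [this]
    rw [Finset.sum_const, Finset.card_univ, ← Nat.cast_smul_eq_nsmul ℂ, smul_smul,
      ← Nat.card_eq_fintype_card, hc, mul_assoc, inv_mul_cancel₀ hcard, mul_one]
  have hTT : T * T = P := key _ _ _ fun g h => by rw [swapKron_mul_swapKron, map_mul]
  have hTP : T * P = T := key _ _ _ fun g h => by rw [swapKron_mul_kron, map_mul]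
  have hPP : P * P = P := key _ _ _ fun g h => by rw [← Matrix.mul_kronecker_mul, map_mul]
  have hPT : P * T = T := by
    rw [← hTT, mul_assoc, hTT, hTP]
  obtain ⟨a, ha⟩ := trace_idempotent (E := (2⁻¹ : ℂ) • (P + T)) (by
    rw [smul_mul_smul_comm, add_mul, mul_add, mul_add, hPP, hPT, hTP, hTT]
    module)
  obtain ⟨b, hb⟩ := trace_idempotent (E := (2⁻¹ : ℂ) • (P - T)) (by
    rw [smul_mul_smul_comm, sub_mul, mul_sub, mul_sub, hPP, hPT, hTP, hTT]
    module)
  refine ⟨(a : ℤ) - b, ?_⟩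
  have hab : T.trace = (a : ℂ) - b := by
    clear_value T P
    rw [← ha, ← hb]
    simp only [Matrix.trace_smul, Matrix.trace_add, Matrix.trace_sub, smul_eq_mul]
    ring
  push_cast
  rw [← hab, hT, Matrix.trace_smul, Matrix.trace_sum, smul_eq_mul, fsInd, hc]
  simp [trace_swapKron, map_mul]

end Indicator

/-- The indicator of a character is an integer. -/
theorem exists_int_fsInd [Fintype G] {χ : G → ℂ} (hχ : Cfsg.IsCharacter G χ) :
    ∃ z : ℤ, fsInd χ = z := by
  obtain ⟨n, ρ, rfl⟩ := hχ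
  let R : G →* Matrix (Fin n) (Fin n) ℂ :=
    { toFun := fun g => LinearMap.toMatrix' (ρ g)
      map_one' := by rw [map_one]; exact LinearMap.toMatrix'_id
      map_mul' := fun g h => by rw [map_mul]; exact LinearMap.toMatrix'_mul _ _ }
  have e : ρ.character = fun g => (R g).trace := by
    funext g
    show LinearMap.trace ℂ _ (ρ g) = (LinearMap.toMatrix' (ρ g)).trace
    rw [← Matrix.trace_toLin'_eq, Matrix.toLin'_toMatrix']
  rw [e]
  exact isInt_fsInd_aux R

open Classical in
/-- `#{x | x² = 1} = ∑ χ(1) ν(χ)`. -/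
theorem card_sqrt_one_eq_sum [Fintype G] :
    (Nat.card {x : G // x ^ 2 = 1} : ℂ) =
      ∑ χ : Cfsg.IrrCharacter G, (χ : G → ℂ) 1 * fsInd (χ : G → ℂ) := by
  have hcard : (Nat.card G : ℂ) ≠ 0 := Nat.cast_ne_zero.mpr Nat.card_pos.ne'
  simp only [fsInd, Finset.mul_sum]
  rw [Finset.sum_comm]
  calc (Nat.card {x : G // x ^ 2 = 1} : ℂ)
      = ∑ g : G, if g * g = 1 then 1 else 0 := by
        rw [Finset.sum_boole, Nat.card_eq_fintype_card, Fintype.card_subtype]
        simp [pow_two]
    _ = _ := Finset.sum_congr rfl fun g _ => by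
        have h := CharCore.sum_degree_mul_apply (g * g)
        rw [show ∑ χ : Cfsg.IrrCharacter G,
            (χ : G → ℂ) 1 * ((Nat.card G : ℂ)⁻¹ * (χ : G → ℂ) (g * g)) =
            (Nat.card G : ℂ)⁻¹ * ∑ χ : Cfsg.IrrCharacter G, (χ : G → ℂ) 1 * (χ : G → ℂ) (g * g) by
          rw [Finset.mul_sum]; exact Finset.sum_congr rfl fun χ _ => by ring]
        rw [h]
        split_ifs <;> simp [hcard]

/-- The number of square roots of `1` in a 2-group with `|G/Φ(G)| ≥ 2^(2k+1)` is divisible by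
`2^(k+1)`. -/
theorem two_pow_dvd_card_sqrt_one [Finite G] (hG : IsPGroup 2 G) (k : ℕ)
    (hgen : 2 ^ (2 * k + 1) ≤ Nat.card (G ⧸ frattini G)) :
    2 ^ (k + 1) ∣ Nat.card {x : G // x ^ 2 = 1} := by
  classical
  haveI : Fact (Nat.Prime 2) := ⟨Nat.prime_two⟩
  have := Fintype.ofFinite G
  letI : CommGroup (G ⧸ frattini G) :=
    { (inferInstance : Group (G ⧸ frattini G)) with
      mul_comm := fun a b => (PGroup.quotient_frattini_commute hG a b).eq }
  haveI : NeZero ((Monoid.exponent (G ⧸ frattini G) : ℕ) : ℂ) :=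
    ⟨by exact_mod_cast Monoid.exponent_ne_zero_of_finite⟩
  have hΛcard : Nat.card ((G ⧸ frattini G) →* ℂˣ) = Nat.card (G ⧸ frattini G) :=
    CommGroup.card_monoidHom_of_hasEnoughRootsOfUnity (G ⧸ frattini G) ℂ
  haveI : Finite ((G ⧸ frattini G) →* ℂˣ) :=
    Nat.finite_of_card_ne_zero (by rw [hΛcard]; exact Nat.card_pos.ne')
  letI := Fintype.ofFinite ((G ⧸ frattini G) →* ℂˣ)
  -- twist action
  let lf : ((G ⧸ frattini G) →* ℂˣ) → (G →* ℂˣ) := fun l => l.comp (QuotientGroup.mk' (frattini G))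
  letI act : MulAction ((G ⧸ frattini G) →* ℂˣ) (Cfsg.IrrCharacter G) :=
    { smul := fun l χ => ⟨fun g => (lf l g : ℂ) * (χ : G → ℂ) g,
        CharCore.isIrrCharacter_hom_mul (lf l) χ.2⟩
      one_smul := fun χ => Subtype.ext (funext fun g => by
        show ((1 : ℂˣ) : ℂ) * (χ : G → ℂ) g = _
        simp)
      mul_smul := fun l l' χ => Subtype.ext (funext fun g => by
        show ((lf l g * lf l' g : ℂˣ) : ℂ) * (χ : G → ℂ) g = _
        rw [Units.val_mul, mul_assoc]
        rfl) }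
  have happ : ∀ (l : (G ⧸ frattini G) →* ℂˣ) (χ : Cfsg.IrrCharacter G) (g : G),
      ((l • χ : Cfsg.IrrCharacter G) : G → ℂ) g = (lf l g : ℂ) * (χ : G → ℂ) g := fun _ _ _ => rfl
  let f : Cfsg.IrrCharacter G → ℂ := fun χ => (χ : G → ℂ) 1 * fsInd (χ : G → ℂ)
  have hsq : ∀ l g, lf l g * lf l g = 1 := fun l g => by
    rw [← map_mul]
    show l ((g * g : G) : G ⧸ frattini G) = 1
    rw [QuotientGroup.mk_mul, ← pow_two, PGroup.quotient_frattini_pow hG, map_one]
  have hinv : ∀ (l : (G ⧸ frattini G) →* ℂˣ) χ, f (l • χ) = f χ := by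
    intro l χ
    simp only [f, fsInd, happ, map_one, Units.val_one, one_mul]
    congr 2
    refine Finset.sum_congr rfl fun g _ => ?_
    rw [map_mul, hsq, Units.val_one, one_mul]
  -- the size of a stabilizer
  have hstab : ∀ χ : Cfsg.IrrCharacter G, ∀ d : ℕ, (χ : G → ℂ) 1 = d →
      Nat.card (MulAction.stabilizer ((G ⧸ frattini G) →* ℂˣ) χ) ≤ d * d := by
    intro χ d hd
    have hψ : Cfsg.IsCharacter G (fun g => (χ : G → ℂ) g * conj ((χ : G → ℂ) g)) :=
      CharCore.isCharacter_mul (CharCore.irr_isCharacter χ)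
        (CharCore.IsCharacter.star (CharCore.irr_isCharacter χ))
    obtain ⟨m, hm⟩ := CharCore.IsCharacter.exists_sum hψ
    let L : ((G ⧸ frattini G) →* ℂˣ) → Cfsg.IrrCharacter G := fun l =>
      ⟨fun g => (lf l g : ℂ), CharCore.isIrrCharacter_hom (lf l)⟩
    have hLinj : Function.Injective L := fun l l' h => MonoidHom.ext fun q => Units.ext (by
      induction q using QuotientGroup.induction_on with
      | H g => exact congrFun (congrArg Subtype.val h) g)
    have hmult : ∀ l : MulAction.stabilizer ((G ⧸ frattini G) →* ℂˣ) χ, 1 ≤ m (L l.1) := by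
      intro l
      have h1 : Cfsg.classInner (fun g => (χ : G → ℂ) g * conj ((χ : G → ℂ) g)) (L l.1 : G → ℂ) = 1 := by
        have h2 := CharCore.classInner_irr_self χ
        have hl : (l.1 • χ : Cfsg.IrrCharacter G) = χ := l.2
        rw [← h2]
        simp only [Cfsg.classInner]
        congr 1
        refine Finset.sum_congr rfl fun g _ => ?_
        have hg : (χ : G → ℂ) g = (lf l.1 g : ℂ) * (χ : G → ℂ) g := by
          rw [← happ, hl]
        calc (χ : G → ℂ) g * conj ((χ : G → ℂ) g) * conj (lf l.1 g : ℂ)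
            = (χ : G → ℂ) g * conj ((lf l.1 g : ℂ) * (χ : G → ℂ) g) := by rw [map_mul]; ring
          _ = _ := by rw [← hg]
      rw [hm, CharCore.classInner_sum_all] at h1
      exact (Nat.cast_eq_one.mp h1).ge
    have hdeg : (∑ ψ : Cfsg.IrrCharacter G, (m ψ : ℂ) * (ψ : G → ℂ) 1) = ((d * d : ℕ) : ℂ) := by
      have := congrFun hm 1
      simp only [Finset.sum_apply, Pi.smul_apply, smul_eq_mul, hd, Complex.conj_natCast] at this
      rw [← this]; push_cast; rfl
    choose deg hdegpos hdeg' using fun ψ : Cfsg.IrrCharacter G =>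
      CharCore.IsIrrCharacter.exists_degree ψ.2
    simp only [hdeg'] at hdeg
    have hdeg2 : ∑ ψ, m ψ * deg ψ = d * d := by exact_mod_cast hdeg
    rw [← hdeg2, Nat.card_eq_fintype_card, ← Finset.card_univ, Finset.card_eq_sum_ones]
    calc ∑ _l : MulAction.stabilizer ((G ⧸ frattini G) →* ℂˣ) χ, 1
        ≤ ∑ l : MulAction.stabilizer ((G ⧸ frattini G) →* ℂˣ) χ, m (L l.1) * deg (L l.1) :=
          Finset.sum_le_sum fun l _ => Nat.one_le_iff_ne_zero.mpr
            (Nat.mul_ne_zero (Nat.one_le_iff_ne_zero.mp (hmult l)) (hdegpos _).ne')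
      _ = ∑ ψ ∈ Finset.univ.image (fun l : MulAction.stabilizer ((G ⧸ frattini G) →* ℂˣ) χ =>
            L l.1), m ψ * deg ψ := by
          rw [Finset.sum_image]
          intro a _ b _ h
          exact Subtype.ext (hLinj h)
      _ ≤ _ := Finset.sum_le_sum_of_subset (Finset.subset_univ _)
  -- the contribution of an orbit
  have horb : ∀ χ : Cfsg.IrrCharacter G, ∃ z : ℤ,
      (Nat.card (MulAction.orbit ((G ⧸ frattini G) →* ℂˣ) χ) : ℂ) * f χ =
        ((2 ^ (k + 1) : ℕ) : ℂ) * z := by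
    intro χ
    obtain ⟨a, ha⟩ := IsPGroup.iff_card.mp hG
    obtain ⟨d, hdpos, hddvd, hd⟩ := CharClifford.exists_degree_dvd_card χ.2
    rw [ha] at hddvd
    obtain ⟨j, -, rfl⟩ := (Nat.dvd_prime_pow Nat.prime_two).mp hddvd
    obtain ⟨z, hz⟩ := exists_int_fsInd (CharCore.irr_isCharacter χ)
    have hV : ∃ e, Nat.card ((G ⧸ frattini G) →* ℂˣ) = 2 ^ e := by
      rw [hΛcard]
      obtain ⟨e, -, he⟩ := (Nat.dvd_prime_pow Nat.prime_two).mp
        (ha ▸ Subgroup.card_quotient_dvd_card (frattini G))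
      exact ⟨e, he⟩
    obtain ⟨e, he⟩ := hV
    have hek : 2 * k + 1 ≤ e := by
      rw [hΛcard] at he
      rw [he] at hgen
      exact (Nat.pow_le_pow_iff_right (by norm_num)).mp hgen
    have hprod : Nat.card (MulAction.orbit ((G ⧸ frattini G) →* ℂˣ) χ) *
        Nat.card (MulAction.stabilizer ((G ⧸ frattini G) →* ℂˣ) χ) = 2 ^ e := by
      rw [← he, ← Nat.card_prod]
      exact Nat.card_congr (MulAction.orbitProdStabilizerEquivGroup _ χ)
    obtain ⟨s, -, hs⟩ := (Nat.dvd_prime_pow Nat.prime_two).mp (Dvd.intro_left _ hprod)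
    have hs2 : s ≤ j + j := by
      have := hstab χ _ hd
      rw [hs, ← pow_add] at this
      exact (Nat.pow_le_pow_iff_right (by norm_num)).mp this
    obtain ⟨o, -, ho⟩ := (Nat.dvd_prime_pow Nat.prime_two).mp (Dvd.intro _ hprod)
    have hos : o + s = e := by
      rw [ho, hs, ← pow_add] at hprod
      exact Nat.pow_right_injective (le_refl 2) hprod
    obtain ⟨r, hr⟩ : 2 ^ (k + 1) ∣ 2 ^ o * 2 ^ j := by
      rw [← pow_add]; exact pow_dvd_pow 2 (by omega)
    refine ⟨(r : ℤ) * z, ?_⟩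
    simp only [f, hz, hd, ho]
    rw [← mul_assoc, ← Nat.cast_mul, hr]
    push_cast
    ring
  have hsum := card_sqrt_one_eq_sum (G := G)
  change _ = ∑ χ, f χ at hsum
  choose z hz using horb
  let q : Cfsg.IrrCharacter G →
      MulAction.orbitRel.Quotient ((G ⧸ frattini G) →* ℂˣ) (Cfsg.IrrCharacter G) :=
    fun χ => Quotient.mk'' χ
  have key : ∑ χ, f χ = ((2 ^ (k + 1) : ℕ) : ℂ) * ((∑ o : MulAction.orbitRel.Quotient ((G ⧸ frattini G) →* ℂˣ) (Cfsg.IrrCharacter G), z (Quotient.out o) : ℤ) : ℂ) := by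
    rw [← Finset.sum_fiberwise Finset.univ q f, Int.cast_sum, Finset.mul_sum]
    refine Finset.sum_congr rfl fun o _ => ?_
    rw [← hz, Finset.sum_congr rfl (g := fun _ => f (Quotient.out o))]
    · rw [Finset.sum_const, nsmul_eq_mul, Nat.card_eq_fintype_card, Fintype.card_subtype]
      congr 3
      ext χ
      simp only [Finset.mem_filter, Finset.mem_univ, true_and, q]
      constructor
      · intro h
        rw [← MulAction.orbitRel_apply]
        exact Quotient.exact' (h.trans (Quotient.out_eq o).symm)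
      · intro h
        exact (Quotient.sound' (MulAction.orbitRel_apply.mpr h)).trans (Quotient.out_eq o)
    · intro χ hχ
      obtain ⟨l, hl⟩ := MulAction.orbitRel_apply.mp
        (Quotient.exact' ((Finset.mem_filter.mp hχ).2.trans (Quotient.out_eq o).symm))
      show f χ = _
      rw [← hl]
      exact hinv l _
  rw [key] at hsum
  have hint : (Nat.card {x : G // x ^ 2 = 1} : ℤ) = ((2 ^ (k + 1) : ℕ) : ℤ) * ∑ o : MulAction.orbitRel.Quotient ((G ⧸ frattini G) →* ℂˣ) (Cfsg.IrrCharacter G), z (Quotient.out o) := by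
    exact_mod_cast hsum
  exact Int.natCast_dvd_natCast.mp (Dvd.intro _ hint.symm)

end Cfsg.Agent.FGS77
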