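import Mathlib

/-!
# Generators of groups of unitriangular matrices

A group of unitriangular `r × r` matrices is generated by at most `r² / 4` elements modulo its
derived group (leading positions form a triangle free graph).
-/

set_option autoImplicit false

open Subgroup
open scoped commutatorElement

namespace Cfsg.Agent.FGS77.Unitriangular

/-- Mantel's bound for sets of increasing pairs without a triangle. -/
theorem mantel {α : Type*} [LinearOrder α] : ∀ (n : ℕ) (V : Finset α) (U : Finset (α × α)),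
    V.card ≤ n → (∀ e ∈ U, e.1 < e.2 ∧ e.1 ∈ V ∧ e.2 ∈ V) →
    (∀ a b c, (a, b) ∈ U → (b, c) ∈ U → (a, c) ∈ U → False) → 4 * U.card ≤ V.card * V.card := by
  intro n
  induction n with
  | zero =>
    intro V U hV hU _
    have : U = ∅ := Finset.eq_empty_of_forall_notMem fun e he => by
      have h1 := (hU e he).2.1
      rw [Finset.card_eq_zero.mp (Nat.le_zero.mp hV)] at h1
      exact Finset.notMem_empty _ h1
    simp [this]
  | succ n ih =>
    intro V U hV hU hT
    by_cases hU0 : U = ∅
    · simp [hU0]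
    obtain ⟨⟨u, v⟩, huv⟩ := Finset.nonempty_iff_ne_empty.mpr hU0
    obtain ⟨hlt, huV, hvV⟩ := hU _ huv
    simp only at hlt huV hvV
    set V' := (V.erase v).erase u with hV'
    have hV'c : V'.card + 2 = V.card := by
      rw [hV', Finset.card_erase_of_mem (Finset.mem_erase.mpr ⟨hlt.ne, huV⟩),
        Finset.card_erase_of_mem hvV]
      have : 2 ≤ V.card := Finset.one_lt_card.mpr ⟨u, huV, v, hvV, hlt.ne⟩
      omega
    set U1 := U.filter (fun e => e.1 ∈ V' ∧ e.2 ∈ V') with hU1
    set U2 := (U.erase (u, v)).filter (fun e => ¬ (e.1 ∈ V' ∧ e.2 ∈ V')) with hU2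
    have hsplit : U.card ≤ U1.card + U2.card + 1 := by
      refine le_trans (Finset.card_le_card (t := insert (u, v) (U1 ∪ U2)) fun e he => ?_) ?_
      · by_cases h1 : e = (u, v)
        · exact Finset.mem_insert.mpr (Or.inl h1)
        · refine Finset.mem_insert.mpr (Or.inr (Finset.mem_union.mpr ?_))
          by_cases h2 : e.1 ∈ V' ∧ e.2 ∈ V'
          · exact Or.inl (Finset.mem_filter.mpr ⟨he, h2⟩)
          · exact Or.inr (Finset.mem_filter.mpr ⟨Finset.mem_erase.mpr ⟨h1, he⟩, h2⟩)
      · exact (Finset.card_insert_le _ _).trans (Nat.add_le_add_right (Finset.card_union_le _ _) 1)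
    have hin : ∀ x, x ∈ V' ↔ x ≠ u ∧ x ≠ v ∧ x ∈ V := fun x => by
      simp [hV', Finset.mem_erase]
    have h2 : U2.card ≤ V'.card := by
      refine Finset.card_le_card_of_injOn (fun e => if e.1 = u ∨ e.1 = v then e.2 else e.1) ?_ ?_
      · intro e he
        obtain ⟨he1, he2⟩ := Finset.mem_filter.mp he
        obtain ⟨hne, heU⟩ := Finset.mem_erase.mp he1
        obtain ⟨h1, h3, h4⟩ := hU e heU
        show (if e.1 = u ∨ e.1 = v then e.2 else e.1) ∈ V'
        by_cases hc : e.1 = u ∨ e.1 = v
        · rw [if_pos hc, hin]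
          refine ⟨fun h => ?_, fun h => ?_, h4⟩
          · rcases hc with hc | hc
            · rw [hc, h] at h1; exact lt_irrefl _ h1
            · rw [hc, h] at h1; exact lt_asymm h1 hlt
          · rcases hc with hc | hc
            · exact hne (Prod.ext hc h)
            · rw [hc, h] at h1; exact lt_irrefl _ h1
        · rw [if_neg hc, hin]
          push Not at hc
          exact ⟨hc.1, hc.2, h3⟩
      · intro e he f hf hef
        obtain ⟨he1, he2⟩ := Finset.mem_filter.mp he
        obtain ⟨hf1, hf2⟩ := Finset.mem_filter.mp hf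
        obtain ⟨hne, heU⟩ := Finset.mem_erase.mp he1
        obtain ⟨hnf, hfU⟩ := Finset.mem_erase.mp hf1
        obtain ⟨h1, h3, h4⟩ := hU e heU
        obtain ⟨k1, k3, k4⟩ := hU f hfU
        simp only [hin] at he2 hf2
        obtain ⟨a, b⟩ := e
        obtain ⟨c, d⟩ := f
        simp only at *
        have hb : ¬ (a = u ∨ a = v) → b = u ∨ b = v := fun h => by
          by_contra hb; push Not at h hb; exact he2 ⟨⟨h.1, h.2, h3⟩, hb.1, hb.2, h4⟩
        have hd : ¬ (c = u ∨ c = v) → d = u ∨ d = v := fun h => by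
          by_contra hd; push Not at h hd; exact hf2 ⟨⟨h.1, h.2, k3⟩, hd.1, hd.2, k4⟩
        by_cases hca : a = u ∨ a = v
        · rw [if_pos hca] at hef
          by_cases hcc : c = u ∨ c = v
          · rw [if_pos hcc] at hef
            subst hef
            rcases hca with rfl | rfl <;> rcases hcc with rfl | rfl
            · rfl
            · exact (hT _ _ _ huv hfU heU).elim
            · exact (hT _ _ _ huv heU hfU).elim
            · rfl
          · rw [if_neg hcc] at hef
            subst hef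
            rcases hca with rfl | rfl <;> rcases hd hcc with rfl | rfl
            · exact absurd h1 (lt_asymm k1)
            · exact (hT _ _ _ heU hfU huv).elim
            · exact absurd (h1.trans k1) (lt_asymm hlt)
            · exact absurd h1 (lt_asymm k1)
        · rw [if_neg hca] at hef
          by_cases hcc : c = u ∨ c = v
          · rw [if_pos hcc] at hef
            subst hef
            rcases hcc with rfl | rfl <;> rcases hb hca with rfl | rfl
            · exact absurd h1 (lt_asymm k1)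
            · exact (hT _ _ _ hfU heU huv).elim
            · exact absurd (k1.trans h1) (lt_asymm hlt)
            · exact absurd h1 (lt_asymm k1)
          · rw [if_neg hcc] at hef
            subst hef
            rcases hb hca with rfl | rfl <;> rcases hd hcc with rfl | rfl
            · rfl
            · exact (hT _ _ _ heU huv hfU).elim
            · exact (hT _ _ _ hfU huv heU).elim
            · rfl
    have h1 := ih V' U1 (by omega)
      (fun e he => by
        obtain ⟨h5, h6, h7⟩ := Finset.mem_filter.mp he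
        exact ⟨(hU e h5).1, h6, h7⟩)
      (fun a b c h5 h6 h7 => hT a b c (Finset.mem_filter.mp h5).1 (Finset.mem_filter.mp h6).1
        (Finset.mem_filter.mp h7).1)
    nlinarith

variable {r p : ℕ} [hp : Fact p.Prime]

/-- Order of the positions: first the superdiagonal, then the row. -/
def key (e : Fin r × Fin r) : ℕ := ((e.2 : ℕ) - e.1) * r + e.1

theorem key_inj {e f : Fin r × Fin r} (he : e.1 < e.2) (hf : f.1 < f.2) (h : key e = key f) :
    e = f := by
  have hr : 0 < r := e.1.pos
  have h1 := congrArg (· % r) h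
  simp only [key, Nat.mul_add_mod_self_right, Nat.mod_eq_of_lt e.1.2, Nat.mod_eq_of_lt f.1.2] at h1
  have h2 := congrArg (· / r) h
  simp only [key, Nat.add_comm _ (e.1 : ℕ), Nat.add_comm _ (f.1 : ℕ),
    Nat.add_mul_div_right _ _ hr, Nat.div_eq_of_lt e.1.2, Nat.div_eq_of_lt f.1.2] at h2
  have h3 : (e.1 : ℕ) < e.2 := he
  have h4 : (f.1 : ℕ) < f.2 := hf
  exact Prod.ext (Fin.ext h1) (Fin.ext (by omega))

theorem key_lt (e : Fin r × Fin r) : key e < r * r + r := by
  have := e.1.2
  have : (e.2 : ℕ) - e.1 ≤ r := by have := e.2.2; omega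
  have := Nat.mul_le_mul_right r this
  simp only [key]
  omega

variable {H : Type*} [Group H] (ρ : H →* Matrix (Fin r) (Fin r) (ZMod p))

/-- `ρ` is upper unitriangular. -/
def IsUni : Prop := ∀ h i j, (j < i → ρ h i j = 0) ∧ ρ h i i = 1

variable {ρ}

theorem apply_mul (hρ : IsUni ρ) (g h : H) {i j : Fin r} (hij : i < j) :
    ρ (g * h) i j = ρ g i j + ρ h i j + ∑ t ∈ Finset.Ioo i j, ρ g i t * ρ h t j := by
  rw [map_mul, Matrix.mul_apply,
    ← Finset.sum_subset (Finset.subset_univ (Finset.Icc i j)) fun t _ ht => ?_]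
  · rw [← Finset.Ioc_insert_left hij.le, Finset.sum_insert Finset.left_notMem_Ioc,
      ← Finset.Ioo_insert_right hij, Finset.sum_insert Finset.right_notMem_Ioo, (hρ g i i).2,
      (hρ h j j).2]
    ring
  · rw [Finset.mem_Icc, not_and_or, not_le, not_le] at ht
    rcases ht with ht | ht
    · rw [(hρ g i t).1 ht, zero_mul]
    · rw [(hρ h t j).1 ht, mul_zero]

/-- All positions before `n` vanish. -/
def Vanish (ρ : H →* Matrix (Fin r) (Fin r) (ZMod p)) (n : ℕ) (h : H) : Prop :=
  ∀ i j : Fin r, i < j → key (i, j) < n → ρ h i j = 0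

theorem key_lt_key_left {i t j : Fin r} (h1 : i < t) (h2 : t < j) : key (i, t) < key (i, j) := by
  have h3 : ((t : ℕ) - i) + 1 ≤ (j : ℕ) - i := by
    have : (i : ℕ) < t := h1
    have : (t : ℕ) < j := h2
    omega
  have := Nat.mul_le_mul_right r h3
  rw [add_mul, one_mul] at this
  have := i.2
  simp only [key]; omega

theorem apply_mul_of_vanish (hρ : IsUni ρ) {n : ℕ} {g h : H} (hg : Vanish ρ n g) {i j : Fin r}
    (hij : i < j) (hk : key (i, j) ≤ n) : ρ (g * h) i j = ρ g i j + ρ h i j := by
  rw [apply_mul hρ g h hij, add_eq_left]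
  refine Finset.sum_eq_zero fun t ht => ?_
  obtain ⟨h1, h2⟩ := Finset.mem_Ioo.mp ht
  rw [hg i t h1 (lt_of_lt_of_le (key_lt_key_left h1 h2) hk), zero_mul]

theorem vanish_one (n : ℕ) : Vanish ρ n 1 := fun i j hij _ => by
  rw [map_one, Matrix.one_apply_ne hij.ne]

theorem vanish_mul (hρ : IsUni ρ) {n : ℕ} {g h : H} (hg : Vanish ρ n g) (hh : Vanish ρ n h) :
    Vanish ρ n (g * h) := fun i j hij hk => by
  rw [apply_mul_of_vanish hρ hg hij hk.le, hg i j hij hk, hh i j hij hk, add_zero]

theorem apply_pow_of_vanish (hρ : IsUni ρ) {n : ℕ} {g : H} (hg : Vanish ρ n g) {i j : Fin r}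
    (hij : i < j) (hk : key (i, j) ≤ n) : ∀ c : ℕ, ρ (g ^ c) i j = c * ρ g i j := by
  intro c
  induction c with
  | zero => rw [pow_zero, map_one, Matrix.one_apply_ne hij.ne, Nat.cast_zero, zero_mul]
  | succ c ih =>
    rw [pow_succ', apply_mul_of_vanish hρ hg hij hk, ih]
    push_cast; ring

theorem vanish_pow (hρ : IsUni ρ) {n : ℕ} {g : H} (hg : Vanish ρ n g) (c : ℕ) :
    Vanish ρ n (g ^ c) := by
  induction c with
  | zero => rw [pow_zero]; exact vanish_one n
  | succ c ih => rw [pow_succ']; exact vanish_mul hρ hg ih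

/-- Commutator of leading positions `(i, j)` and `(j, l)`. -/
theorem commutator_lead (hρ : IsUni ρ) {i j l : Fin r} (hij : i < j) (hjl : j < l) {g h : H}
    (hg : Vanish ρ (key (i, j)) g) (hh : Vanish ρ (key (j, l)) h) :
    Vanish ρ (key (i, l)) ⁅g, h⁆ ∧ ρ ⁅g, h⁆ i l = ρ g i j * ρ h j l := by
  have hr : 0 < r := i.pos
  have hdiff : ∀ x y : Fin r, x < y → key (x, y) ≤ key (i, l) →
      ρ (g * h) x y - ρ (h * g) x y = if key (x, y) = key (i, l) then ρ g i j * ρ h j l else 0 := by
    intro x y hxy hk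
    have hij' : (i : ℕ) < j := hij
    have hjl' : (j : ℕ) < l := hjl
    have hxy' : (x : ℕ) < y := hxy
    have hle1 : (y : ℕ) - x ≤ l - i := by
      by_contra hlt
      have := Nat.mul_le_mul_right r (show (l : ℕ) - i + 1 ≤ y - x by omega)
      rw [add_mul, one_mul] at this
      have := i.2
      simp only [key] at hk
      omega
    have hxi : (y : ℕ) - x = l - i → (x : ℕ) ≤ i := by
      intro e; simp only [key] at hk; rw [e] at hk; omega
    have hnz : ∀ {a b : Fin r} (f : H) (s t : Fin r), Vanish ρ (key (s, t)) f → s < t → a < b →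
        ρ f a b ≠ 0 → (t : ℕ) - s ≤ b - a ∧ ((b : ℕ) - a = t - s → (s : ℕ) ≤ a) := by
      intro a b f s t hf hst hab hne
      have hge : key (s, t) ≤ key (a, b) := not_lt.mp fun hlt => hne (hf a b hab hlt)
      constructor
      · by_contra hlt
        have := Nat.mul_le_mul_right r (show (b : ℕ) - a + 1 ≤ t - s by omega)
        rw [add_mul, one_mul] at this
        have := a.2
        simp only [key] at hge
        omega
      · intro e; simp only [key] at hge; rw [e] at hge; omega
    rw [apply_mul hρ g h hxy, apply_mul hρ h g hxy]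
    have h2 : ∑ t ∈ Finset.Ioo x y, ρ h x t * ρ g t y = 0 := by
      refine Finset.sum_eq_zero fun t ht => ?_
      obtain ⟨h3, h4⟩ := Finset.mem_Ioo.mp ht
      by_contra hne
      obtain ⟨hne1, hne2⟩ := mul_ne_zero_iff.mp hne
      obtain ⟨e1, e2⟩ := hnz h j l hh hjl h3 hne1
      obtain ⟨e3, e4⟩ := hnz g i j hg hij h4 hne2
      have h3' : (x : ℕ) < t := h3
      have h4' : (t : ℕ) < y := h4
      have := e2 (by omega)
      have := hxi (by omega)
      omega
    rw [h2]
    have h1 : ∀ t ∈ Finset.Ioo x y, ρ g x t * ρ h t y ≠ 0 → x = i ∧ t = j ∧ y = l := by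
      intro t ht hne
      obtain ⟨h3, h4⟩ := Finset.mem_Ioo.mp ht
      obtain ⟨hne1, hne2⟩ := mul_ne_zero_iff.mp hne
      obtain ⟨e1, e2⟩ := hnz g i j hg hij h3 hne1
      obtain ⟨e3, e4⟩ := hnz h j l hh hjl h4 hne2
      have h3' : (x : ℕ) < t := h3
      have h4' : (t : ℕ) < y := h4
      have := e2 (by omega)
      have := e4 (by omega)
      have := hxi (by omega)
      refine ⟨Fin.ext ?_, Fin.ext ?_, Fin.ext ?_⟩ <;> omega
    by_cases he : key (x, y) = key (i, l)
    · obtain ⟨rfl, rfl⟩ := Prod.mk.injEq .. ▸ key_inj hxy (hij.trans hjl) he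
      rw [if_pos he, Finset.sum_eq_single j]
      · ring
      · intro t ht hne
        by_contra hne'
        exact hne (h1 t ht hne').2.1
      · intro h'
        exact absurd (Finset.mem_Ioo.mpr ⟨hij, hjl⟩) h'
    · rw [if_neg he, Finset.sum_eq_zero]
      · ring
      · intro t ht
        by_contra hne
        obtain ⟨rfl, -, rfl⟩ := h1 t ht hne
        exact he rfl
  have hc : ⁅g, h⁆ * (h * g) = g * h := by rw [commutatorElement_def]; group
  have key' : ∀ m, m ≤ key (i, l) → Vanish ρ m ⁅g, h⁆ := by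
    intro m
    induction m with
    | zero => intro _ x y _ hk; omega
    | succ m ihm =>
      intro hm x y hxy hk
      rcases Nat.lt_succ_iff_lt_or_eq.mp hk with hk | hk
      · exact ihm (by omega) x y hxy hk
      · have h1 : ρ (⁅g, h⁆ * (h * g)) x y = ρ (g * h) x y := by rw [hc]
        rw [apply_mul_of_vanish hρ (ihm (by omega)) hxy hk.le] at h1
        have h2 := hdiff x y hxy (by omega)
        rw [if_neg (by omega), ← h1, add_sub_cancel_right] at h2
        exact h2
  refine ⟨key' _ le_rfl, ?_⟩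
  have h1 : ρ (⁅g, h⁆ * (h * g)) i l = ρ (g * h) i l := by rw [hc]
  rw [apply_mul_of_vanish hρ (key' _ le_rfl) (hij.trans hjl) le_rfl] at h1
  have h2 := hdiff i l (hij.trans hjl) le_rfl
  rwa [if_pos rfl, ← h1, add_sub_cancel_right] at h2

/-- A unitriangular group needs at most `r²/4` generators modulo derived group and kernel. -/
theorem exists_gens (hρ : IsUni ρ) : ∃ S : Finset H, S.card ≤ r * r / 4 ∧
    closure (S : Set H) ⊔ commutator H ⊔ ρ.ker = ⊤ := by
  classical
  let lead : Subgroup H → Fin r × Fin r → Prop := fun K e =>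
    ∃ h ∈ K, e.1 < e.2 ∧ Vanish ρ (key e) h ∧ ρ h e.1 e.2 ≠ 0
  let U := (Finset.univ : Finset (Fin r × Fin r)).filter
    (fun e => lead ⊤ e ∧ ¬ lead (commutator H) e)
  have hU : 4 * U.card ≤ r * r := by
    have := mantel _ (Finset.univ : Finset (Fin r)) U le_rfl
      (fun e he => ⟨by obtain ⟨h, -, hlt, -⟩ := (Finset.mem_filter.mp he).2.1; exact hlt,
        Finset.mem_univ _, Finset.mem_univ _⟩)
      (fun a b c hab hbc hac => by
        obtain ⟨g, -, h1, h2, h3⟩ := (Finset.mem_filter.mp hab).2.1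
        obtain ⟨h, -, k1, k2, k3⟩ := (Finset.mem_filter.mp hbc).2.1
        obtain ⟨e1, e2⟩ := commutator_lead hρ h1 k1 h2 k2
        refine (Finset.mem_filter.mp hac).2.2 ⟨⁅g, h⁆,
          commutator_mem_commutator (mem_top g) (mem_top h), h1.trans k1, e1, ?_⟩
        rw [e2]; exact mul_ne_zero h3 k3)
    simpa using this
  have hg : ∀ e ∈ U, ∃ g : H, Vanish ρ (key e) g ∧ ρ g e.1 e.2 ≠ 0 := fun e he => by
    obtain ⟨g, -, -, h2, h3⟩ := (Finset.mem_filter.mp he).2.1
    exact ⟨g, h2, h3⟩
  choose g hgv hgne using hg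
  refine ⟨U.attach.image (fun e => g e.1 e.2), ?_, ?_⟩
  · refine (Finset.card_image_le).trans ?_
    rw [Finset.card_attach, Nat.le_div_iff_mul_le (by norm_num)]
    linarith
  set B := closure ((U.attach.image (fun e => g e.1 e.2) : Finset H) : Set H) ⊔ commutator H ⊔ ρ.ker
  suffices ∀ k n, n + k = r * r + r → ∀ h, Vanish ρ n h → h ∈ B from
    (eq_top_iff' B).mpr fun h => this _ 0 (zero_add _) h (fun i j _ hk => absurd hk (Nat.not_lt_zero _))
  intro k
  induction k with
  | zero =>
    intro n hn h hh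
    refine mem_sup_right (MonoidHom.mem_ker.mpr (Matrix.ext fun i j => ?_))
    rcases lt_trichotomy i j with hij | rfl | hij
    · rw [Matrix.one_apply_ne hij.ne, hh i j hij (by have := key_lt (i, j); omega)]
    · rw [Matrix.one_apply_eq, (hρ h i i).2]
    · rw [Matrix.one_apply_ne hij.ne', (hρ h i j).1 hij]
  | succ k ih =>
    intro n hn h hh
    by_cases hall : ∀ i j : Fin r, i < j → key (i, j) = n → ρ h i j = 0
    · refine ih (n + 1) (by omega) h fun i j hij hk => ?_
      rcases Nat.lt_succ_iff_lt_or_eq.mp hk with hk | hk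
      exacts [hh i j hij hk, hall i j hij hk]
    push Not at hall
    obtain ⟨i, j, hij, hkey, hne⟩ := hall
    obtain ⟨g₀, hg₀B, hg₀v, hg₀ne⟩ : ∃ g₀ ∈ B, Vanish ρ n g₀ ∧ ρ g₀ i j ≠ 0 := by
      by_cases hc : lead (commutator H) (i, j)
      · obtain ⟨c, hc1, -, hc2, hc3⟩ := hc
        exact ⟨c, mem_sup_left (mem_sup_right hc1), hkey ▸ hc2, hc3⟩
      · have he : (i, j) ∈ U := Finset.mem_filter.mpr
          ⟨Finset.mem_univ _, ⟨h, mem_top h, hij, hkey ▸ hh, hne⟩, hc⟩
        refine ⟨g _ he, mem_sup_left (mem_sup_left (subset_closure ?_)), hkey ▸ hgv _ he, hgne _ he⟩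
        exact Finset.mem_image.mpr ⟨⟨(i, j), he⟩, Finset.mem_attach _ _, rfl⟩
    have : NeZero p := ⟨hp.out.ne_zero⟩
    set c := (-(ρ h i j) / ρ g₀ i j).val with hc
    have hval : ρ (h * g₀ ^ c) i j = 0 := by
      rw [apply_mul_of_vanish hρ hh hij hkey.le, apply_pow_of_vanish hρ hg₀v hij hkey.le, hc,
        ZMod.natCast_zmod_val, div_mul_cancel₀ _ hg₀ne, add_neg_cancel]
    have hvan : Vanish ρ (n + 1) (h * g₀ ^ c) := fun x y hxy hk => by
      rcases Nat.lt_succ_iff_lt_or_eq.mp hk with hk | hk
      · exact vanish_mul hρ hh (vanish_pow hρ hg₀v c) x y hxy hk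
      · obtain ⟨rfl, rfl⟩ := Prod.mk.injEq .. ▸ key_inj hxy hij (hk.trans hkey.symm)
        exact hval
    have := mul_mem (ih (n + 1) (by omega) _ hvan) (inv_mem (pow_mem hg₀B c))
    rwa [mul_inv_cancel_right] at this

end Cfsg.Agent.FGS77.Unitriangular
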